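import Mathlib

/-!
# Division in free modules over polynomial rings
-/

open MvPolynomial

namespace GrothLib.RigidBase

variable {S : Type*} [CommRing S] {σ : Type*} {r : ℕ} (m : MonomialOrder σ)

/-- The coefficient of a monomial of the free module. -/
noncomputable def coefF (v : Fin r → MvPolynomial σ S) (b : Fin r × (σ →₀ ℕ)) : S :=
  coeff b.2 (v b.1)

/-- The order key of a monomial of the free module. -/
noncomputable def key (b : Fin r × (σ →₀ ℕ)) : m.syn ×ₗ Fin r := toLex (m.toSyn b.2, b.1)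

lemma key_injective : Function.Injective (key (r := r) m) := by
  intro a b h
  simp only [key, EmbeddingLike.apply_eq_iff_eq, Prod.mk.injEq] at h
  exact Prod.ext h.2 h.1

lemma key_add_le {a b : Fin r × (σ →₀ ℕ)} (h : key m a ≤ key m b) (e : σ →₀ ℕ) :
    key m (a.1, a.2 + e) ≤ key m (b.1, b.2 + e) := by
  simp only [key, Prod.Lex.toLex_le_toLex, map_add, add_lt_add_iff_right, add_left_inj] at h ⊢
  exact h

lemma key_add_lt {a b : Fin r × (σ →₀ ℕ)} (h : key m a < key m b) (e : σ →₀ ℕ) :
    key m (a.1, a.2 + e) < key m (b.1, b.2 + e) := by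
  refine lt_of_le_of_ne (key_add_le m h.le e) fun he => h.ne ?_
  have := key_injective m he
  simp only [Prod.mk.injEq, add_left_inj] at this
  rw [show a = b from Prod.ext this.1 this.2]

/-- The monomials divisible by a given family of monomials. -/
def dvdSet {J : Type*} (lead : J → Fin r × (σ →₀ ℕ)) : Set (Fin r × (σ →₀ ℕ)) :=
  {b | ∃ j e, b = ((lead j).1, (lead j).2 + e)}

lemma coefF_sub (v w : Fin r → MvPolynomial σ S) (b) :
    coefF (v - w) b = coefF v b - coefF w b := by
  simp [coefF]

lemma coefF_monomial_smul (e : σ →₀ ℕ) (x : S) (v : Fin r → MvPolynomial σ S)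
    (b : Fin r × (σ →₀ ℕ)) :
    coefF (monomial e x • v) b =
      if e ≤ b.2 then x * coefF v (b.1, b.2 - e) else 0 := by
  simp [coefF, coeff_monomial_mul']

lemma exists_support (v : Fin r → MvPolynomial σ S) :
    ∃ s : Finset (Fin r × (σ →₀ ℕ)), ∀ b, coefF v b ≠ 0 → b ∈ s := by
  classical
  refine ⟨Finset.univ.biUnion fun i => (v i).support.image fun e => (i, e), fun b hb => ?_⟩
  simp only [Finset.mem_biUnion, Finset.mem_univ, Finset.mem_image, true_and, mem_support_iff]
  exact ⟨b.1, b.2, hb, rfl⟩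

/-- Division: if every `g j` has unit coefficient at `lead j` and no bigger monomial, every vector is
a combination of the `g j` plus a remainder without monomial divisible by some `lead j`. -/
theorem exists_division {J : Type*} [Fintype J] (g : J → Fin r → MvPolynomial σ S)
    (lead : J → Fin r × (σ →₀ ℕ)) (hu : ∀ j, IsUnit (coefF (g j) (lead j)))
    (htop : ∀ j b, coefF (g j) b ≠ 0 → key m b ≤ key m (lead j)) (v : Fin r → MvPolynomial σ S) :
    ∃ a : J → MvPolynomial σ S, ∀ b ∈ dvdSet lead, coefF (v - ∑ j, a j • g j) b = 0 := by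
  classical
  suffices H : ∀ (k : m.syn ×ₗ Fin r) (v : Fin r → MvPolynomial σ S),
      (∀ b ∈ dvdSet lead, coefF v b ≠ 0 → key m b ≤ k) →
      ∃ a : J → MvPolynomial σ S, ∀ b ∈ dvdSet lead, coefF (v - ∑ j, a j • g j) b = 0 by
    obtain ⟨s, hs⟩ := exists_support v
    by_cases hne : ∃ b ∈ dvdSet lead, coefF v b ≠ 0
    · obtain ⟨b0, hb0, hb0'⟩ := hne
      obtain ⟨bmax, hbm, hmax⟩ := (s.filter fun b => b ∈ dvdSet lead ∧ coefF v b ≠ 0).exists_max_image
        (key m) ⟨b0, Finset.mem_filter.2 ⟨hs _ hb0', hb0, hb0'⟩⟩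
      exact H (key m bmax) v fun b hb hb' => hmax b (Finset.mem_filter.2 ⟨hs _ hb', hb, hb'⟩)
    · push Not at hne
      exact ⟨0, fun b hb => by simpa using hne b hb⟩
  intro k
  induction k using WellFoundedLT.induction with
  | ind k ih =>
    intro v hv
    obtain ⟨s, hs⟩ := exists_support v
    by_cases hne : ∃ b ∈ dvdSet lead, coefF v b ≠ 0
    · obtain ⟨b0, hb0, hb0'⟩ := hne
      obtain ⟨bmax, hbm, hmax⟩ := (s.filter fun b => b ∈ dvdSet lead ∧ coefF v b ≠ 0).exists_max_image
        (key m) ⟨b0, Finset.mem_filter.2 ⟨hs _ hb0', hb0, hb0'⟩⟩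
      obtain ⟨-, hbd, hbc⟩ := Finset.mem_filter.1 hbm
      have hkle := hv _ hbd hbc
      obtain ⟨j, e, rfl⟩ := hbd
      obtain ⟨x, hx⟩ := (hu j).exists_left_inv
      let c := coefF v ((lead j).1, (lead j).2 + e) * x
      have hlt : ∀ b ∈ dvdSet lead, coefF (v - monomial e c • g j) b ≠ 0 →
          key m b < key m ((lead j).1, (lead j).2 + e) := by
        intro b hb hb'
        have hle : key m b ≤ key m ((lead j).1, (lead j).2 + e) := by
          rw [coefF_sub] at hb'
          by_cases hv' : coefF v b = 0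
          · rw [hv', zero_sub, neg_ne_zero, coefF_monomial_smul] at hb'
            split_ifs at hb' with h
            · have := key_add_le m (htop j (b.1, b.2 - e) (right_ne_zero_of_mul hb')) e
              simpa [tsub_add_cancel_of_le h] using this
            · exact absurd rfl hb'
          · exact hmax b (Finset.mem_filter.2 ⟨hs _ hv', hb, hv'⟩)
        refine lt_of_le_of_ne hle fun he => hb' ?_
        rw [key_injective m he, coefF_sub, coefF_monomial_smul]
        simp only [le_add_iff_nonneg_left, zero_le, ↓reduceIte, add_tsub_cancel_right, Prod.mk.eta]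
        simp only [c, mul_assoc, hx, mul_one, sub_self]
      have hrec : ∃ a : J → MvPolynomial σ S,
          ∀ b ∈ dvdSet lead, coefF ((v - monomial e c • g j) - ∑ i, a i • g i) b = 0 := by
        obtain ⟨s', hs'⟩ := exists_support (v - monomial e c • g j)
        by_cases hne' : ∃ b ∈ dvdSet lead, coefF (v - monomial e c • g j) b ≠ 0
        · obtain ⟨b1, hb1, hb1'⟩ := hne'
          obtain ⟨b2, hb2, hmax2⟩ := (s'.filter fun b => b ∈ dvdSet lead ∧
            coefF (v - monomial e c • g j) b ≠ 0).exists_max_image (key m)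
            ⟨b1, Finset.mem_filter.2 ⟨hs' _ hb1', hb1, hb1'⟩⟩
          obtain ⟨-, hb2d, hb2c⟩ := Finset.mem_filter.1 hb2
          exact ih (key m b2) (lt_of_lt_of_le (hlt _ hb2d hb2c) hkle) _
            fun b hb hb' => hmax2 b (Finset.mem_filter.2 ⟨hs' _ hb', hb, hb'⟩)
        · push Not at hne'
          exact ⟨0, fun b hb => by simpa using hne' b hb⟩
      obtain ⟨a, ha⟩ := hrec
      refine ⟨a + Pi.single j (monomial e c), fun b hb => ?_⟩
      convert ha b hb using 2
      simp [add_smul, Finset.sum_add_distrib, Pi.single_apply, ite_smul, sub_sub, add_comm]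
    · push Not at hne
      exact ⟨0, fun b hb => by simpa using hne b hb⟩

/-- In a set of monomials, finitely many divide all the others. -/
theorem exists_finite_dvd [Finite σ] (E : Set (Fin r × (σ →₀ ℕ))) :
    ∃ t : Finset (Fin r × (σ →₀ ℕ)), ↑t ⊆ E ∧
      ∀ b ∈ E, b ∈ dvdSet (fun j : t => j.1) := by
  classical
  let Ei : Fin r → Set (σ →₀ ℕ) := fun i => {e | (i, e) ∈ E}
  have hwqo : ∀ i, (Ei i).IsPWO := fun i => Set.isPWO_of_wellQuasiOrderedLE _
  have hfin : ∀ i, {e | Minimal (· ∈ Ei i) e}.Finite := fun i =>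
    (setOfPred_minimal_antichain _).finite_of_partiallyWellOrderedOn
      ((hwqo i).mono (setOfPred_minimal_subset _))
  refine ⟨Finset.univ.biUnion fun i => (hfin i).toFinset.image fun e => (i, e), fun b hb => ?_,
    fun b hb => ?_⟩
  · obtain ⟨i, -, hb⟩ := Finset.mem_biUnion.1 hb
    obtain ⟨e, he, rfl⟩ := Finset.mem_image.1 hb
    exact ((Set.Finite.mem_toFinset _).1 he).1
  · obtain ⟨c, hcb, hc⟩ := (hwqo b.1).exists_le_minimal (show b.2 ∈ Ei b.1 from hb)
    refine ⟨⟨(b.1, c), Finset.mem_biUnion.2 ⟨b.1, Finset.mem_univ _,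
      Finset.mem_image.2 ⟨c, (Set.Finite.mem_toFinset _).2 hc, rfl⟩⟩⟩, b.2 - c, ?_⟩
    exact Prod.ext rfl (add_tsub_cancel_of_le hcb).symm

end GrothLib.RigidBase
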