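import Mathlib
import Groth.Agent.Lib.RigidBase.Division
import Groth.Agent.Lib.AdicLim.Noeth

/-!
# Saturated submodules of free modules over restricted power series rings over valuation rings
-/

open MvPolynomial

namespace GrothLib.RigidBase

universe u

/-- In a valuation domain, among finitely many elements one divides all others. -/
theorem exists_dvd_all {R : Type*} [CommRing R] [IsDomain R] [PreValuationRing R] (s : Finset R)
    (hs : s.Nonempty) : ∃ c ∈ s, ∀ x ∈ s, c ∣ x := by
  classical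
  induction hs using Finset.Nonempty.cons_induction with
  | singleton a => exact ⟨a, by simp, fun x hx => by simp_all⟩
  | cons a s ha hne ih =>
    obtain ⟨c, hcs, hc⟩ := ih
    rcases ValuationRing.dvd_total a c with h | h
    · refine ⟨a, by simp, fun x hx => ?_⟩
      rcases Finset.mem_cons.1 hx with rfl | hx
      · exact dvd_rfl
      · exact h.trans (hc x hx)
    · refine ⟨c, by simp [hcs], fun x hx => ?_⟩
      rcases Finset.mem_cons.1 hx with rfl | hx
      · exact h
      · exact hc x hx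

/-- A vector over the completion is determined modulo powers of `t` by a polynomial vector. -/
structure IsRPow {R : Type u} [CommRing R] (t : R) (n : ℕ) (P : Type u) [CommRing P]
    [Algebra R P] (ι : MvPolynomial (Fin n) R →ₐ[R] P) : Prop where
  /-- approximation by polynomials -/
  approx : ∀ (j : ℕ) (y : P), ∃ p z, y = ι p + t ^ j • z
  /-- polynomials inject modulo `t ^ j` -/
  inj : ∀ (j : ℕ) (p : MvPolynomial (Fin n) R) (z : P), ι p = t ^ j • z → ∃ q, p = t ^ j • q

variable {R : Type u} [CommRing R] [IsDomain R] [PreValuationRing R] {t : R} {n r : ℕ}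
  {P : Type u} [CommRing P] [Algebra R P] {ι : MvPolynomial (Fin n) R →ₐ[R] P}

/-- The coordinatewise image of a vector of polynomials. -/
noncomputable abbrev vecι (ι : MvPolynomial (Fin n) R →ₐ[R] P) (p : Fin r → MvPolynomial (Fin n) R) :
    Fin r → P := fun i => ι (p i)

omit [IsDomain R] [PreValuationRing R] in
lemma IsRPow.approx_vec (hP : IsRPow t n P ι) (j : ℕ) (y : Fin r → P) :
    ∃ p z, y = vecι ι p + t ^ j • z := by
  choose p z h using fun i => hP.approx j (y i)
  exact ⟨p, z, funext fun i => by simpa using h i⟩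

omit [IsDomain R] [PreValuationRing R] in
lemma IsRPow.coeff_dvd (hP : IsRPow t n P ι) {x : R} {j : ℕ} (hx : x ∣ t ^ j)
    {p : Fin r → MvPolynomial (Fin n) R} {z : Fin r → P} (h : vecι ι p = x • z)
    (b : Fin r × (Fin n →₀ ℕ)) : x ∣ coefF p b := by
  obtain ⟨d, hd⟩ := hx
  obtain ⟨q, w, hq⟩ := hP.approx j (z b.1)
  have hb : ι (p b.1 - x • q) = t ^ j • (x • w) := by
    have := congrFun h b.1
    simp only [Pi.smul_apply, vecι] at this
    rw [map_sub, map_smul, this, hq, smul_add, smul_comm x (t ^ j)]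
    abel
  obtain ⟨q', hq'⟩ := hP.inj j _ _ hb
  rw [sub_eq_iff_eq_add] at hq'
  refine ⟨d * coeff b.2 q' + coeff b.2 q, ?_⟩
  simp only [coefF, hq', coeff_add, coeff_smul, smul_eq_mul, hd]
  ring

variable (ι) in
/-- Leading monomials of the reductions of `N` modulo the maximal ideal. -/
def leadSet (t : R) (N : Submodule P (Fin r → P)) : Set (Fin r × (Fin n →₀ ℕ)) :=
  {b | ∃ v ∈ N, ∃ p z, v = vecι ι p + t • z ∧ IsUnit (coefF p b) ∧
    ∀ b', key (MonomialOrder.lex (σ := Fin n)) b < key MonomialOrder.lex b' →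
      ¬ IsUnit (coefF p b')}

/-- Key step: `N` is generated by finitely many vectors modulo `c • N`, `c` nonzero non-unit. -/
theorem exists_step (hP : IsRPow t n P ι) (ht0 : t ≠ 0) (htu : ¬ IsUnit t)
    (hdvd : ∀ x : R, x ≠ 0 → ∃ l, x ∣ t ^ l)
    (N : Submodule P (Fin r → P)) (hsat : ∀ γ : R, γ ≠ 0 → ∀ x, γ • x ∈ N → x ∈ N) :
    ∃ (c : R) (_ : ¬ IsUnit c) (T : Finset (Fin r → P)), (∀ x ∈ T, x ∈ N) ∧
      ∀ v ∈ N, ∃ a : (Fin r → P) → P, ∃ v' ∈ N, v = ∑ x ∈ T, a x • x + c • v' := by
  classical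
  let m : MonomialOrder (Fin n) := MonomialOrder.lex
  obtain ⟨τ, hτE, hτ⟩ := exists_finite_dvd (leadSet ι t N)
  choose g hgN p z hg hpu hptop using fun j : τ => hτE j.2
  -- the non-unit coefficients above the leading monomial
  choose s hs using fun j : τ => exists_support (p j)
  let F : Finset R := insert t (Finset.univ.biUnion fun j : τ =>
    ((s j).filter fun b => key m j.1 < key m b).image (coefF (p j)))
  obtain ⟨c, hcF, hc⟩ := exists_dvd_all F ⟨t, Finset.mem_insert_self _ _⟩
  have hct : c ∣ t := hc t (Finset.mem_insert_self _ _)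
  have hcu : ¬ IsUnit c := by
    rcases Finset.mem_insert.1 hcF with rfl | h
    · exact htu
    · obtain ⟨j, -, hb⟩ := Finset.mem_biUnion.1 h
      obtain ⟨b, hb', rfl⟩ := Finset.mem_image.1 hb
      exact hptop j b (Finset.mem_filter.1 hb').2
  have hc0 : c ≠ 0 := fun h => ht0 (by simpa [h] using hct)
  refine ⟨c, hcu, Finset.univ.image g, fun x hx => ?_, fun v hv => ?_⟩
  · obtain ⟨j, -, rfl⟩ := Finset.mem_image.1 hx; exact hgN j
  let π : R →+* R ⧸ Ideal.span {c} := Ideal.Quotient.mk _
  have hπ : ∀ x, π x = 0 ↔ c ∣ x := fun x => by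
    simp [π, Ideal.Quotient.eq_zero_iff_mem, Ideal.mem_span_singleton]
  let red : (Fin r → MvPolynomial (Fin n) R) → Fin r → MvPolynomial (Fin n) (R ⧸ Ideal.span {c}) :=
    fun q i => MvPolynomial.map π (q i)
  have hred : ∀ q b, coefF (red q) b = π (coefF q b) := fun q b => by
    simp [red, coefF, coeff_map]
  obtain ⟨q, y, rfl⟩ := hP.approx_vec 1 v
  rw [pow_one] at hv ⊢
  obtain ⟨a, ha⟩ := exists_division m (fun j : τ => red (p j)) (fun j => j.1)
    (fun j => by rw [hred]; exact (hpu j).map π)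
    (fun j b hb => by
      rw [hred] at hb
      by_contra hlt
      rw [not_le] at hlt
      refine hb ((hπ _).2 (hc _ (Finset.mem_insert_of_mem (Finset.mem_biUnion.2
        ⟨j, Finset.mem_univ _, Finset.mem_image.2 ⟨b, Finset.mem_filter.2 ⟨hs j b ?_, hlt⟩, rfl⟩⟩))))
      intro h0
      exact hb (by rw [h0, map_zero]))
    (red q)
  choose A hA using fun j => MvPolynomial.map_surjective π Ideal.Quotient.mk_surjective (a j)
  let w : Fin r → P := (vecι ι q + t • y) - ∑ j, ι (A j) • g j
  let q1 : Fin r → MvPolynomial (Fin n) R := q - ∑ j, A j • p j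
  have hwN : w ∈ N := N.sub_mem hv (N.sum_mem fun j _ => N.smul_mem _ (hgN j))
  obtain ⟨e, he⟩ := hct
  let y1 : Fin r → P := e • (y - ∑ j, ι (A j) • z j)
  have hw : w = vecι ι q1 + c • y1 := by
    funext i
    have hgi : ∀ j, g j i = ι (p j i) + t • z j i := fun j => by rw [hg j]; rfl
    simp only [w, q1, y1, vecι, Pi.sub_apply, Pi.add_apply, Pi.smul_apply, Finset.sum_apply,
      smul_smul, ← he, hgi, map_sub, map_sum, smul_eq_mul, map_mul, mul_add, smul_sub,
      Finset.smul_sum, Finset.sum_add_distrib, mul_smul_comm]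
    abel
  have hq1 : ∀ b ∈ dvdSet (fun j : τ => j.1), c ∣ coefF q1 b := by
    intro b hb
    rw [← hπ, ← hred]
    have : red q1 = red q - ∑ j, a j • red (p j) := by
      funext i
      simp [red, q1, map_sub, map_sum, hA, Finset.sum_apply]
    rw [this]
    exact ha b hb
  -- the content of the remainder is divisible by `c`
  have hcont : ∀ b, c ∣ coefF q1 b := by
    by_contra hne
    push Not at hne
    obtain ⟨b1, hb1⟩ := hne
    obtain ⟨s1, hs1⟩ := exists_support q1
    obtain ⟨γ, hγF, hγ⟩ := exists_dvd_all (insert c (s1.image (coefF q1))) ⟨c, Finset.mem_insert_self _ _⟩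
    have hγall : ∀ b, γ ∣ coefF q1 b := fun b => by
      by_cases h : coefF q1 b = 0
      · simp [h]
      · exact hγ _ (Finset.mem_insert_of_mem (Finset.mem_image.2 ⟨b, hs1 _ h, rfl⟩))
    have hcγ : ¬ c ∣ γ := fun h => hb1 (h.trans (hγall b1))
    rcases Finset.mem_insert.1 hγF with rfl | hγF
    · exact hcγ dvd_rfl
    obtain ⟨b0, -, hb0⟩ := Finset.mem_image.1 hγF
    obtain ⟨d, hd⟩ := hγ c (Finset.mem_insert_self _ _)
    have hγ0 : γ ≠ 0 := fun h => hcγ (h ▸ dvd_zero c)
    have hdu : ¬ IsUnit d := fun h => hcγ (by rw [hd]; exact (associated_mul_unit_right γ d h).symm.dvd)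
    choose f hf using hγall
    -- the primitive part
    let q2 : Fin r → MvPolynomial (Fin n) R := fun i =>
      ∑ e ∈ (q1 i).support, monomial e (f (i, e))
    have hq2 : q1 = γ • q2 := by
      funext i
      conv_lhs => rw [(q1 i).as_sum]
      simp only [q2, Pi.smul_apply, Finset.smul_sum, smul_monomial]
      exact Finset.sum_congr rfl fun e _ => by rw [show coeff e (q1 i) = _ from hf (i, e)]; rfl
    have hco : ∀ b, coefF q1 b = γ * coefF q2 b := fun b => by simp [hq2, coefF]
    have hw2 : vecι ι q2 + d • y1 ∈ N := hsat γ hγ0 _ (by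
      convert hwN using 1
      rw [hw, hq2, smul_add, smul_smul, ← hd]
      congr 1
      funext i
      simp [vecι])
    have hu2 : IsUnit (coefF q2 b0) := by
      have := hco b0
      rw [hb0] at this
      rw [mul_left_cancel₀ hγ0 (this.symm.trans (mul_one γ).symm)]
      exact isUnit_one
    obtain ⟨q3, y3, h3⟩ := hP.approx_vec 1 (vecι ι q2 + d • y1)
    rw [pow_one] at h3
    have hdt : d ∣ t := (Dvd.intro_left γ hd.symm).trans ⟨e, he⟩
    have hdiff : ∀ b, d ∣ coefF q3 b - coefF q2 b := fun b => by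
      obtain ⟨k, hk⟩ := id hdt
      rw [← coefF_sub]
      refine hP.coeff_dvd (j := 1) (by rw [pow_one]; exact hdt) (z := y1 - k • y3) ?_ b
      funext i
      have := congrFun h3 i
      simp only [vecι, Pi.add_apply, Pi.smul_apply, hk] at this
      simp only [vecι, Pi.sub_apply, Pi.smul_apply, map_sub, smul_sub, smul_smul]
      linear_combination (norm := module) -this
    have hunit : ∀ b, IsUnit (coefF q3 b) ↔ IsUnit (coefF q2 b) := by
      intro b
      obtain ⟨k, hk⟩ := hdiff b
      have : ValuationRing R := { }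
      constructor <;> intro hu <;> by_contra hn
      · refine (IsLocalRing.mem_maximalIdeal _).1 ?_ hu
        rw [eq_add_of_sub_eq hk]
        exact add_mem (Ideal.mul_mem_right _ _ ((IsLocalRing.mem_maximalIdeal _).2 hdu))
          ((IsLocalRing.mem_maximalIdeal _).2 hn)
      · refine (IsLocalRing.mem_maximalIdeal _).1 ?_ hu
        rw [show coefF q2 b = coefF q3 b - d * k by rw [← hk]; ring]
        exact sub_mem ((IsLocalRing.mem_maximalIdeal _).2 hn)
          (Ideal.mul_mem_right _ _ ((IsLocalRing.mem_maximalIdeal _).2 hdu))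
    obtain ⟨s3, hs3⟩ := exists_support q3
    obtain ⟨bs, hbs, hmax⟩ := (s3.filter fun b => IsUnit (coefF q3 b)).exists_max_image (key m)
      ⟨b0, Finset.mem_filter.2 ⟨hs3 _ ((hunit b0).2 hu2).ne_zero, (hunit b0).2 hu2⟩⟩
    have hbsu := (Finset.mem_filter.1 hbs).2
    have hbsE : bs ∈ leadSet ι t N := ⟨_, hw2, q3, y3, h3, hbsu, fun b' hlt hu => by
      exact absurd (hmax b' (Finset.mem_filter.2 ⟨hs3 _ hu.ne_zero, hu⟩)) (not_le.2 hlt)⟩
    have := hq1 bs (hτ bs hbsE)
    rw [hco, hd, mul_dvd_mul_iff_left hγ0] at this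
    exact hdu (isUnit_of_dvd_unit this ((hunit bs).1 hbsu))
  choose f hf using hcont
  let q2 : Fin r → MvPolynomial (Fin n) R := fun i =>
    ∑ e ∈ (q1 i).support, monomial e (f (i, e))
  have hq2 : q1 = c • q2 := by
    funext i
    conv_lhs => rw [(q1 i).as_sum]
    simp only [q2, Pi.smul_apply, Finset.smul_sum, smul_monomial]
    exact Finset.sum_congr rfl fun e _ => by rw [show coeff e (q1 i) = _ from hf (i, e)]; rfl
  have hw' : w = c • (vecι ι q2 + y1) := by
    rw [hw, hq2, smul_add]
    congr 1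
    funext i
    simp [vecι]
  refine ⟨fun x => ∑ j ∈ Finset.univ.filter (fun j => g j = x), ι (A j), _,
    hsat c hc0 _ (hw' ▸ hwN), ?_⟩
  rw [← hw']
  have : ∑ x ∈ Finset.univ.image g, (∑ j ∈ Finset.univ.filter (fun j => g j = x), ι (A j)) • x
      = ∑ j, ι (A j) • g j := by
    rw [← Finset.sum_fiberwise_of_maps_to (g := g) (fun j _ => Finset.mem_image_of_mem g (Finset.mem_univ j))
      (fun j => ι (A j) • g j)]
    refine Finset.sum_congr rfl fun x _ => ?_
    rw [Finset.sum_smul]
    exact Finset.sum_congr rfl fun j hj => by rw [(Finset.mem_filter.1 hj).2]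
  rw [this]
  simp [w]

/-- A saturated submodule of a finite free module is finitely generated. -/
theorem fg_of_saturated (hP : IsRPow t n P ι) [IsAdicComplete (Ideal.span {algebraMap R P t}) P]
    (ht0 : t ≠ 0) (htu : ¬ IsUnit t) (hdvd : ∀ x : R, x ≠ 0 → ∃ l, x ∣ t ^ l)
    (htn : ∀ x : R, ¬ IsUnit x → ∃ l, t ∣ x ^ l)
    (N : Submodule P (Fin r → P)) (hsat : ∀ γ : R, γ ≠ 0 → ∀ x, γ • x ∈ N → x ∈ N) :
    N.FG := by
  classical
  obtain ⟨c, hcu, T, hT, hstep⟩ := exists_step hP ht0 htu hdvd N hsat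
  obtain ⟨l, e, he⟩ := htn c hcu
  have hiter : ∀ k, ∀ v ∈ N, ∃ a : (Fin r → P) → P, ∃ v' ∈ N,
      v = ∑ x ∈ T, a x • x + c ^ k • v' := by
    intro k
    induction k with
    | zero => exact fun v hv => ⟨0, v, hv, by simp⟩
    | succ k ih =>
      intro v hv
      obtain ⟨a, v1, hv1, rfl⟩ := ih v hv
      obtain ⟨b, v2, hv2, rfl⟩ := hstep v1 hv1
      refine ⟨fun x => a x + c ^ k • b x, v2, hv2, ?_⟩
      simp only [add_smul, Finset.sum_add_distrib, smul_add, Finset.smul_sum, smul_assoc,
        pow_succ, mul_smul]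
      abel
  let I : Ideal P := Ideal.span {algebraMap R P t}
  refine ⟨T, le_antisymm (Submodule.span_le.2 fun x hx => hT x hx) fun v hv => ?_⟩
  have hH : ⨅ k, I ^ k • (⊤ : Submodule P (Fin r → P)) = ⊥ := by
    have : IsHausdorff I (Fin r → P) := ⟨fun x hx => funext fun i =>
      IsHausdorff.haus (inferInstance : IsHausdorff I P) _ fun k => by
        have h1 := SModEq.zero.1 (hx k)
        refine SModEq.zero.2 ?_
        refine Submodule.smul_induction_on h1 (fun a ha y _ => ?_) fun y z hy hz => ?_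
        · exact Submodule.smul_mem_smul ha (Submodule.mem_top (x := y i))
        · exact Submodule.add_mem _ hy hz⟩
    exact IsHausdorff.iInf_pow_smul (I := I) (M := Fin r → P) inferInstance
  obtain ⟨a, -, ha⟩ := GrothLib.AdicLim.exists_coeff_of_step (I := I) (fun x : T => x.1) 0
    (fun k y => ∃ y' ∈ N, y = t ^ k • y') (fun k => I ^ k • ⊤)
    (by
      rintro k y ⟨y', -, rfl⟩
      rw [← algebraMap_smul P (t ^ k) y', map_pow]
      exact Submodule.smul_mem_smul (Ideal.pow_mem_pow (Ideal.mem_span_singleton_self _) k) trivial)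
    (fun k => le_rfl) hH
    (by
      rintro k y ⟨y', hy', rfl⟩
      obtain ⟨a, v', hv', rfl⟩ := hiter l y' hy'
      refine ⟨fun x => algebraMap R P t ^ k * a x.1, fun x => ?_, e • v', ?_, ?_⟩
      · rw [add_zero]
        exact Ideal.mul_mem_right _ _ (Ideal.pow_mem_pow (Ideal.mem_span_singleton_self _) k)
      · exact N.smul_of_tower_mem e hv'
      · rw [Finset.sum_coe_sort T fun x => (algebraMap R P t ^ k * a x) • x, smul_add,
          Finset.smul_sum]
        simp only [← map_pow, mul_smul, algebraMap_smul]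
        simp only [smul_smul, he, pow_succ, mul_assoc]
        abel)
    (x := v) ⟨v, hv, by simp⟩
  rw [ha]
  exact Submodule.sum_mem _ fun x _ => Submodule.smul_mem _ _ (Submodule.subset_span x.2)

end GrothLib.RigidBase
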