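import Mathlib
import Groth.Prelude.Def_W4bk4boschfrg79
import Groth.Agent.Lib.RigidBase.Saturated
import Groth.Agent.Lib.AdicExtra.Completion
import Groth.Agent.Lib.AdicExtra.Complete

/-!
# Restricted power series over base rings of class (N) or (V)
-/

open MvPolynomial

namespace GrothLib.RigidBase

universe u

variable {R : Type u} [CommRing R] {I : Ideal R}

instance isScalarTower_rpow (n : ℕ) :
    IsScalarTower R (MvPolynomial (Fin n) R) (AdicRing.RPow R I n) :=
  IsScalarTower.of_algebraMap_eq fun _ => rfl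

theorem fg_of_isBase (hR : AdicRing.IsBase R I) : I.FG := by
  rcases hR.2 with ⟨hN, -⟩ | ⟨-, -, -, t, -, rfl⟩
  · exact I.fg_of_isNoetherianRing
  · exact Submodule.fg_span_singleton t

theorem map_C_eq (n : ℕ) :
    (I.map (MvPolynomial.C : R →+* MvPolynomial (Fin n) R)).map
      (algebraMap (MvPolynomial (Fin n) R) (AdicRing.RPow R I n)) =
      I.map (algebraMap R (AdicRing.RPow R I n)) := by
  rw [Ideal.map_map]
  rfl

theorem isAdicComplete_rpow (hI : I.FG) (n : ℕ) :
    IsAdicComplete (I.map (algebraMap R (AdicRing.RPow R I n))) (AdicRing.RPow R I n) :=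
  map_C_eq (I := I) n ▸ AdicCompletion.isAdicComplete_self _ (hI.map _)

theorem isNoetherianRing_rpow [IsNoetherianRing R] (n : ℕ) :
    IsNoetherianRing (AdicRing.RPow R I n) :=
  GrothLib.AdicExtra.isNoetherianRing_adicCompletion _

theorem isRPow (t : R) (n : ℕ) :
    IsRPow t n (AdicRing.RPow R (Ideal.span {t}) n)
      (IsScalarTower.toAlgHom R (MvPolynomial (Fin n) R) (AdicRing.RPow R (Ideal.span {t}) n)) := by
  set J : Ideal (MvPolynomial (Fin n) R) := (Ideal.span {t}).map C with hJ
  have hfg : J.FG := Ideal.FG.map (Submodule.fg_span_singleton t) _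
  have hpow : ∀ j, J ^ j = Ideal.span {C (t ^ j)} := fun j => by
    rw [hJ, Ideal.map_span, Set.image_singleton, Ideal.span_singleton_pow, map_pow]
  constructor
  · intro j y
    obtain ⟨p, hp⟩ := Ideal.Quotient.mk_surjective (AdicCompletion.evalₐ J j y)
    have hker : y - AdicCompletion.of J (MvPolynomial (Fin n) R) p ∈
        (AdicCompletion.eval J (MvPolynomial (Fin n) R) j).ker := by
      rw [LinearMap.mem_ker, ← AdicCompletion.factor_evalₐ_eq_eval _ (h := by simp), map_sub,
        AdicCompletion.evalₐ_of, hp, sub_self, map_zero]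
    rw [← AdicCompletion.pow_smul_top_eq_ker_eval hfg, hpow,
      Submodule.ideal_span_singleton_smul] at hker
    obtain ⟨z, -, hz⟩ := (Submodule.mem_smul_pointwise_iff_exists _ _ _).1 hker
    refine ⟨p, z, ?_⟩
    rw [← IsScalarTower.algebraMap_smul (MvPolynomial (Fin n) R) (t ^ j) z,
      MvPolynomial.algebraMap_eq, hz]
    simp [IsScalarTower.coe_toAlgHom', AdicCompletion.algebraMap_apply, J]
  · intro j p z h
    have h1 := congrArg (AdicCompletion.evalₐ J j) h
    rw [← IsScalarTower.algebraMap_smul (MvPolynomial (Fin n) R) (t ^ j) z, map_smul,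
      MvPolynomial.algebraMap_eq, IsScalarTower.coe_toAlgHom', AlgHom.commutes,
      Ideal.Quotient.algebraMap_eq] at h1
    obtain ⟨w, hw⟩ := Ideal.Quotient.mk_surjective (AdicCompletion.evalₐ J j z)
    rw [← hw, Algebra.smul_def, Ideal.Quotient.algebraMap_eq, ← map_mul, Ideal.Quotient.eq,
      hpow, Ideal.mem_span_singleton] at h1
    obtain ⟨q, hq⟩ := h1
    refine ⟨w + q, ?_⟩
    rw [sub_eq_iff_eq_add] at hq
    rw [hq, smul_eq_C_mul]
    ring

/-- The facts about the base ring of class (V). -/
structure IsValBase (t : R) : Prop where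
  isDomain : IsDomain R
  preValuationRing : PreValuationRing R
  ne_zero : t ≠ 0
  not_isUnit : ¬ IsUnit t
  dvd_pow : ∀ x : R, x ≠ 0 → ∃ l, x ∣ t ^ l
  pow_dvd : ∀ x : R, ¬ IsUnit x → ∃ l, t ∣ x ^ l

theorem isBase_cases (hR : AdicRing.IsBase R I) :
    (IsNoetherianRing R ∧ AdicRing.NoPowTorsion I R) ∨
      ∃ t : R, I = Ideal.span {t} ∧ IsValBase t := by
  rcases hR.2 with h | ⟨hd, hv, hk, t, ht, rfl⟩
  · exact Or.inl h
  refine Or.inr ⟨t, rfl, hd, hv, ht, ?_, ?_, ?_⟩
  · intro hu
    have := hR.1
    rw [Ideal.span_singleton_eq_top.2 hu] at this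
    exact not_subsingleton R (IsAdicComplete.subsingleton R this)
  all_goals
    have : ValuationRing R := { }
    have hrad : ∀ x y : R, x ≠ 0 → ¬ IsUnit y → ∃ l, x ∣ y ^ l := by
      intro x y hx hy
      suffices y ∈ (Ideal.span {x}).radical by
        obtain ⟨l, hl⟩ := this
        exact ⟨l, Ideal.mem_span_singleton.1 hl⟩
      rw [Ideal.radical_eq_sInf, Submodule.mem_sInf]
      rintro p ⟨hp, hpr⟩
      have hpbot : p ≠ ⊥ := fun h =>
        hx (by simpa [h] using hp (Ideal.mem_span_singleton_self x))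
      have := Ring.krullDimLE_one_iff_of_isPrime_bot.1 hk p hpbot hpr
      rw [IsLocalRing.eq_maximalIdeal this]
      exact hy
  · intro x hx
    have hu : ¬ IsUnit t := fun hu => by
      have := hR.1
      rw [Ideal.span_singleton_eq_top.2 hu] at this
      exact not_subsingleton R (IsAdicComplete.subsingleton R this)
    exact hrad x t hx hu
  · intro x hx
    exact hrad t x ht hx

/-- Restricted power series over a valuation ring have no torsion. -/
theorem eq_zero_of_smul_eq_zero {t : R} (hV : IsValBase t) (n : ℕ) {γ : R} (hγ : γ ≠ 0)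
    (z : AdicRing.RPow R (Ideal.span {t}) n) (hz : γ • z = 0) : z = 0 := by
  have := hV.isDomain
  obtain ⟨l, e, he⟩ := hV.dvd_pow γ hγ
  have hz' : t ^ l • z = 0 := by rw [he, mul_comm, mul_smul, hz, smul_zero]
  have hP := isRPow t n
  set ι := IsScalarTower.toAlgHom R (MvPolynomial (Fin n) R) (AdicRing.RPow R (Ideal.span {t}) n)
  have hc : IsAdicComplete ((Ideal.span {t}).map (algebraMap R _))
    (AdicRing.RPow R (Ideal.span {t}) n) := isAdicComplete_rpow (Submodule.fg_span_singleton t) n
  refine IsHausdorff.haus (hc.toIsHausdorff) z fun j => SModEq.zero.2 ?_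
  obtain ⟨p, w, hpw⟩ := hP.approx j z
  have hp : ι (t ^ l • p) = t ^ (l + j) • (-w) := by
    rw [map_smul, eq_sub_of_add_eq hpw.symm, smul_sub, hz', zero_sub, smul_neg, pow_add, mul_smul]
  obtain ⟨q, hq⟩ := hP.inj _ _ _ hp
  rw [pow_add, mul_smul] at hq
  rw [(smul_right_injective _ (pow_ne_zero l hV.ne_zero)) hq] at hpw
  rw [show (Ideal.span {t}).map (algebraMap R (AdicRing.RPow R (Ideal.span {t}) n)) =
      Ideal.span {algebraMap R (AdicRing.RPow R (Ideal.span {t}) n) t} from
      (Ideal.map_span _ _).trans (congrArg Ideal.span Set.image_singleton)]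
  rw [hpw, map_smul, ← smul_add, Ideal.span_singleton_pow, Submodule.ideal_span_singleton_smul]
  exact (Submodule.mem_smul_pointwise_iff_exists _ _ _).2
    ⟨ι q + w, trivial, by rw [smul_eq_mul, Algebra.smul_def, map_pow]⟩

/-- A submodule of a finite free module over restricted power series which is saturated with
respect to `I` is finitely generated. -/
theorem fg_of_saturated_pi (hR : AdicRing.IsBase R I) {n r : ℕ}
    (N : Submodule (AdicRing.RPow R I n) (Fin r → AdicRing.RPow R I n))
    (hsat : ∀ x (k : ℕ), (∀ a ∈ I ^ k, a • x ∈ N) → x ∈ N) : N.FG := by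
  rcases isBase_cases hR with ⟨hN, -⟩ | ⟨t, rfl, hV⟩
  · have := isNoetherianRing_rpow (I := I) n
    exact IsNoetherian.noetherian N
  have := hV.isDomain
  have := hV.preValuationRing
  have hc := isAdicComplete_rpow (R := R) (Submodule.fg_span_singleton t : (Ideal.span {t}).FG) n
  rw [show (Ideal.span {t}).map (algebraMap R (AdicRing.RPow R (Ideal.span {t}) n)) =
      Ideal.span {algebraMap R (AdicRing.RPow R (Ideal.span {t}) n) t} from
      (Ideal.map_span _ _).trans (congrArg Ideal.span Set.image_singleton)] at hc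
  refine fg_of_saturated (isRPow t n) hV.ne_zero hV.not_isUnit hV.dvd_pow hV.pow_dvd N
    fun γ hγ x hx => ?_
  obtain ⟨l, e, he⟩ := hV.dvd_pow γ hγ
  refine hsat x l fun a ha => ?_
  rw [Ideal.span_singleton_pow, Ideal.mem_span_singleton] at ha
  obtain ⟨b, rfl⟩ := ha
  rw [he, mul_comm γ e, mul_right_comm, mul_smul]
  exact N.smul_of_tower_mem _ hx

/-- A saturated submodule of a finite module over restricted power series is finitely generated. -/
theorem fg_of_saturated_finite (hR : AdicRing.IsBase R I) {n : ℕ} {M : Type u} [AddCommGroup M]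
    [Module (AdicRing.RPow R I n) M] [Module R M] [IsScalarTower R (AdicRing.RPow R I n) M]
    [Module.Finite (AdicRing.RPow R I n) M] (N : Submodule (AdicRing.RPow R I n) M)
    (hsat : ∀ x (k : ℕ), (∀ a ∈ I ^ k, a • x ∈ N) → x ∈ N) : N.FG := by
  obtain ⟨r, π, hπ⟩ := Module.Finite.exists_fin' (AdicRing.RPow R I n) M
  have := fg_of_saturated_pi hR (N.comap π) fun x k hx => hsat (π x) k fun a ha => by
    rw [← LinearMap.map_smul_of_tower π a x]
    exact hx a ha
  rw [← Submodule.map_comap_eq_of_surjective hπ N]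
  exact this.map π

/-- Finite submodules of free modules over restricted power series over a valuation ring are
finitely presented, and preimages of finite submodules are finite. -/
theorem fg_comap_of_fg (hR : AdicRing.IsBase R I) {n r s : ℕ}
    (f : (Fin r → AdicRing.RPow R I n) →ₗ[AdicRing.RPow R I n] (Fin s → AdicRing.RPow R I n))
    (N : Submodule (AdicRing.RPow R I n) (Fin s → AdicRing.RPow R I n)) (hN : N.FG) :
    (N.comap f).FG := by
  rcases isBase_cases hR with ⟨hNoe, -⟩ | ⟨t, rfl, hV⟩
  · have := isNoetherianRing_rpow (I := I) n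
    exact IsNoetherian.noetherian _
  obtain ⟨m, g, hg⟩ := Submodule.fg_iff_exists_fin_generating_family.1 hN
  let L := f.coprod (-(Fintype.linearCombination (AdicRing.RPow R (Ideal.span {t}) n) g))
  have hsat : ∀ (x) (k : ℕ), (∀ a ∈ Ideal.span {t} ^ k, a • x ∈ L.ker) → x ∈ L.ker := by
    intro x k hx
    have h := hx (t ^ k) (Ideal.pow_mem_pow (Ideal.mem_span_singleton_self t) k)
    rw [LinearMap.mem_ker, LinearMap.map_smul_of_tower] at h
    rw [LinearMap.mem_ker]
    funext i
    exact eq_zero_of_smul_eq_zero hV n (have := hV.isDomain; pow_ne_zero k hV.ne_zero) _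
      (congrFun h i)
  have hfg := (fg_of_saturated_finite hR L.ker hsat).map (LinearMap.fst _ _ _)
  convert hfg using 1
  ext x
  rw [Submodule.mem_comap, ← hg, ← Fintype.range_linearCombination, Submodule.mem_map]
  simp only [L, LinearMap.mem_ker, LinearMap.coprod_apply, LinearMap.fst_apply, Prod.exists,
    LinearMap.mem_range, LinearMap.neg_apply, exists_and_right, exists_eq_right]
  exact exists_congr fun y => by rw [← sub_eq_add_neg, sub_eq_zero]; exact eq_comm

/-- The Artin–Rees lemma over restricted power series. -/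
theorem artinRees (hR : AdicRing.IsBase R I) {n : ℕ} {M : Type u} [AddCommGroup M]
    [Module (AdicRing.RPow R I n) M] [Module R M] [IsScalarTower R (AdicRing.RPow R I n) M]
    [Module.Finite (AdicRing.RPow R I n) M] (N : Submodule (AdicRing.RPow R I n) M) :
    ∃ n₀ : ℕ, ∀ m : ℕ,
      (I ^ (m + n₀) • (⊤ : Submodule R M)) ⊓ N.restrictScalars R ≤ I ^ m • N.restrictScalars R := by
  rcases isBase_cases hR with ⟨hNoe, -⟩ | ⟨t, rfl, hV⟩
  · have := isNoetherianRing_rpow (I := I) n
    obtain ⟨k, hk⟩ := Ideal.exists_pow_inf_eq_pow_smul (I.map (algebraMap R (AdicRing.RPow R I n))) N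
    refine ⟨k, fun m x hx => ?_⟩
    have hh : ∀ (j : ℕ) (L : Submodule (AdicRing.RPow R I n) M),
        ((I.map (algebraMap R (AdicRing.RPow R I n))) ^ j • L).restrictScalars R =
          I ^ j • L.restrictScalars R := fun j L => by
      rw [← Ideal.map_pow, Ideal.smul_restrictScalars]
    rw [← Submodule.restrictScalars_top R (AdicRing.RPow R I n) M, ← hh] at hx
    rw [← hh]
    have h1 : x ∈ (I.map (algebraMap R (AdicRing.RPow R I n))) ^ (m + k) • ⊤ ⊓ N :=
      ⟨hx.1, hx.2⟩
    rw [hk (m + k) (Nat.le_add_left k m), Nat.add_sub_cancel] at h1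
    rw [Submodule.restrictScalars_mem]
    exact Submodule.smul_mono (le_refl _) (inf_le_right : (I.map (algebraMap R
      (AdicRing.RPow R I n))) ^ k • (⊤ : Submodule (AdicRing.RPow R I n) M) ⊓ N ≤ N) h1
  have := hV.isDomain
  let Ns : Submodule (AdicRing.RPow R (Ideal.span {t}) n) M :=
    { carrier := {x | ∃ l, t ^ l • x ∈ N}
      add_mem' := fun {a b} ⟨l, hl⟩ ⟨l', hl'⟩ => ⟨l + l', by
        rw [smul_add, pow_add]
        refine add_mem ?_ ?_
        · rw [mul_comm, mul_smul]; exact N.smul_of_tower_mem _ hl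
        · rw [mul_smul]; exact N.smul_of_tower_mem _ hl'⟩
      zero_mem' := ⟨0, by simp⟩
      smul_mem' := fun c a ⟨l, hl⟩ => ⟨l, by rw [smul_comm]; exact N.smul_mem c hl⟩ }
  obtain ⟨T, hT⟩ := fg_of_saturated_finite hR Ns fun x k hx => by
    obtain ⟨l, hl⟩ := hx (t ^ k) (Ideal.pow_mem_pow (Ideal.mem_span_singleton_self t) k)
    exact ⟨l + k, by rwa [pow_add, mul_smul]⟩
  have hmem : ∀ x : T, ∃ l, t ^ l • x.1 ∈ N := fun x => by
    have : x.1 ∈ Ns := hT ▸ Submodule.subset_span x.2
    exact this
  choose l hl using hmem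
  refine ⟨Finset.univ.sup l, fun m x hx => ?_⟩
  obtain ⟨hx1, hx2⟩ := hx
  rw [Ideal.span_singleton_pow, Submodule.ideal_span_singleton_smul] at hx1
  obtain ⟨y, -, rfl⟩ := (Submodule.mem_smul_pointwise_iff_exists _ _ _).1 hx1
  have hy : y ∈ Ns := ⟨_, hx2⟩
  rw [← hT] at hy
  have hall : ∀ y ∈ Submodule.span (AdicRing.RPow R (Ideal.span {t}) n) (T : Set M),
      t ^ Finset.univ.sup l • y ∈ N := by
    intro y hy
    induction hy using Submodule.span_induction with
    | mem a ha =>
      rw [← Nat.sub_add_cancel (Finset.le_sup (f := l) (Finset.mem_univ ⟨a, ha⟩)), pow_add,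
        mul_smul]
      exact N.smul_of_tower_mem _ (hl ⟨a, ha⟩)
    | zero => simp
    | add a b _ _ ha hb => rw [smul_add]; exact add_mem ha hb
    | smul c a _ ha => rw [smul_comm]; exact N.smul_mem c ha
  have hy' := hall y hy
  rw [pow_add, mul_smul]
  exact Submodule.smul_mem_smul (Ideal.pow_mem_pow (Ideal.mem_span_singleton_self t) m) hy'

theorem isHausdorff_of_finite (hR : AdicRing.IsBase R I) {n : ℕ} (M : Type u) [AddCommGroup M]
    [Module (AdicRing.RPow R I n) M] [Module R M] [IsScalarTower R (AdicRing.RPow R I n) M]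
    [Module.Finite (AdicRing.RPow R I n) M] : IsHausdorff I M := by
  refine ⟨fun x hx => ?_⟩
  obtain ⟨n₀, hn⟩ := artinRees hR (Submodule.span (AdicRing.RPow R I n) {x} : Submodule _ M)
  have h1 : x ∈ I • (Submodule.span (AdicRing.RPow R I n) {x}).restrictScalars R := by
    have := hn 1 ⟨SModEq.zero.1 (hx (1 + n₀)), Submodule.mem_span_singleton_self x⟩
    rwa [pow_one] at this
  rw [← Ideal.smul_restrictScalars, Submodule.restrictScalars_mem,
    Submodule.mem_smul_span_singleton] at h1
  obtain ⟨b, hb, hbx⟩ := h1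
  have := isAdicComplete_rpow (fg_of_isBase hR) n
  have hu : IsUnit (1 - b) := by
    rw [← sub_sub_cancel 1 b] at hb
    have := Ideal.mem_jacobson_bot.1 (IsAdicComplete.le_jacobson_bot
      (I.map (algebraMap R (AdicRing.RPow R I n))) hb) (-1)
    simpa [neg_add_eq_sub] using this
  rw [← hu.smul_eq_zero, sub_smul, one_smul, hbx, sub_self]

theorem isAdicComplete_of_finite (hR : AdicRing.IsBase R I) {n : ℕ} (M : Type u) [AddCommGroup M]
    [Module (AdicRing.RPow R I n) M] [Module R M] [IsScalarTower R (AdicRing.RPow R I n) M]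
    [Module.Finite (AdicRing.RPow R I n) M] : IsAdicComplete I M := by
  obtain ⟨r, π, hπ⟩ := Module.Finite.exists_fin' (AdicRing.RPow R I n) M
  have := isHausdorff_of_finite hR (n := n) M
  have hc := isAdicComplete_rpow (fg_of_isBase hR) n
  have : IsPrecomplete (I.map (algebraMap R (AdicRing.RPow R I n)))
      (Fin r → AdicRing.RPow R I n) := by
    refine ⟨fun f hf => ?_⟩
    have hpi : ∀ i, ∃ L, ∀ k, f k i ≡ L [SMOD (I.map (algebraMap R (AdicRing.RPow R I n))) ^ k •
        (⊤ : Submodule (AdicRing.RPow R I n) (AdicRing.RPow R I n))] := fun i =>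
      IsPrecomplete.prec hc.toIsPrecomplete (f := fun k => f k i) fun {a b} hab => by
        have := (hf hab).map (LinearMap.proj (R := AdicRing.RPow R I n) i)
        refine SModEq.mono ?_ this
        rw [Submodule.map_smul'']
        exact Submodule.smul_mono le_rfl le_top
    choose L hL using hpi
    refine ⟨L, fun k => SModEq.sub_mem.2 ?_⟩
    have : f k - L = ∑ i, (f k i - L i) • Pi.single i (1 : AdicRing.RPow R I n) := by
      funext j
      simp [Finset.sum_apply, Pi.single_apply]
    rw [this]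
    refine Submodule.sum_mem _ fun i _ => Submodule.smul_mem_smul ?_ trivial
    simpa [Ideal.smul_eq_mul, Ideal.mul_top] using SModEq.sub_mem.1 (hL i k)
  have := GrothLib.AdicExtra.isPrecomplete_of_surjective (I := I.map (algebraMap R (AdicRing.RPow R I n))) π hπ
  have hp : IsPrecomplete I M := IsPrecomplete.map_algebraMap_iff.1 this
  exact { toIsHausdorff := ‹IsHausdorff I M›, toIsPrecomplete := hp }

end GrothLib.RigidBase
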