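import Mathlib
import Groth.Agent.Lib.RigidBase.Base

/-!
# Algebras topologically of finite type over a base of class (N) or (V)
-/

namespace GrothLib.RigidBase

universe u

variable {R : Type u} [CommRing R] {I : Ideal R} (hR : AdicRing.IsBase R I)
  {A : Type u} [CommRing A] [Algebra R A] (hA : AdicRing.TopFiniteType R I A)
  {M : Type u} [AddCommGroup M] [Module A M] [Module R M] [IsScalarTower R A M]

include hA in
/-- A finite module over an algebra of topologically finite type is a finite module over some
ring of restricted power series, compatibly. -/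
theorem exists_rpow_module [Module.Finite A M] :
    ∃ (n : ℕ) (_ : Algebra (AdicRing.RPow R I n) A) (_ : Module (AdicRing.RPow R I n) M),
      IsScalarTower R (AdicRing.RPow R I n) A ∧ IsScalarTower (AdicRing.RPow R I n) A M ∧
      IsScalarTower R (AdicRing.RPow R I n) M ∧ Module.Finite (AdicRing.RPow R I n) A ∧
      Module.Finite (AdicRing.RPow R I n) M ∧
      Function.Surjective (algebraMap (AdicRing.RPow R I n) A) := by
  obtain ⟨n, φ, hφ⟩ := hA
  let _ : Algebra (AdicRing.RPow R I n) A := φ.toRingHom.toAlgebra
  let _ : Module (AdicRing.RPow R I n) M := Module.compHom M φ.toRingHom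
  have h1 : IsScalarTower R (AdicRing.RPow R I n) A :=
    IsScalarTower.of_algebraMap_eq fun x => (φ.commutes x).symm
  have h2 : IsScalarTower (AdicRing.RPow R I n) A M :=
    ⟨fun p a x => by
      show (φ p * a) • x = φ p • a • x
      rw [mul_smul]⟩
  have h3 : IsScalarTower R (AdicRing.RPow R I n) M :=
    ⟨fun c p x => by
      show φ (c • p) • x = c • φ p • x
      rw [map_smul, smul_assoc]⟩
  have h4 : Module.Finite (AdicRing.RPow R I n) A :=
    Module.Finite.of_surjective (Algebra.linearMap (AdicRing.RPow R I n) A) hφ
  exact ⟨n, _, _, h1, h2, h3, h4, Module.Finite.trans A M, hφ⟩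

include hR hA in
/-- A saturated submodule of a finite module is finitely generated. -/
theorem fg_of_saturated_alg [Module.Finite A M] (N : Submodule A M)
    (hsat : ∀ (x : M) (n : ℕ), (∀ a ∈ I ^ n, a • x ∈ N) → x ∈ N) : N.FG := by
  obtain ⟨n, _, _, _, _, _, _, _, hs⟩ := exists_rpow_module hA (M := M)
  exact Submodule.FG.of_restrictScalars (AdicRing.RPow R I n)
    (fg_of_saturated_finite hR (N.restrictScalars (AdicRing.RPow R I n)) hsat)

include hR hA in
/-- The Artin–Rees lemma. -/
theorem artinRees_alg [Module.Finite A M] (N : Submodule A M) :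
    ∃ n₀ : ℕ, ∀ m : ℕ,
      (I ^ (m + n₀) • (⊤ : Submodule R M)) ⊓ N.restrictScalars R ≤ I ^ m • N.restrictScalars R := by
  obtain ⟨n, _, _, _, _, _, _, _, hs⟩ := exists_rpow_module hA (M := M)
  exact artinRees hR (N.restrictScalars (AdicRing.RPow R I n))

include hR hA in
/-- Finite modules are complete. -/
theorem isAdicComplete_alg [Module.Finite A M] : IsAdicComplete I M := by
  obtain ⟨n, _, _, _, _, _, _, _, hs⟩ := exists_rpow_module hA (M := M)
  exact isAdicComplete_of_finite hR (n := n) M

omit [Module R M] [IsScalarTower R A M] in
include hA in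
theorem isNoetherianRing_alg [IsNoetherianRing R] : IsNoetherianRing A := by
  obtain ⟨n, φ, hφ⟩ := hA
  have := isNoetherianRing_rpow (I := I) n
  exact isNoetherianRing_of_surjective _ _ φ.toRingHom hφ

include hR hA in
/-- A finite module without `I`-power torsion is of finite presentation. -/
theorem finitePresentation_of_noPowTorsion [Module.Finite A M] (hM : AdicRing.NoPowTorsion I M) :
    Module.FinitePresentation A M := by
  obtain ⟨r, π, hπ⟩ := Module.Finite.exists_fin' A M
  refine Module.finitePresentation_of_surjective π hπ
    (fg_of_saturated_alg hR hA π.ker fun x k hx => hM (π x) k fun a ha => ?_)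
  rw [← π.map_smul_of_tower]
  exact hx a ha

include hR hA in
/-- A finite module which is flat over the base is of finite presentation. -/
theorem finitePresentation_of_flat [Module.Finite A M] [Module.Flat R M] :
    Module.FinitePresentation A M := by
  rcases isBase_cases hR with ⟨hN, -⟩ | ⟨t, rfl, hV⟩
  · have := isNoetherianRing_alg hA
    exact Module.finitePresentation_of_finite A M
  · have := hV.isDomain
    refine finitePresentation_of_noPowTorsion hR hA fun x k hx => ?_
    have h := hx (t ^ k) (Ideal.pow_mem_pow (Ideal.mem_span_singleton_self t) k)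
    exact (Module.Flat.isSMulRegular_of_nonZeroDivisors
      (mem_nonZeroDivisors_of_ne_zero (pow_ne_zero k hV.ne_zero))) (h.trans (smul_zero _).symm)

omit [Module R M] [IsScalarTower R A M] in
include hR in
/-- An algebra of topologically finite type without torsion is of topologically finite
presentation. -/
theorem topFinitePresentation_of_noPowTorsion (hA' : AdicRing.TopFiniteType R I A)
    (hT : AdicRing.NoPowTorsion I A) : AdicRing.TopFinitePresentation R I A := by
  obtain ⟨n, φ, hφ⟩ := hA'
  refine ⟨n, φ, hφ, fg_of_saturated_finite hR (RingHom.ker φ.toRingHom : Ideal _) fun x k hx =>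
    hT (φ x) k fun a ha => ?_⟩
  have := hx a ha
  rw [RingHom.mem_ker] at this
  rw [← map_smul]
  exact this

omit [Module R M] [IsScalarTower R A M] in
include hR in
/-- An algebra of topologically finite presentation is coherent. -/
theorem finitePresentation_ideal (hA' : AdicRing.TopFinitePresentation R I A) (J : Ideal A)
    (hJ : J.FG) : Module.FinitePresentation A J := by
  obtain ⟨n, φ, hφ, hker⟩ := hA'
  let _ : Algebra (AdicRing.RPow R I n) A := φ.toRingHom.toAlgebra
  obtain ⟨r, g, hg⟩ := Submodule.fg_iff_exists_fin_generating_family.1 hJ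
  choose g' hg' using fun i => hφ (g i)
  let π : (Fin r → A) →ₗ[A] J := (Fintype.linearCombination A g).codRestrict J fun x => by
    rw [← hg, ← Fintype.range_linearCombination]
    exact LinearMap.mem_range_self _ x
  have hπ : Function.Surjective π := fun y => by
    have hy : (y : A) ∈ LinearMap.range (Fintype.linearCombination A g) := by
      rw [Fintype.range_linearCombination, hg]; exact y.2
    obtain ⟨x, hx⟩ := hy
    exact ⟨x, Subtype.ext hx⟩
  refine Module.finitePresentation_of_surjective π hπ ?_
  let e := LinearEquiv.funUnique (Fin 1) (AdicRing.RPow R I n) (AdicRing.RPow R I n)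
  have h1 := fg_comap_of_fg hR (n := n) (e.symm.toLinearMap ∘ₗ
      Fintype.linearCombination (AdicRing.RPow R I n) g')
    (Submodule.map e.symm.toLinearMap (RingHom.ker φ.toRingHom : Ideal _)) (Submodule.FG.map _ hker)
  refine Submodule.FG.of_restrictScalars (AdicRing.RPow R I n) ?_
  suffices h : π.ker.restrictScalars (AdicRing.RPow R I n) =
      Submodule.map ((Algebra.linearMap (AdicRing.RPow R I n) A).compLeft (Fin r)) (Submodule.comap
        (e.symm.toLinearMap ∘ₗ Fintype.linearCombination (AdicRing.RPow R I n) g')
        (Submodule.map e.symm.toLinearMap (RingHom.ker φ.toRingHom : Ideal _))) by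
    rw [h]; exact h1.map _
  ext x
  choose x' hx' using fun i => hφ (x i)
  have hlc : ∀ y : Fin r → AdicRing.RPow R I n,
      φ (Fintype.linearCombination (AdicRing.RPow R I n) g' y) =
        Fintype.linearCombination A g (fun i => φ (y i)) := fun y => by
    simp [Fintype.linearCombination_apply, hg', map_sum]
  rw [Submodule.restrictScalars_mem, LinearMap.mem_ker, Submodule.mem_map]
  constructor
  · intro h
    refine ⟨x', ?_, funext hx'⟩
    rw [Submodule.comap_comp, Submodule.comap_map_eq_of_injective e.symm.injective,
      Submodule.mem_comap, RingHom.mem_ker]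
    show φ _ = 0
    rw [hlc, funext hx']
    exact congrArg Subtype.val h
  · rintro ⟨y, hy, rfl⟩
    rw [Submodule.comap_comp, Submodule.comap_map_eq_of_injective e.symm.injective,
      Submodule.mem_comap, RingHom.mem_ker] at hy
    exact Subtype.ext ((hlc y).symm.trans hy)

end GrothLib.RigidBase
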