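import Mathlib
import Groth.Agent.Lib.RigidBase.Base

/-!
# Saturated submodules over polynomial rings over restricted power series
-/

open MvPolynomial

namespace GrothLib.RigidBase

universe u

variable {R : Type u} [CommRing R] {t : R} {n : ℕ} {P : Type u} [CommRing P] [Algebra R P]
  {ι : MvPolynomial (Fin n) R →ₐ[R] P}

/-- The polynomial map for the polynomial ring over `P`. -/
noncomputable def polyι (ι : MvPolynomial (Fin n) R →ₐ[R] P) (m : ℕ) :
    MvPolynomial (Fin (n + m)) R →ₐ[R] MvPolynomial (Fin m) P :=
  (MvPolynomial.mapAlgHom ι).comp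
    ((renameEquiv R (finSumFinEquiv.symm.trans (Equiv.sumComm _ _))).trans
      (sumAlgEquiv R (Fin m) (Fin n))).toAlgHom

theorem isRPow_poly (hP : IsRPow t n P ι) (m : ℕ) :
    IsRPow t (n + m) (MvPolynomial (Fin m) P) (polyι ι m) := by
  let e := (renameEquiv R (finSumFinEquiv.symm.trans (Equiv.sumComm (Fin n) (Fin m)))).trans
    (sumAlgEquiv R (Fin m) (Fin n))
  have hι : ∀ p, polyι ι m p = MvPolynomial.map (ι : MvPolynomial (Fin n) R →+* P) (e p) :=
    fun p => rfl
  have hsm : ∀ (c : R) (p : MvPolynomial (Fin m) (MvPolynomial (Fin n) R)),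
      MvPolynomial.map (ι : MvPolynomial (Fin n) R →+* P) (c • p) =
        c • MvPolynomial.map (ι : MvPolynomial (Fin n) R →+* P) p := fun c p => by
    ext d
    simp [coeff_map, coeff_smul]
  constructor
  · intro j y
    choose p z h using fun d => hP.approx j (coeff d y)
    refine ⟨e.symm (∑ d ∈ y.support, monomial d (p d)), ∑ d ∈ y.support, monomial d (z d), ?_⟩
    rw [hι, e.apply_symm_apply, map_sum, Finset.smul_sum, ← Finset.sum_add_distrib]
    conv_lhs => rw [y.as_sum]
    refine Finset.sum_congr rfl fun d _ => ?_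
    rw [MvPolynomial.map_monomial, smul_monomial, ← map_add, h d]
    rfl
  · intro j p z h
    have hd : ∀ d, ι (coeff d (e p)) = t ^ j • coeff d z := fun d => by
      have := congrArg (coeff d) h
      rwa [hι, coeff_map, coeff_smul] at this
    choose q hq using fun d => hP.inj j _ _ (hd d)
    refine ⟨e.symm (∑ d ∈ (e p).support, monomial d (q d)), ?_⟩
    apply e.injective
    rw [map_smul, e.apply_symm_apply, Finset.smul_sum]
    conv_lhs => rw [(e p).as_sum]
    exact Finset.sum_congr rfl fun d _ => by rw [smul_monomial, hq d]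

/-- Dehomogenisation. -/
noncomputable def deh (P : Type u) [CommRing P] (k : ℕ) :
    MvPolynomial (Fin (k + 1)) P →ₐ[P] MvPolynomial (Fin k) P :=
  aeval (Fin.cases 1 X)

/-- The homogeneous component of a vector. -/
noncomputable def compV {k r : ℕ} (d : ℕ) :
    (Fin r → MvPolynomial (Fin k) P) →ₗ[P] (Fin r → MvPolynomial (Fin k) P) :=
  (homogeneousComponent d).compLeft (Fin r)

omit [Algebra R P] in
lemma compV_smul {k r : ℕ} (a : MvPolynomial (Fin k) P) (d : ℕ)
    (x : Fin r → MvPolynomial (Fin k) P) :
    compV d (a • x) =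
      ∑ e ∈ Finset.range (d + 1), homogeneousComponent (d - e) a • compV e x := by
  classical
  funext i
  simp only [compV, Finset.sum_apply, Pi.smul_apply, LinearMap.compLeft_apply, Function.comp_apply,
    smul_eq_mul]
  conv_lhs => rw [← sum_homogeneousComponent a, ← sum_homogeneousComponent (x i),
    Finset.sum_mul_sum, map_sum]
  simp only [map_sum]
  have hterm : ∀ a' e, homogeneousComponent d (homogeneousComponent a' a *
      homogeneousComponent e (x i)) =
        if a' + e = d then homogeneousComponent a' a * homogeneousComponent e (x i) else 0 := by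
    intro a' e
    rw [homogeneousComponent_of_mem ((homogeneousComponent_isHomogeneous a' a).mul
      (homogeneousComponent_isHomogeneous e (x i)))]
    simp [eq_comm]
  simp only [hterm]
  rw [Finset.sum_comm]
  have h1 : ∀ e, (∑ a' ∈ Finset.range (a.totalDegree + 1),
      if a' + e = d then homogeneousComponent a' a * homogeneousComponent e (x i) else 0) =
      if e ≤ d then homogeneousComponent (d - e) a * homogeneousComponent e (x i) else 0 := by
    intro e
    split_ifs with he
    · rw [Finset.sum_eq_single (d - e)]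
      · rw [if_pos (by omega)]
      · intro b _ hb; rw [if_neg (by omega)]
      · intro hb
        rw [if_pos (by omega), homogeneousComponent_eq_zero _ _ (by simp at hb; omega), zero_mul]
    · exact Finset.sum_eq_zero fun b _ => if_neg (by omega)
  simp only [h1]
  rw [← Finset.sum_filter]
  refine Finset.sum_subset (fun e he => ?_) fun e he hne => ?_
  · simp at he ⊢; omega
  · rw [homogeneousComponent_eq_zero e (x i), mul_zero]
    simp at he hne
    omega

variable [IsDomain R] [PreValuationRing R]

omit [IsDomain R] [PreValuationRing R] in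
lemma isHausdorff_vec [IsAdicComplete (Ideal.span {algebraMap R P t}) P] (k r : ℕ) :
    ⨅ j, Ideal.span {algebraMap R P t} ^ j • (⊤ : Submodule P (Fin r → MvPolynomial (Fin k) P)) =
      ⊥ := by
  have : IsHausdorff (Ideal.span {algebraMap R P t}) (Fin r → MvPolynomial (Fin k) P) :=
    ⟨fun x hx => funext fun i => MvPolynomial.ext _ _ fun d => by
      rw [Pi.zero_apply, coeff_zero]
      refine IsHausdorff.haus (inferInstance : IsHausdorff (Ideal.span {algebraMap R P t}) P) _
        fun j => SModEq.zero.2 ?_
      refine Submodule.smul_induction_on (SModEq.zero.1 (hx j)) (fun a ha y _ => ?_)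
        fun y z hy hz => ?_
      · rw [Pi.smul_apply, coeff_smul]
        exact Submodule.smul_mem_smul ha trivial
      · rw [Pi.add_apply, coeff_add]
        exact Submodule.add_mem _ hy hz⟩
  exact IsHausdorff.iInf_pow_smul (M := Fin r → MvPolynomial (Fin k) P) inferInstance

/-- A saturated submodule of a free module over a polynomial ring over `P` is finitely
generated. -/
theorem fg_of_saturated_poly (hP : IsRPow t n P ι)
    [IsAdicComplete (Ideal.span {algebraMap R P t}) P] (ht0 : t ≠ 0) (htu : ¬ IsUnit t)
    (hdvd : ∀ x : R, x ≠ 0 → ∃ l, x ∣ t ^ l) (htn : ∀ x : R, ¬ IsUnit x → ∃ l, t ∣ x ^ l)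
    {k r : ℕ} (N : Submodule (MvPolynomial (Fin k) P) (Fin r → MvPolynomial (Fin k) P))
    (hsat : ∀ γ : R, γ ≠ 0 → ∀ x, γ • x ∈ N → x ∈ N) : N.FG := by
  classical
  let δ : (Fin r → MvPolynomial (Fin (k + 1)) P) →ₗ[P] (Fin r → MvPolynomial (Fin k) P) :=
    (deh P k).toLinearMap.compLeft (Fin r)
  have hδs : ∀ a x, δ (a • x) = deh P k a • δ x := fun a x => by
    funext i; simp [δ]
  -- the homogenisation of `N`
  let L : Submodule (MvPolynomial (Fin (k + 1)) P) (Fin r → MvPolynomial (Fin (k + 1)) P) :=
    { carrier := {w | ∀ d, δ (compV d w) ∈ N}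
      add_mem' := fun {a b} ha hb d => by rw [map_add, map_add]; exact add_mem (ha d) (hb d)
      zero_mem' := fun d => by rw [map_zero, map_zero]; exact zero_mem _
      smul_mem' := fun a w hw d => by
        rw [compV_smul, map_sum]
        refine sum_mem fun e _ => ?_
        rw [hδs]
        exact N.smul_mem _ (hw e) }
  have hcomp : ∀ (w : Fin r → MvPolynomial (Fin (k + 1)) P) (d e : ℕ),
      compV d (compV e w) = if d = e then compV e w else 0 := fun w d e => by
    funext i
    simp only [compV, LinearMap.compLeft_apply, Function.comp_apply]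
    rw [homogeneousComponent_of_mem (homogeneousComponent_isHomogeneous e (w i))]
    split_ifs <;> rfl
  have hLsat : ∀ γ : R, γ ≠ 0 → ∀ x, γ • x ∈ L → x ∈ L := fun γ hγ x hx d => by
    refine hsat γ hγ _ ?_
    have := hx d
    rwa [LinearMap.map_smul_of_tower, LinearMap.map_smul_of_tower] at this
  have hLc : ∀ w ∈ L, ∀ e, compV e w ∈ L := fun w hw e d => by
    rw [hcomp]
    split_ifs with h
    · exact hw e
    · rw [map_zero]; exact zero_mem _
  obtain ⟨c, hcu, T, hT, hstep⟩ :=
    exists_step (isRPow_poly hP (k + 1)) ht0 htu hdvd L hLsat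
  obtain ⟨D, hD⟩ : ∃ D : ℕ, ∀ x ∈ T, ∀ e, D ≤ e → compV e x = 0 := by
    refine ⟨T.sup (fun x => Finset.univ.sup fun i => (x i).totalDegree) + 1,
      fun x hx e he => funext fun i => homogeneousComponent_eq_zero _ _ ?_⟩
    calc (x i).totalDegree ≤ Finset.univ.sup fun i => (x i).totalDegree :=
          Finset.le_sup (f := fun i => (x i).totalDegree) (Finset.mem_univ i)
      _ ≤ T.sup fun x => Finset.univ.sup fun i => (x i).totalDegree :=
          Finset.le_sup (f := fun x : Fin r → MvPolynomial (Fin (k + 1)) P =>
            Finset.univ.sup fun i => (x i).totalDegree) hx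
      _ < e := by omega
  let H : Set (Fin r → MvPolynomial (Fin (k + 1)) P) :=
    Set.range fun q : T × Fin D => compV q.2.1 q.1.1
  have hHL : H ⊆ L := by
    rintro _ ⟨q, rfl⟩
    exact hLc _ (hT _ q.1.2) _
  obtain ⟨l, e₀, he₀⟩ := htn c hcu
  -- homogeneous elements of `L` lie in the span of `H`
  have hhom : ∀ d, ∀ v ∈ L, compV d v = v →
      v ∈ Submodule.span (MvPolynomial (Fin (k + 1)) P) H := by
    intro d v hv hvd
    let Sd : Submodule P (MvPolynomial (Fin (k + 1)) P) := homogeneousSubmodule (Fin (k + 1)) P d
    -- the finite family of generators in degree `d`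
    let ex : Finset (Fin (k + 1) →₀ ℕ) := Finset.finsuppAntidiag Finset.univ d |>.biUnion fun f =>
      Finset.Iic f
    have hex : ∀ f : Fin (k + 1) →₀ ℕ, f.degree ≤ d → f ∈ ex := fun f hf => by
      refine Finset.mem_biUnion.2 ⟨f + Finsupp.single 0 (d - f.degree),
        Finset.mem_finsuppAntidiag.2 ⟨?_, Finset.subset_univ _⟩,
        Finset.mem_Iic.2 le_self_add⟩
      have h0 : ∑ i, f i = f.degree := (Finsupp.degree_eq_sum f).symm
      simp only [Finsupp.coe_add, Pi.add_apply, Finset.sum_add_distrib, h0]
      rw [Finset.sum_eq_single (0 : Fin (k + 1)) (fun b _ hb => by simp [hb.symm])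
        (fun h => absurd (Finset.mem_univ _) h), Finsupp.single_eq_same]
      omega
    let G : {q : T × Fin D × ex // q.2.2.1.degree + q.2.1.1 = d} →
        (Fin r → MvPolynomial (Fin (k + 1)) P) :=
      fun q => monomial q.1.2.2.1 (1 : P) • compV q.1.2.1.1 q.1.1.1
    have hone : ∀ v ∈ L, compV d v = v → ∃ v' ∈ L, compV d v' = v' ∧
        v - c • v' ∈ Submodule.span P (Set.range G) := by
      intro v hv hvd
      obtain ⟨a, v', hv', h⟩ := hstep v hv
      refine ⟨compV d v', hLc _ hv' d, by rw [hcomp, if_pos rfl], ?_⟩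
      have : v - c • compV d v' = compV d (∑ x ∈ T, a x • x) := by
        conv_lhs => rw [← hvd, h, map_add, LinearMap.map_smul_of_tower, add_sub_cancel_right]
      rw [this, map_sum]
      refine sum_mem fun x hx => ?_
      rw [compV_smul]
      refine sum_mem fun e he => ?_
      by_cases heD : e < D
      · rw [(homogeneousComponent (d - e) (a x)).as_sum, Finset.sum_smul]
        refine sum_mem fun f hf => ?_
        have hfd : f.degree = d - e := by
          by_contra hne
          exact mem_support_iff.1 hf
            ((homogeneousComponent_isHomogeneous (d - e) (a x)).coeff_eq_zero hne)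
        rw [← mul_one (coeff f (homogeneousComponent (d - e) (a x))), ← smul_eq_mul,
          ← smul_monomial, smul_assoc]
        refine Submodule.smul_mem _ _ (Submodule.subset_span
          ⟨⟨(⟨x, hx⟩, ⟨e, heD⟩, ⟨f, hex f (by omega)⟩), ?_⟩, rfl⟩)
        have := Finset.mem_range.1 he
        simp only
        omega
      · rw [hD x hx e (not_lt.1 heD), smul_zero]
        exact zero_mem _
    have hl : ∀ (j : ℕ) v, v ∈ L → compV d v = v → ∃ v' ∈ L, compV d v' = v' ∧
        v - c ^ j • v' ∈ Submodule.span P (Set.range G) := by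
      intro j
      induction j with
      | zero => exact fun v hv hvd => ⟨v, hv, hvd, by simp⟩
      | succ j ih =>
        intro v hv hvd
        obtain ⟨v1, hv1, hv1d, h1⟩ := ih v hv hvd
        obtain ⟨v2, hv2, hv2d, h2⟩ := hone v1 hv1 hv1d
        refine ⟨v2, hv2, hv2d, ?_⟩
        have := add_mem h1 (Submodule.smul_of_tower_mem _ (c ^ j) h2)
        convert this using 1
        rw [smul_sub, smul_smul, ← pow_succ]
        abel
    obtain ⟨a, -, ha⟩ := GrothLib.AdicLim.exists_coeff_of_step
      (I := Ideal.span {algebraMap R P t}) G 0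
      (fun j y => ∃ y' ∈ L, compV d y' = y' ∧ y = t ^ j • y')
      (fun j => Ideal.span {algebraMap R P t} ^ j • ⊤)
      (by
        rintro j y ⟨y', -, -, rfl⟩
        rw [← algebraMap_smul P (t ^ j) y', map_pow]
        exact Submodule.smul_mem_smul (Ideal.pow_mem_pow (Ideal.mem_span_singleton_self _) j)
          trivial)
      (fun j => le_rfl) (isHausdorff_vec (k + 1) r)
      (by
        rintro j y ⟨y', hy', hy'd, rfl⟩
        obtain ⟨v', hv', hv'd, hsp⟩ := hl l y' hy' hy'd
        obtain ⟨a, ha⟩ := (Submodule.mem_span_range_iff_exists_fun P).1 hsp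
        refine ⟨fun q => algebraMap R P t ^ j * a q, fun q => ?_, e₀ • v',
          L.smul_of_tower_mem e₀ hv', by rw [LinearMap.map_smul_of_tower, hv'd], ?_⟩
        · rw [add_zero]
          exact Ideal.mul_mem_right _ _ (Ideal.pow_mem_pow (Ideal.mem_span_singleton_self _) j)
        · simp only [← map_pow, mul_smul, algebraMap_smul]
          rw [← Finset.smul_sum, ha, smul_sub, sub_sub_cancel, he₀, pow_succ, mul_smul, mul_smul])
      (x := v) ⟨v, hv, hvd, by simp⟩
    rw [ha]
    exact sum_mem fun q _ => Submodule.smul_of_tower_mem _ _ (Submodule.smul_mem _ _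
      (Submodule.subset_span ⟨(q.1.1, q.1.2.1), rfl⟩))
  suffices hN : N = Submodule.span (MvPolynomial (Fin k) P) (δ '' H) by
    rw [hN]; exact Submodule.fg_span ((Set.finite_range _).image _)
  refine le_antisymm (fun v hv => ?_) (Submodule.span_le.2 ?_)
  · -- homogenise `v`
    let D' := Finset.univ.sup fun i => (v i).totalDegree
    let w : Fin r → MvPolynomial (Fin (k + 1)) P := fun i =>
      ∑ f ∈ (v i).support, monomial (Finsupp.cons (D' - f.degree) f) (coeff f (v i))
    have hdeh : δ w = v := by
      funext i
      simp only [δ, LinearMap.compLeft_apply, Function.comp_apply, AlgHom.toLinearMap_apply, w,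
        map_sum]
      conv_rhs => rw [(v i).as_sum]
      refine Finset.sum_congr rfl fun f _ => ?_
      rw [deh, aeval_monomial, monomial_eq, Finsupp.prod_fintype _ _ (fun _ => pow_zero _),
        Finsupp.prod_fintype _ _ (fun _ => pow_zero _), Fin.prod_univ_succ]
      simp
    have hwhom : compV D' w = w := by
      funext i
      simp only [compV, LinearMap.compLeft_apply, Function.comp_apply]
      refine homogeneousComponent_eq_self (IsHomogeneous.sum _ _ _ fun f hf => ?_)
      refine isHomogeneous_monomial _ ?_
      have hle : f.degree ≤ D' := le_trans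
        (by rw [Finsupp.degree_eq_sum, ← Finsupp.sum_fintype f (fun _ e => e) (fun _ => rfl)]
            exact le_totalDegree hf)
        (Finset.le_sup (f := fun i => (v i).totalDegree) (Finset.mem_univ i))
      rw [Finsupp.degree_eq_sum, Fin.sum_univ_succ, Finsupp.cons_zero]
      simp only [Finsupp.cons_succ, ← Finsupp.degree_eq_sum]
      omega
    have hwL : w ∈ L := fun d => by
      rw [← hwhom, hcomp]
      split_ifs with h
      · rw [hwhom, hdeh]; exact hv
      · rw [map_zero]; exact zero_mem _
    rw [← hdeh]
    refine Submodule.span_induction (p := fun x _ => δ x ∈ Submodule.span (MvPolynomial (Fin k) P) (δ '' H))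
      (fun x hx => Submodule.subset_span ⟨x, hx, rfl⟩) (by simp)
      (fun x y _ _ hx hy => by rw [map_add]; exact add_mem hx hy)
      (fun a x _ hx => by rw [hδs]; exact Submodule.smul_mem _ _ hx) (hhom D' w hwL hwhom)
  · rintro _ ⟨x, hx, rfl⟩
    obtain ⟨q, rfl⟩ := hx
    exact hT _ q.1.2 q.2.1

end GrothLib.RigidBase
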