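import Mathlib
import Groth.Agent.Lib.RigidBase.Poly
import Groth.Agent.Lib.RigidBase.Algebra
import Groth.Agent.Lib.AdicExtra.Exact

/-!
# Completions of algebras of finite type over algebras of topologically finite type
-/

open TensorProduct

namespace GrothLib.RigidBase

universe u

/-- Submodules of finite free modules are finite up to a power of `I` and satisfy Artin–Rees. -/
def HasAR {A : Type u} [CommRing A] (I : Ideal A) : Prop :=
  ∀ (r : ℕ) (K : Submodule A (Fin r → A)),
    (∃ K' ≤ K, K'.FG ∧ ∃ c, I ^ c • K ≤ K') ∧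
      ∃ n₀, ∀ m, I ^ (m + n₀) • ⊤ ⊓ K ≤ I ^ m • K

theorem hasAR_of_isNoetherianRing {A : Type u} [CommRing A] [IsNoetherianRing A] (I : Ideal A) :
    HasAR I := fun r K => by
  refine ⟨⟨K, le_rfl, IsNoetherian.noetherian K, 0, by simp⟩, ?_⟩
  obtain ⟨k, hk⟩ := Ideal.exists_pow_inf_eq_pow_smul I K
  refine ⟨k, fun m => ?_⟩
  rw [hk (m + k) (Nat.le_add_left k m), Nat.add_sub_cancel]
  exact Submodule.smul_mono le_rfl inf_le_right

theorem hasAR_of_sat {A : Type u} [CommRing A] (t : A)
    (h : ∀ (r : ℕ) (N : Submodule A (Fin r → A)), (∀ x, t • x ∈ N → x ∈ N) → N.FG) :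
    HasAR (Ideal.span {t}) := fun r K => by
  classical
  let Ks : Submodule A (Fin r → A) :=
    { carrier := {x | ∃ l, t ^ l • x ∈ K}
      add_mem' := fun {a b} ⟨l, hl⟩ ⟨l', hl'⟩ => ⟨l + l', by
        rw [smul_add, pow_add]
        refine add_mem ?_ ?_
        · rw [mul_comm, mul_smul]; exact K.smul_mem _ hl
        · rw [mul_smul]; exact K.smul_mem _ hl'⟩
      zero_mem' := ⟨0, by simp⟩
      smul_mem' := fun c a ⟨l, hl⟩ => ⟨l, by rw [smul_comm]; exact K.smul_mem c hl⟩ }
  have hfg : Ks.FG := h r Ks fun x ⟨l, hl⟩ => ⟨l + 1, by rwa [pow_succ, mul_smul]⟩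
  obtain ⟨T, hT⟩ := id hfg
  have hmem : ∀ x : T, ∃ l, t ^ l • x.1 ∈ K := fun x =>
    (hT ▸ Submodule.subset_span x.2 : x.1 ∈ Ks)
  choose l hl using hmem
  let c := Finset.univ.sup l
  have hc : Submodule.map (LinearMap.lsmul A _ (t ^ c)) Ks ≤ K := by
    rw [← hT, Submodule.map_span, Submodule.span_le]
    rintro _ ⟨x, hx, rfl⟩
    show t ^ c • x ∈ K
    rw [← Nat.sub_add_cancel (show l ⟨x, hx⟩ ≤ c from Finset.le_sup (f := l) (Finset.mem_univ _)),
      pow_add, mul_smul]
    exact K.smul_mem _ (hl ⟨x, hx⟩)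
  refine ⟨⟨_, hc, hfg.map _, c, ?_⟩, c, fun m x hx => ?_⟩
  · rw [Ideal.span_singleton_pow, Submodule.ideal_span_singleton_smul]
    intro x hx
    obtain ⟨y, hy, rfl⟩ := (Submodule.mem_smul_pointwise_iff_exists _ _ _).1 hx
    exact ⟨y, ⟨0, by simpa using hy⟩, rfl⟩
  · obtain ⟨h1, h2⟩ := hx
    rw [Ideal.span_singleton_pow, SetLike.mem_coe, Submodule.ideal_span_singleton_smul] at h1
    obtain ⟨y, -, rfl⟩ := (Submodule.mem_smul_pointwise_iff_exists _ _ _).1 h1
    rw [pow_add, mul_smul]
    exact Submodule.smul_mem_smul (Ideal.pow_mem_pow (Ideal.mem_span_singleton_self t) m)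
      (hc ⟨y, ⟨_, h2⟩, rfl⟩)

theorem hasAR_of_surjective {A B : Type u} [CommRing A] [CommRing B] (f : A →+* B)
    (hf : Function.Surjective f) {I : Ideal A} (h : HasAR I) : HasAR (I.map f) := fun r K => by
  classical
  let _ := f.toAlgebra
  let g : (Fin r → A) →ₗ[A] (Fin r → B) := (Algebra.linearMap A B).compLeft (Fin r)
  have hg : Function.Surjective g := fun y => by
    choose x hx using fun i => hf (y i)
    exact ⟨x, funext hx⟩
  have hrs : ∀ (j : ℕ) (L : Submodule B (Fin r → B)),
      ((I.map f) ^ j • L).restrictScalars A = I ^ j • L.restrictScalars A := fun j L => by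
    rw [← Ideal.map_pow]
    exact Ideal.smul_restrictScalars (I ^ j) L
  have hmap : Submodule.map g ((K.restrictScalars A).comap g) = K.restrictScalars A :=
    Submodule.map_comap_eq_of_surjective hg _
  obtain ⟨⟨K', hK', hfg, c, hc⟩, n₀, hn⟩ := h r ((K.restrictScalars A).comap g)
  have hspan : Submodule.span B (g '' K') ≤ K := Submodule.span_le.2 (by
    rintro _ ⟨x, hx, rfl⟩
    exact hK' hx)
  refine ⟨⟨_, hspan, ?_, c, ?_⟩, n₀, fun m x hx => ?_⟩
  · obtain ⟨T, hT⟩ := hfg
    refine ⟨T.image g, le_antisymm (Submodule.span_mono ?_) (Submodule.span_le.2 ?_)⟩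
    · rw [Finset.coe_image, ← hT]
      exact Set.image_mono Submodule.subset_span
    · rintro _ ⟨x, hx, rfl⟩
      rw [← hT] at hx
      have hx' : g x ∈ Submodule.map g (Submodule.span A (T : Set (Fin r → A))) := ⟨x, hx, rfl⟩
      rw [Submodule.map_span] at hx'
      rw [Finset.coe_image]
      exact Submodule.span_le_restrictScalars A B _ hx'
  · intro x hx
    rw [← Submodule.restrictScalars_mem A, hrs, ← hmap, ← Submodule.map_smul''] at hx
    obtain ⟨y, hy, rfl⟩ := hx
    exact Submodule.subset_span ⟨y, hc hy, rfl⟩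
  · obtain ⟨h1, h2⟩ := hx
    rw [SetLike.mem_coe, ← Submodule.restrictScalars_mem A, hrs, Submodule.restrictScalars_top,
      ← LinearMap.range_eq_top.2 hg, ← Submodule.map_top, ← Submodule.map_smul''] at h1
    obtain ⟨y, hy, rfl⟩ := h1
    rw [← Submodule.restrictScalars_mem A, hrs, ← hmap, ← Submodule.map_smul'']
    exact ⟨y, hn m ⟨hy, h2⟩, rfl⟩

section Completion

variable {A : Type u} [CommRing A] {I : Ideal A}

theorem surjective_ofTensorProduct_of_le {F : Type u} [AddCommGroup F] [Module A F]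
    (K K' : Submodule A F) (hle : K' ≤ K) (hfg : K'.FG) (c : ℕ) (hc : I ^ c • K ≤ K') :
    Function.Surjective (AdicCompletion.ofTensorProduct I K) := by
  intro x
  have : Module.Finite A K' := Module.Finite.iff_fg.2 hfg
  obtain ⟨k, rfl⟩ := AdicCompletion.mk_surjective I K x
  have hmono : ∀ (a : ℕ) (z : K), z ∈ (I ^ (a + c) • ⊤ : Submodule A K) →
      ∃ hz : z.1 ∈ K', (⟨z.1, hz⟩ : K') ∈ (I ^ a • ⊤ : Submodule A K') := by
    intro a z hz
    have h1 : z.1 ∈ I ^ a • (I ^ c • K) := by
      rw [← Submodule.mul_smul, ← pow_add]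
      have := Submodule.mem_map_of_mem (f := K.subtype) hz
      rwa [Submodule.map_smul'', Submodule.map_subtype_top] at this
    have h2 : z.1 ∈ I ^ a • K' := Submodule.smul_mono le_rfl hc h1
    refine ⟨Submodule.smul_le_right h2, ?_⟩
    have h3 : z.1 ∈ Submodule.map K'.subtype (I ^ a • ⊤) := by
      rwa [Submodule.map_smul'', Submodule.map_subtype_top]
    obtain ⟨w, hw, hwz⟩ := h3
    rwa [show (⟨z.1, Submodule.smul_le_right h2⟩ : K') = w from Subtype.ext hwz.symm]
  have hdiff : ∀ m, (k (m + c) - k c).1 ∈ K' := fun m => by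
    obtain ⟨hz, -⟩ := hmono 0 (k (m + c) - k c)
      (by rw [zero_add]; exact SModEq.sub_mem.1 (k.property (Nat.le_add_left c m)).symm)
    exact hz
  let b : AdicCompletion.AdicCauchySequence I K' :=
    AdicCompletion.AdicCauchySequence.mk I K' (fun m => ⟨_, hdiff m⟩) fun m => by
      rw [SModEq.sub_mem]
      obtain ⟨hz, hmem⟩ := hmono m (k (m + c) - k (m + 1 + c))
        (SModEq.sub_mem.1 (k.property (by omega)))
      convert hmem using 1
      exact Subtype.ext (by simp)
  obtain ⟨z, hz⟩ := AdicCompletion.ofTensorProduct_surjective_of_finite I K'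
    (AdicCompletion.mk I K' b)
  refine ⟨(1 : AdicCompletion I A) ⊗ₜ[A] k c +
    AlgebraTensorModule.map (LinearMap.id (R := AdicCompletion I A)) (Submodule.inclusion hle) z, ?_⟩
  rw [map_add, ← LinearMap.comp_apply (AdicCompletion.ofTensorProduct I K)
    (AlgebraTensorModule.map (LinearMap.id (R := AdicCompletion I A)) (Submodule.inclusion hle)),
    ← AdicCompletion.ofTensorProduct_naturality, LinearMap.comp_apply, hz,
    AdicCompletion.ofTensorProduct_tmul, one_smul]
  refine AdicCompletion.ext fun m => ?_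
  simp only [AdicCompletion.val_add_apply, AdicCompletion.of_apply, AdicCompletion.map_mk,
    AdicCompletion.mk_apply_coe, Submodule.mkQ_apply,
    AdicCompletion.AdicCauchySequence.map_apply_coe]
  rw [← Submodule.Quotient.mk_add, Submodule.Quotient.eq]
  have h1 : k (m + c) - k m ∈ (I ^ m • ⊤ : Submodule A K) :=
    SModEq.sub_mem.1 (k.property (Nat.le_add_right m c)).symm
  convert h1 using 1
  exact Subtype.ext (by simp [b])

theorem ofTensorProduct_bijective_of_hasAR (h : HasAR I) (M : Type u) [AddCommGroup M] [Module A M]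
    [Module.Finite A M] : Function.Bijective (AdicCompletion.ofTensorProduct I M) := by
  refine ⟨?_, AdicCompletion.ofTensorProduct_surjective_of_finite I M⟩
  obtain ⟨r, f, hf⟩ := Module.Finite.exists_fin' A M
  obtain ⟨⟨K', hle, hfg, c, hc⟩, n₀, hn⟩ := h r (LinearMap.ker f)
  have hbound : ∀ m, (I ^ (m + n₀) • ⊤ : Submodule A (Fin r → A)).comap (LinearMap.ker f).subtype ≤
      (I ^ m • ⊤ : Submodule A (LinearMap.ker f)) := by
    intro m x hx
    have := hn m ⟨hx, x.2⟩
    have h3 : x.1 ∈ Submodule.map (LinearMap.ker f).subtype (I ^ m • ⊤) := by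
      rwa [Submodule.map_smul'', Submodule.map_subtype_top]
    obtain ⟨w, hw, hwz⟩ := h3
    rwa [← Subtype.ext hwz]
  have hex := GrothLib.AdicExtra.map_exact_of_bound (I := I) _ f hf
    (LinearMap.exact_subtype_ker_map f) n₀ hbound
  rw [injective_iff_map_eq_zero]
  intro x hx
  obtain ⟨y, rfl⟩ := LinearMap.lTensor_surjective (AdicCompletion I A) hf x
  have hy : AdicCompletion.map I f (AdicCompletion.ofTensorProduct I (Fin r → A) y) = 0 := by
    rw [← LinearMap.comp_apply, AdicCompletion.ofTensorProduct_naturality]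
    exact hx
  obtain ⟨w, hw⟩ := (hex _).1 hy
  obtain ⟨z, rfl⟩ := surjective_ofTensorProduct_of_le _ K' hle hfg c hc w
  rw [← LinearMap.comp_apply, AdicCompletion.ofTensorProduct_naturality] at hw
  rw [← (AdicCompletion.ofTensorProduct_bijective_of_pi_of_fintype I (Fin r)).injective hw]
  exact congrFun (congrArg DFunLike.coe (by
    rw [← LinearMap.lTensor_comp, LinearMap.comp_ker_subtype, LinearMap.lTensor_zero] :
    (f.lTensor (AdicCompletion I A)) ∘ₗ ((LinearMap.ker f).subtype.lTensor _) = 0)) z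

theorem flat_of_hasAR (h : HasAR I) : Module.Flat A (AdicCompletion I A) := by
  refine Module.Flat.iff_lTensor_injective.mpr fun J hJ => ?_
  have : Module.Finite A J := Module.Finite.iff_fg.2 hJ
  obtain ⟨-, n₀, hn⟩ := h 1 (Submodule.comap (LinearEquiv.funUnique (Fin 1) A A).toLinearMap J)
  let e := LinearEquiv.funUnique (Fin 1) A A
  have hb : ∀ m, (I ^ (m + n₀) • ⊤ : Submodule A A).comap J.subtype ≤
      (I ^ m • ⊤ : Submodule A J) := by
    intro m x hx
    have h1 : e.symm x.1 ∈ I ^ (m + n₀) • (⊤ : Submodule A (Fin 1 → A)) := by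
      rw [← LinearMap.range_eq_top.2 e.symm.surjective, ← Submodule.map_top,
        ← Submodule.map_smul'']
      exact Submodule.mem_map_of_mem hx
    have h2 := hn m ⟨h1, by simp [e]⟩
    have h3 := Submodule.mem_map_of_mem (f := e.toLinearMap) h2
    rw [Submodule.map_smul'', Submodule.map_comap_eq_of_surjective e.surjective] at h3
    simp only [LinearEquiv.coe_coe, LinearEquiv.apply_symm_apply] at h3
    have h4 : x.1 ∈ Submodule.map J.subtype (I ^ m • ⊤) := by
      rwa [Submodule.map_smul'', Submodule.map_subtype_top]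
    obtain ⟨w, hw, hwz⟩ := h4
    rwa [← Subtype.ext hwz]
  have hinj := GrothLib.AdicExtra.map_injective_of_bound (I := I) J.subtype n₀ hb
  have hJb := ofTensorProduct_bijective_of_hasAR h J
  intro a b hab
  apply hJb.injective
  apply hinj
  rw [← LinearMap.comp_apply, ← LinearMap.comp_apply (AdicCompletion.map I J.subtype),
    AdicCompletion.ofTensorProduct_naturality]
  exact congrArg (AdicCompletion.ofTensorProduct I A) hab

end Completion

variable {R : Type u} [CommRing R] {I : Ideal R}

theorem hasAR_poly_rpow (hR : AdicRing.IsBase R I) (n k : ℕ) :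
    HasAR (I.map (algebraMap R (MvPolynomial (Fin k) (AdicRing.RPow R I n)))) := by
  rcases isBase_cases hR with ⟨hN, -⟩ | ⟨t, rfl, hV⟩
  · have := isNoetherianRing_rpow (I := I) n
    exact hasAR_of_isNoetherianRing _
  have := hV.isDomain
  have := hV.preValuationRing
  have hc := isAdicComplete_rpow (R := R) (Submodule.fg_span_singleton t : (Ideal.span {t}).FG) n
  rw [show (Ideal.span {t}).map (algebraMap R (AdicRing.RPow R (Ideal.span {t}) n)) =
      Ideal.span {algebraMap R (AdicRing.RPow R (Ideal.span {t}) n) t} from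
      (Ideal.map_span _ _).trans (congrArg Ideal.span Set.image_singleton)] at hc
  rw [show (Ideal.span {t}).map
      (algebraMap R (MvPolynomial (Fin k) (AdicRing.RPow R (Ideal.span {t}) n))) =
      Ideal.span {algebraMap R (MvPolynomial (Fin k) (AdicRing.RPow R (Ideal.span {t}) n)) t} from
      (Ideal.map_span _ _).trans (congrArg Ideal.span Set.image_singleton)]
  refine hasAR_of_sat _ fun r N hN => fg_of_saturated_poly (isRPow t n) hV.ne_zero hV.not_isUnit
    hV.dvd_pow hV.pow_dvd N fun γ hγ x hx => ?_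
  obtain ⟨l, e, he⟩ := hV.dvd_pow γ hγ
  have hl : t ^ l • x ∈ N := by
    rw [he, mul_comm, mul_smul]
    exact N.smul_of_tower_mem e hx
  clear he hx
  induction l generalizing x with
  | zero => simpa using hl
  | succ l ih => exact hN x (ih _ (by rwa [algebraMap_smul, smul_smul, ← pow_succ]))

theorem hasAR_finiteType (hR : AdicRing.IsBase R I) {A : Type u} [CommRing A] [Algebra R A]
    (hA : AdicRing.TopFiniteType R I A) (B : Type u) [CommRing B] [Algebra R B] [Algebra A B]
    [IsScalarTower R A B] [Algebra.FiniteType A B] : HasAR (I.map (algebraMap R B)) := by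
  obtain ⟨n, φ, hφ⟩ := hA
  obtain ⟨k, f, hf⟩ := (Algebra.FiniteType.iff_quotient_mvPolynomial'' (R := A) (S := B)).1
    inferInstance
  let F : MvPolynomial (Fin k) (AdicRing.RPow R I n) →+* B :=
    (f : MvPolynomial (Fin k) A →+* B).comp (MvPolynomial.map φ.toRingHom)
  have hF : Function.Surjective F := hf.comp (MvPolynomial.map_surjective _ hφ)
  have := hasAR_of_surjective F hF (hasAR_poly_rpow hR n k)
  rwa [Ideal.map_map, show F.comp (algebraMap R (MvPolynomial (Fin k) (AdicRing.RPow R I n))) =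
    algebraMap R B from RingHom.ext fun x => by
      show f (MvPolynomial.map φ.toRingHom (MvPolynomial.C (algebraMap R _ x))) = _
      rw [MvPolynomial.map_C, AlgHom.toRingHom_eq_coe, RingHom.coe_coe, φ.commutes,
        ← MvPolynomial.algebraMap_eq, f.commutes, ← IsScalarTower.algebraMap_apply]] at this

end GrothLib.RigidBase
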