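import Mathlib
import Groth.Agent.Lib.RigidBase.Completion

/-!
# Charts of admissible formal blowing-ups
-/

open TensorProduct

namespace GrothLib.RigidBase

universe u

variable {R : Type u} [CommRing R] {I : Ideal R}

theorem algebraMap_completion_apply {S : Type u} [CommRing S] (J : Ideal S) (s : S) :
    algebraMap S (AdicCompletion J S) s = AdicCompletion.of J S s := by
  simp [AdicCompletion.algebraMap_apply]

/-- Elements of the completion are images modulo powers. -/
theorem exists_sub_mem_pow_map (hI : I.FG) {S : Type u} [CommRing S] [Algebra R S] (n : ℕ)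
    (x : AdicCompletion (I.map (algebraMap R S)) S) :
    ∃ s, x - algebraMap S _ s ∈
      (I ^ n).map (algebraMap R (AdicCompletion (I.map (algebraMap R S)) S)) := by
  obtain ⟨s, hs⟩ := Ideal.Quotient.mk_surjective
    (AdicCompletion.evalₐ (I.map (algebraMap R S)) n x)
  refine ⟨s, ?_⟩
  have hker : x - algebraMap S _ s ∈ (AdicCompletion.eval (I.map (algebraMap R S)) S n).ker := by
    rw [LinearMap.mem_ker, ← AdicCompletion.factor_evalₐ_eq_eval _ (h := by simp), map_sub,
      AlgHom.commutes, Ideal.Quotient.algebraMap_eq, hs, sub_self, map_zero]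
  rw [← AdicCompletion.pow_smul_top_eq_ker_eval (hI.map _), Ideal.smul_top_eq_map,
    Submodule.restrictScalars_mem] at hker
  rwa [← Ideal.map_pow, Ideal.map_map, ← IsScalarTower.algebraMap_eq] at hker

/-- Extension of an algebra map to the completion. -/
theorem existsUnique_extension (hI : I.FG) {S B : Type u} [CommRing S] [Algebra R S] [CommRing B]
    [Algebra R B] [IsAdicComplete (I.map (algebraMap R B)) B] (g : S →ₐ[R] B) :
    ∃! G : AdicCompletion (I.map (algebraMap R S)) S →ₐ[R] B,
      ∀ s, G (algebraMap S _ s) = g s := by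
  set J := I.map (algebraMap R S) with hJ
  set JB := I.map (algebraMap R B) with hJB
  have hle : ∀ n, J ^ n ≤ (JB ^ n).comap g := fun n => by
    rw [← Ideal.map_le_iff_le_comap, Ideal.map_pow]
    refine Ideal.pow_right_mono ?_ n
    rw [hJ, Ideal.map_le_iff_le_comap, Ideal.map_le_iff_le_comap]
    intro a ha
    simpa [Ideal.mem_comap] using Ideal.mem_map_of_mem (algebraMap R B) ha
  let f : ∀ n, AdicCompletion J S →ₐ[R] B ⧸ JB ^ n := fun n =>
    (Ideal.quotientMapₐ (JB ^ n) g (hle n)).comp
      ((AdicCompletion.evalₐ J n).restrictScalars R)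
  have hf : ∀ {m n : ℕ} (h : m ≤ n),
      (Ideal.Quotient.factorₐ R (Ideal.pow_le_pow_right h)).comp (f n) = f m := by
    intro m n h
    refine AlgHom.ext fun x => ?_
    obtain ⟨q, rfl⟩ := AdicCompletion.mk_surjective J S x
    have hq : q n - q m ∈ J ^ m := by
      have := SModEq.sub_mem.1 (q.property h).symm
      simpa [Ideal.smul_eq_mul, Ideal.mul_top] using this
    simp only [f, AlgHom.comp_apply, AlgHom.restrictScalars_apply, AdicCompletion.evalₐ_mk]
    exact Ideal.Quotient.eq.2 (by rw [← map_sub]; exact hle m hq)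
  refine ⟨IsAdicComplete.liftAlgHom JB f hf, fun s => ?_, fun G hG => ?_⟩
  · rw [← sub_eq_zero]
    refine IsHausdorff.haus (inferInstance : IsHausdorff JB B) _ fun n => SModEq.zero.2 ?_
    rw [Ideal.smul_eq_mul, Ideal.mul_top, ← Ideal.Quotient.eq_zero_iff_mem, map_sub,
      IsAdicComplete.mk_liftAlgHom]
    simp [f, algebraMap_completion_apply]
  · refine AlgHom.ext fun x => ?_
    rw [← sub_eq_zero]
    refine IsHausdorff.haus (inferInstance : IsHausdorff JB B) _ fun n => SModEq.zero.2 ?_
    rw [Ideal.smul_eq_mul, Ideal.mul_top, ← Ideal.Quotient.eq_zero_iff_mem, map_sub,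
      IsAdicComplete.mk_liftAlgHom]
    obtain ⟨s, hs⟩ := exists_sub_mem_pow_map hI n x
    have hmem : ∀ y ∈ (I ^ n).map (algebraMap R (AdicCompletion J S)),
        Ideal.Quotient.mk (JB ^ n) (G y) = 0 ∧ f n y = 0 := by
      intro y hy
      refine ⟨Ideal.Quotient.eq_zero_iff_mem.2 ?_, ?_⟩
      · have := Ideal.mem_map_of_mem (G : _ →+* B) hy
        rw [Ideal.map_map, AlgHom.comp_algebraMap, Ideal.map_pow] at this
        exact this
      · have := Ideal.mem_map_of_mem (f n : _ →+* B ⧸ JB ^ n) hy
        rw [Ideal.map_map, AlgHom.comp_algebraMap,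
          IsScalarTower.algebraMap_eq R B (B ⧸ JB ^ n), ← Ideal.map_map, Ideal.map_pow,
          Ideal.Quotient.algebraMap_eq, ← hJB, Ideal.map_quotient_self] at this
        simpa using this
    obtain ⟨h1, h2⟩ := hmem _ hs
    rw [map_sub, map_sub, sub_eq_zero] at h1
    rw [map_sub, sub_eq_zero] at h2
    rw [h1, h2, hG s, sub_eq_zero, algebraMap_completion_apply]
    show _ = Ideal.quotientMapₐ (JB ^ n) g (hle n) (AdicCompletion.evalₐ J n (AdicCompletion.of J S s))
    rw [AdicCompletion.evalₐ_of]
    rfl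

variable {A : Type u} [CommRing A] [Algebra R A] {r : ℕ} (f : Fin (r + 1) → A) (i : Fin (r + 1))

/-- Multiplying by a power of `f i` lands in the image of `A`. -/
theorem exists_pow_mul_eq_algebraMap (x : AdicRing.chartAlg f i) :
    ∃ (D : ℕ) (a : A), algebraMap A _ (f i) ^ D * x = algebraMap A _ a := by
  obtain ⟨p, rfl⟩ := Ideal.Quotient.mk_surjective x
  induction p using MvPolynomial.induction_on with
  | C a => exact ⟨0, a, by rw [pow_zero, one_mul]; rfl⟩
  | add p q hp hq =>
    obtain ⟨D, a, ha⟩ := hp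
    obtain ⟨E, b, hb⟩ := hq
    refine ⟨D + E, f i ^ E * a + f i ^ D * b, ?_⟩
    rw [map_add (Ideal.Quotient.mk _), mul_add, map_add, map_mul, map_mul, map_pow, map_pow, ← ha,
      ← hb]
    ring
  | mul_X p j hp =>
    obtain ⟨D, a, ha⟩ := hp
    refine ⟨D + 1, a * f j.1, ?_⟩
    rw [map_mul (Ideal.Quotient.mk _), map_mul, ← ha]
    have hrel : algebraMap A (AdicRing.chartAlg f i) (f i) *
        Ideal.Quotient.mk _ (MvPolynomial.X j) = algebraMap A _ (f j.1) :=
      Ideal.Quotient.eq.2 (Ideal.subset_span ⟨j, rfl⟩)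
    rw [← hrel]
    ring

/-- `I`-torsion in the chart algebra is `f i`-power torsion. -/
theorem exists_pow_mul_eq_zero (hI : I.FG) (hA : AdicRing.NoPowTorsion I A) (n : ℕ)
    (x : AdicRing.chartAlg f i) (hx : ∀ a ∈ I ^ n, a • x = 0) :
    ∃ N, algebraMap A (AdicRing.chartAlg f i) (f i) ^ N * x = 0 := by
  classical
  obtain ⟨D, a0, hD⟩ := exists_pow_mul_eq_algebraMap f i x
  let L := Localization.Away (f i)
  let u : L := IsLocalization.Away.invSelf (f i)
  have hu : algebraMap A L (f i) * u = 1 := IsLocalization.Away.mul_invSelf (f i)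
  let h : AdicRing.chartAlg f i →ₐ[A] L := Ideal.Quotient.liftₐ _
    (MvPolynomial.aeval fun j : {j // j ≠ i} => algebraMap A L (f j.1) * u) (by
      intro p hp
      rw [← RingHom.mem_ker]
      refine (Ideal.span_le.2 ?_) hp
      rintro _ ⟨j, rfl⟩
      simp only [SetLike.mem_coe, RingHom.mem_ker, map_sub, map_mul, MvPolynomial.aeval_C,
        MvPolynomial.aeval_X, sub_eq_zero]
      rw [mul_left_comm, hu, mul_one])
  have hkill : ∀ a ∈ I ^ n, ∃ M, f i ^ M * (a • a0) = 0 := by
    intro a ha
    have h1 : algebraMap A L (a • a0) = 0 := by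
      have : algebraMap A (AdicRing.chartAlg f i) (a • a0) = 0 := by
        rw [Algebra.smul_def, map_mul, ← IsScalarTower.algebraMap_apply, ← hD, mul_left_comm,
          ← Algebra.smul_def, hx a ha, mul_zero]
      rw [← h.commutes, this, map_zero]
    obtain ⟨⟨_, M, rfl⟩, hM⟩ := (IsLocalization.map_eq_zero_iff (Submonoid.powers (f i)) L _).1 h1
    exact ⟨M, hM⟩
  obtain ⟨T, hT⟩ := Submodule.FG.pow hI n
  choose M hM using fun a : T => hkill a.1 (hT ▸ Submodule.subset_span a.2)
  let N := Finset.univ.sup M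
  have h0 : f i ^ N * a0 = 0 := by
    refine hA _ n fun a ha => ?_
    rw [← hT] at ha
    induction ha using Submodule.span_induction with
    | mem a ha =>
      rw [← mul_smul_comm,
        ← Nat.sub_add_cancel (show M ⟨a, ha⟩ ≤ N from Finset.le_sup (Finset.mem_univ _)),
        pow_add, mul_assoc, hM ⟨a, ha⟩, mul_zero]
    | zero => exact zero_smul R _
    | add a b _ _ ha hb => rw [add_smul, ha, hb, add_zero]
    | smul c a _ ha => rw [smul_eq_mul, mul_smul, ha, smul_zero]
  refine ⟨N + D, ?_⟩
  rw [pow_add, mul_assoc, hD, ← map_pow, ← map_mul, h0, map_zero]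

theorem powTorsion_iff (hR : AdicRing.IsBase R I) (hA : AdicRing.Admissible R I A) (k : ℕ)
    (hopen : (I ^ k).map (algebraMap R A) ≤ Ideal.span (Set.range f))
    (x : AdicRing.chartCompl I f i) :
    (∃ n : ℕ, ∀ a ∈ I ^ n, a • x = 0) ↔
      ∃ n : ℕ, algebraMap A (AdicRing.chartCompl I f i) (f i) ^ n * x = 0 := by
  classical
  have hI := fg_of_isBase hR
  let C := AdicRing.chartAlg f i
  constructor
  · rintro ⟨n, hn⟩
    obtain ⟨m, φ, hφ, -⟩ := hA.1
    have : Module.Flat C (AdicRing.chartCompl I f i) :=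
      flat_of_hasAR (hasAR_finiteType hR ⟨m, φ, hφ⟩ C)
    obtain ⟨T, hT⟩ := Submodule.FG.pow hI n
    let α : C →ₗ[C] (T → C) := LinearMap.pi fun a => (algebraMap R C a.1) • LinearMap.id
    have hex := Module.Flat.lTensor_exact (AdicRing.chartCompl I f i)
      (LinearMap.exact_subtype_ker_map α)
    have hker : ∀ y : LinearMap.ker α,
        ∃ N, algebraMap A C (f i) ^ N * y.1 = 0 := fun y => by
      refine exists_pow_mul_eq_zero f i hI hA.2 n y.1 fun a ha => ?_
      rw [← hT] at ha
      induction ha using Submodule.span_induction with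
      | mem a ha =>
        have := congrFun (LinearMap.mem_ker.1 y.2) ⟨a, ha⟩
        simpa [α, ← algebraMap_smul C a] using this
      | zero => exact zero_smul R _
      | add a b _ _ ha hb => rw [add_smul, ha, hb, add_zero]
      | smul c a _ ha => rw [smul_eq_mul, mul_smul, ha, smul_zero]
    have h1 : α.lTensor (AdicRing.chartCompl I f i) (x ⊗ₜ[C] 1) = 0 := by
      rw [LinearMap.lTensor_tmul]
      apply (TensorProduct.piScalarRight C C (AdicRing.chartCompl I f i) T).injective
      funext a
      simp only [TensorProduct.piScalarRight_apply, TensorProduct.piScalarRightHom_tmul, map_zero,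
        Pi.zero_apply, α, LinearMap.pi_apply, LinearMap.smul_apply, LinearMap.id_apply, smul_eq_mul,
        mul_one]
      rw [algebraMap_smul]
      exact hn a.1 (hT ▸ Submodule.subset_span a.2)
    obtain ⟨w, hw⟩ := (hex _).1 h1
    obtain ⟨N, hN⟩ : ∃ N, (algebraMap A C (f i) ^ N) •
        (LinearMap.lTensor (AdicRing.chartCompl I f i) (LinearMap.ker α).subtype w) = 0 := by
      clear hw
      induction w with
      | zero => exact ⟨0, by simp⟩
      | tmul c y =>
        obtain ⟨N, hN⟩ := hker y
        refine ⟨N, ?_⟩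
        rw [LinearMap.lTensor_tmul, Submodule.subtype_apply, ← tmul_smul, smul_eq_mul, hN, tmul_zero]
      | add a b ha hb =>
        obtain ⟨N1, h1⟩ := ha
        obtain ⟨N2, h2⟩ := hb
        refine ⟨N1 + N2, ?_⟩
        let lT := LinearMap.lTensor (AdicRing.chartCompl I f i) (LinearMap.ker α).subtype
        have hz : ∀ (p q : C) (z : AdicRing.chartCompl I f i ⊗[C] C), p • z = 0 →
            (p * q) • z = 0 := fun p q z hpz =>
          (congrArg (fun c => c • z) (mul_comm p q)).trans ((mul_smul q p z).trans (by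
            rw [hpz]; exact smul_zero q))
        rw [map_add, smul_add, pow_add, hz _ _ _ h1, zero_add, mul_comm]
        exact hz _ _ _ h2
    refine ⟨N, ?_⟩
    rw [hw] at hN
    have := congrArg (TensorProduct.rid C (AdicRing.chartCompl I f i)) hN
    rw [map_smul, TensorProduct.rid_tmul, one_smul, map_zero] at this
    rw [IsScalarTower.algebraMap_apply A C (AdicRing.chartCompl I f i), ← map_pow,
      ← Algebra.smul_def]
    exact this
  · rintro ⟨n, hn⟩
    refine ⟨k * n, fun a ha => ?_⟩
    have hspan : (Ideal.span (Set.range f)).map (algebraMap A (AdicRing.chartCompl I f i)) ≤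
        Ideal.span {algebraMap A (AdicRing.chartCompl I f i) (f i)} := by
      rw [Ideal.map_le_iff_le_comap, Ideal.span_le]
      rintro _ ⟨j, rfl⟩
      rw [SetLike.mem_coe, Ideal.mem_comap, Ideal.mem_span_singleton]
      by_cases hj : j = i
      · rw [hj]
      · let z : C := Ideal.Quotient.mk _ (MvPolynomial.X (⟨j, hj⟩ : {j : Fin (r + 1) // j ≠ i}))
        have hrel : algebraMap A C (f i) * z = algebraMap A C (f j) :=
          Ideal.Quotient.eq.2 (Ideal.subset_span ⟨⟨j, hj⟩, rfl⟩)
        refine ⟨algebraMap C _ z, ?_⟩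
        rw [IsScalarTower.algebraMap_apply A C (AdicRing.chartCompl I f i),
          IsScalarTower.algebraMap_apply A C (AdicRing.chartCompl I f i), ← map_mul, hrel]
    have h1 : algebraMap R (AdicRing.chartCompl I f i) a ∈
        Ideal.span {algebraMap A (AdicRing.chartCompl I f i) (f i)} ^ n := by
      refine Ideal.pow_right_mono hspan n ?_
      rw [← Ideal.map_pow, IsScalarTower.algebraMap_apply R A]
      refine Ideal.mem_map_of_mem _ (Ideal.pow_right_mono hopen n ?_)
      rw [← Ideal.map_pow, ← pow_mul]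
      exact Ideal.mem_map_of_mem _ ha
    rw [Ideal.span_singleton_pow, Ideal.mem_span_singleton] at h1
    obtain ⟨c, hc⟩ := h1
    rw [Algebra.smul_def, hc, mul_right_comm, hn, zero_mul]

theorem existsUnique_lift (hI : I.FG) (B : Type u) [CommRing B] [Algebra R B]
    [IsAdicComplete (I.map (algebraMap R B)) B]
    (φ : A →ₐ[R] B) (hnzd : φ (f i) ∈ nonZeroDivisors B)
    (hgen : (Ideal.span (Set.range f)).map φ = Ideal.span {φ (f i)}) :
    ∃! ψ : AdicRing.chartAdm I f i →ₐ[R] B,
      ψ.comp (IsScalarTower.toAlgHom R A (AdicRing.chartAdm I f i)) = φ := by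
  let C := AdicRing.chartAlg f i
  let Q := AdicRing.chartCompl I f i
  let π : Q →ₐ[R] AdicRing.chartAdm I f i := Ideal.Quotient.mkₐ R _
  have hπ : Function.Surjective π := Ideal.Quotient.mk_surjective
  have hb : ∀ j : {j // j ≠ i}, ∃ b, φ (f j.1) = φ (f i) * b := fun j =>
    Ideal.mem_span_singleton.1 (hgen ▸ Ideal.mem_map_of_mem φ (Ideal.subset_span ⟨j.1, rfl⟩))
  choose b hb using hb
  let _ : Algebra A B := φ.toRingHom.toAlgebra
  have : IsScalarTower R A B := IsScalarTower.of_algebraMap_eq fun x => (φ.commutes x).symm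
  let gA : C →ₐ[A] B := Ideal.Quotient.liftₐ _ (MvPolynomial.aeval b) (by
    intro p hp
    rw [← RingHom.mem_ker]
    refine (Ideal.span_le.2 ?_) hp
    rintro _ ⟨j, rfl⟩
    simp only [SetLike.mem_coe, RingHom.mem_ker, map_sub, map_mul, MvPolynomial.aeval_C,
      MvPolynomial.aeval_X, sub_eq_zero]
    exact (hb j).symm)
  let g : C →ₐ[R] B := gA.restrictScalars R
  obtain ⟨G, hG, hGu⟩ := existsUnique_extension hI (B := B) g
  have hGA : ∀ a, G (algebraMap A Q a) = φ a := fun a => by
    rw [IsScalarTower.algebraMap_apply A C Q, hG]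
    exact gA.commutes a
  have hkill : ∀ x ∈ (⨆ n : ℕ, Submodule.torsionBy Q Q (algebraMap A Q (f i) ^ n) : Ideal Q),
      G x = 0 := by
    intro x hx
    have hle : (⨆ n : ℕ, Submodule.torsionBy Q Q (algebraMap A Q (f i) ^ n) : Ideal Q) ≤
        RingHom.ker G.toRingHom := iSup_le fun n y hy => by
      rw [Submodule.mem_torsionBy_iff, smul_eq_mul] at hy
      have := congrArg G hy
      rw [map_mul, map_pow, hGA, map_zero] at this
      exact ((mem_nonZeroDivisors_iff_right.1 (pow_mem hnzd n)) _ (by rwa [mul_comm]))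
    exact hle hx
  refine ⟨Ideal.Quotient.liftₐ _ G hkill, AlgHom.ext fun a => hGA a, fun ψ hψ => ?_⟩
  have hψA : ∀ a, ψ (π (algebraMap A Q a)) = φ a := fun a => congrArg (fun h => h a) hψ
  have hGψ : ψ.comp π = G := hGu _ fun s => by
    have hext : (ψ.comp π).comp (IsScalarTower.toAlgHom R C Q) = g := by
      have hC : ∀ c, ∀ d, φ (f i) ^ d * (ψ (π (algebraMap C Q c)) - g c) = 0 →
          ψ (π (algebraMap C Q c)) = g c := fun c d h => sub_eq_zero.1
        ((mem_nonZeroDivisors_iff_right.1 (pow_mem hnzd d)) _ (by rwa [mul_comm]))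
      refine AlgHom.ext fun c => ?_
      obtain ⟨D, a, hD⟩ := exists_pow_mul_eq_algebraMap f i c
      refine hC c D ?_
      rw [mul_sub, sub_eq_zero]
      have e1 := congrArg (fun y => ψ (π (algebraMap C Q y))) hD
      have e2 := congrArg g hD
      simp only [map_mul, map_pow] at e1
      rw [← IsScalarTower.algebraMap_apply, ← IsScalarTower.algebraMap_apply, hψA, hψA] at e1
      rw [map_mul, map_pow] at e2
      rw [e1]
      refine Eq.symm ?_
      convert e2 using 1
      · rw [show g (algebraMap A C (f i)) = φ (f i) from gA.commutes _]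
      · exact (gA.commutes a).symm
    exact congrArg (fun h => h s) hext
  refine AlgHom.ext fun x => ?_
  obtain ⟨y, rfl⟩ := hπ x
  rw [← AlgHom.comp_apply, hGψ]
  rfl

end GrothLib.RigidBase
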