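import Mathlib
import Groth.Agent.Lib.RigidBase.Chart
import Groth.Agent.Lib.AdicLim.Basic

/-!
# Topological finite presentation and truncations
-/

open MvPolynomial

namespace GrothLib.RigidBase

universe u

variable {R : Type u} [CommRing R] {I : Ideal R} {A : Type u} [CommRing A] [Algebra R A]

theorem exists_sub_mem_rpow (hI : I.FG) (n k : ℕ) (y : AdicRing.RPow R I n) :
    ∃ p : MvPolynomial (Fin n) R,
      y - algebraMap (MvPolynomial (Fin n) R) (AdicRing.RPow R I n) p ∈
        (I ^ k).map (algebraMap R (AdicRing.RPow R I n)) := by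
  have h := exists_sub_mem_pow_map (R := R) (S := MvPolynomial (Fin n) R) hI k
  rw [MvPolynomial.algebraMap_eq] at h
  exact h y

theorem mem_map_of_rpow (hI : I.FG) (n k : ℕ) (p : MvPolynomial (Fin n) R)
    (h : algebraMap (MvPolynomial (Fin n) R) (AdicRing.RPow R I n) p ∈
      (I ^ k).map (algebraMap R (AdicRing.RPow R I n))) :
    p ∈ (I ^ k).map (C : R →+* MvPolynomial (Fin n) R) := by
  rw [Ideal.map_pow] at h ⊢
  set J := I.map (C : R →+* MvPolynomial (Fin n) R) with hJ
  have h1 := Ideal.mem_map_of_mem (AdicCompletion.evalₐ J k).toRingHom h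
  rw [Ideal.map_pow, Ideal.map_map] at h1
  have h2 : ((AdicCompletion.evalₐ J k).toRingHom.comp
      (algebraMap R (AdicRing.RPow R I n))) = (Ideal.Quotient.mk (J ^ k)).comp C :=
    RingHom.ext fun x => by
      show AdicCompletion.evalₐ J k (algebraMap (MvPolynomial (Fin n) R) _ (C x)) = _
      rw [AlgHom.commutes]
      rfl
  rw [h2, ← Ideal.map_map] at h1
  replace h1 : _ ∈ J.map (Ideal.Quotient.mk (J ^ k)) ^ k := h1
  rw [← Ideal.map_pow (Ideal.Quotient.mk (J ^ k)) J k, Ideal.map_quotient_self] at h1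
  rw [← Ideal.Quotient.eq_zero_iff_mem]
  have h3 : AdicCompletion.evalₐ J k (algebraMap (MvPolynomial (Fin n) R) _ p) = 0 :=
    (Submodule.mem_bot _).1 h1
  rwa [AlgHom.commutes] at h3

theorem topFiniteType_of_trunc_finiteType (hI : I.FG) [IsAdicComplete (I.map (algebraMap R A)) A]
    {n : ℕ} (g : MvPolynomial (Fin n) R →ₐ[R] A)
    (hg : ∀ a : A, ∃ p, a - g p ∈ I.map (algebraMap R A)) :
    ∃ φ : AdicRing.RPow R I n →ₐ[R] A, Function.Surjective φ ∧
      ∀ p, φ (algebraMap (MvPolynomial (Fin n) R) _ p) = g p := by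
  have h := existsUnique_extension (R := R) (S := MvPolynomial (Fin n) R) (B := A) hI g
  rw [MvPolynomial.algebraMap_eq] at h
  obtain ⟨φ, hφ, -⟩ := h
  refine ⟨φ, fun a => ?_, hφ⟩
  let _ : Algebra (AdicRing.RPow R I n) A := φ.toRingHom.toAlgebra
  let J : Ideal (AdicRing.RPow R I n) := I.map (algebraMap R (AdicRing.RPow R I n))
  have : IsAdicComplete J (AdicRing.RPow R I n) := isAdicComplete_rpow hI n
  have hJ : ∀ k, ((J ^ k • ⊤ : Submodule (AdicRing.RPow R I n) A) : Set A) =
      ((I ^ k).map (algebraMap R A) : Set A) := fun k => by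
    rw [Ideal.smul_top_eq_map, Submodule.coe_restrictScalars, ← Ideal.map_pow, Ideal.map_map]
    show ((Ideal.map ((φ : AdicRing.RPow R I n →+* A).comp (algebraMap R _)) (I ^ k) : Ideal A) :
      Set A) = _
    rw [AlgHom.comp_algebraMap]
  obtain ⟨c, -, hc⟩ := GrothLib.AdicLim.exists_coeff_of_step (I := J) (fun _ : Unit => (1 : A)) 0
    (fun k y => y ∈ (I ^ k).map (algebraMap R A)) (fun k => J ^ k • ⊤)
    (fun k y hy => by rw [← SetLike.mem_coe, hJ]; exact hy) (fun k => le_rfl)
    (by
      rw [eq_bot_iff]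
      intro x hx
      rw [Submodule.mem_iInf] at hx
      refine IsHausdorff.haus (inferInstance : IsHausdorff (I.map (algebraMap R A)) A) x
        fun k => SModEq.zero.2 ?_
      rw [Ideal.smul_eq_mul, Ideal.mul_top, ← Ideal.map_pow]
      have := hx k
      rwa [← SetLike.mem_coe, hJ] at this)
    (fun k y hy => by
      have key : ∃ c : AdicRing.RPow R I n, c ∈ J ^ k ∧
          y - φ c ∈ (I ^ (k + 1)).map (algebraMap R A) := by
        rw [Ideal.map, Ideal.span] at hy
        induction hy using Submodule.span_induction with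
        | mem x hx =>
          obtain ⟨r, hr, rfl⟩ := hx
          refine ⟨algebraMap R _ r, ?_, by simp⟩
          show _ ∈ (I.map (algebraMap R (AdicRing.RPow R I n))) ^ k
          rw [← Ideal.map_pow]
          exact Ideal.mem_map_of_mem _ hr
        | zero => exact ⟨0, zero_mem _, by simp⟩
        | add x y _ _ hx hy =>
          obtain ⟨c, hc, hc'⟩ := hx
          obtain ⟨d, hd, hd'⟩ := hy
          exact ⟨c + d, add_mem hc hd, by
            rw [map_add, add_sub_add_comm]; exact add_mem hc' hd'⟩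
        | smul b x hxm hx =>
          obtain ⟨c, hc, hc'⟩ := hx
          obtain ⟨p, hp⟩ := hg b
          refine ⟨algebraMap (MvPolynomial (Fin n) R) _ p * c, Ideal.mul_mem_left _ _ hc, ?_⟩
          rw [map_mul, hφ, smul_eq_mul,
            show b * x - g p * φ c = (b - g p) * x + g p * (x - φ c) by ring]
          refine add_mem ?_ (Ideal.mul_mem_left _ _ hc')
          rw [Ideal.map_pow, pow_succ']
          refine Ideal.mul_mem_mul hp ?_
          rw [← Ideal.map_pow]
          exact hxm
      obtain ⟨c, hc, hc'⟩ := key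
      refine ⟨fun _ => c, fun _ => by simpa using hc, ?_⟩
      simpa [Algebra.smul_def, RingHom.algebraMap_toAlgebra] using hc')
    (x := a) (by rw [pow_zero, Ideal.one_eq_top, Ideal.map_top]; trivial)
  exact ⟨c (), by rw [hc]; simp [Algebra.smul_def, RingHom.algebraMap_toAlgebra]⟩

/-- The reduction of `R[X] → A` modulo `I ^ k`. -/
noncomputable def reduceHom (k n : ℕ) (g : MvPolynomial (Fin n) R →ₐ[R] A) :
    MvPolynomial (Fin n) R →+* A ⧸ (I ^ k).map (algebraMap R A) :=
  (Ideal.Quotient.mk _).comp (g : MvPolynomial (Fin n) R →+* A)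

theorem finitePresentation_of_reduce (k n : ℕ) (g : MvPolynomial (Fin n) R →ₐ[R] A)
    (hs : Function.Surjective (reduceHom (I := I) k n g))
    (hk : ∃ S : Ideal (MvPolynomial (Fin n) R), S.FG ∧
      RingHom.ker (reduceHom (I := I) k n g) = (I ^ k).map C ⊔ S) :
    (Ideal.quotientMap ((I ^ k).map (algebraMap R A)) (algebraMap R A)
      Ideal.le_comap_map : R ⧸ I ^ k →+* _).FinitePresentation := by
  obtain ⟨S, hS, hker⟩ := hk
  let q := Ideal.quotientMap ((I ^ k).map (algebraMap R A)) (algebraMap R A)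
    (Ideal.le_comap_map (I := I ^ k))
  let _ := q.toAlgebra
  let F : MvPolynomial (Fin n) (R ⧸ I ^ k) →ₐ[R ⧸ I ^ k] A ⧸ (I ^ k).map (algebraMap R A) :=
    MvPolynomial.aeval fun i => Ideal.Quotient.mk _ (g (X i))
  let M : MvPolynomial (Fin n) R →+* MvPolynomial (Fin n) (R ⧸ I ^ k) :=
    MvPolynomial.map (Ideal.Quotient.mk (I ^ k))
  have hM : Function.Surjective M := MvPolynomial.map_surjective _ Ideal.Quotient.mk_surjective
  have hcomp : (F : MvPolynomial (Fin n) (R ⧸ I ^ k) →+* _).comp M = reduceHom (I := I) k n g := by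
    refine MvPolynomial.ringHom_ext (fun r => ?_) fun i => ?_
    · simp only [RingHom.comp_apply, M, MvPolynomial.map_C, RingHom.coe_coe, F, aeval_C, reduceHom]
      rw [show (C r : MvPolynomial (Fin n) R) = algebraMap R _ r from rfl, g.commutes]
      rfl
    · simp [F, M, reduceHom]
  have hF : Function.Surjective F := fun y => by
    obtain ⟨p, hp⟩ := hs y
    exact ⟨M p, by rw [← hp, ← hcomp]; rfl⟩
  show Algebra.FinitePresentation (R ⧸ I ^ k) _
  refine Algebra.FinitePresentation.of_surjective hF ?_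
  have : RingHom.ker F.toRingHom = S.map M := by
    rw [← Ideal.map_comap_of_surjective M hM (RingHom.ker F.toRingHom), RingHom.comap_ker,
      AlgHom.toRingHom_eq_coe, hcomp, hker, Ideal.map_sup, Ideal.map_map]
    rw [show M.comp C = C.comp (Ideal.Quotient.mk (I ^ k)) from RingHom.ext fun r => by simp [M],
      ← Ideal.map_map, Ideal.map_quotient_self, Ideal.map_bot, bot_sup_eq]
  rw [this]
  exact hS.map _

theorem finitePresentation_trunc_of_topFinitePresentation (hI : I.FG)
    (hA : AdicRing.TopFinitePresentation R I A) (k : ℕ) :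
    (Ideal.quotientMap ((I ^ k).map (algebraMap R A)) (algebraMap R A)
      Ideal.le_comap_map : R ⧸ I ^ k →+* _).FinitePresentation := by
  classical
  obtain ⟨n, φ, hφ, ⟨T, hT⟩⟩ := hA
  let ι := IsScalarTower.toAlgHom R (MvPolynomial (Fin n) R) (AdicRing.RPow R I n)
  choose p hp using fun y : AdicRing.RPow R I n => exists_sub_mem_rpow (I := I) hI n k y
  have hpφ : ∀ y, φ y - φ (ι (p y)) ∈ (I ^ k).map (algebraMap R A) := fun y => by
    have := Ideal.mem_map_of_mem (φ : AdicRing.RPow R I n →+* A) (hp y)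
    rw [Ideal.map_map, AlgHom.comp_algebraMap] at this
    simpa [ι] using this
  refine finitePresentation_of_reduce k n (φ.comp ι) (fun y => ?_)
    ⟨Ideal.span (p '' T), Submodule.fg_span (T.finite_toSet.image p), ?_⟩
  · obtain ⟨a, rfl⟩ := Ideal.Quotient.mk_surjective y
    obtain ⟨b, rfl⟩ := hφ a
    exact ⟨p b, (Ideal.Quotient.eq.2 (hpφ b)).symm⟩
  refine le_antisymm (fun q hq => ?_) (sup_le ?_ (Ideal.span_le.2 ?_))
  · have hq' : φ (ι q) ∈ (I ^ k).map (algebraMap R A) := Ideal.Quotient.eq_zero_iff_mem.1 hq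
    rw [← AlgHom.comp_algebraMap φ, ← Ideal.map_map, Ideal.mem_map_iff_of_surjective (φ : AdicRing.RPow R I n →+* A) hφ] at hq'
    obtain ⟨z, hz, hze⟩ := hq'
    have hw : ι q - z ∈ Ideal.span (T : Set (AdicRing.RPow R I n)) := by
      rw [hT]
      show φ (ι q - z) = 0
      rw [map_sub, sub_eq_zero]; exact hze.symm
    have key : ∀ w ∈ Ideal.span (T : Set (AdicRing.RPow R I n)), ∀ q', w - ι q' ∈
        (I ^ k).map (algebraMap R (AdicRing.RPow R I n)) →
        q' ∈ (I ^ k).map C ⊔ Ideal.span (p '' T) := by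
      intro w hw
      induction hw using Submodule.span_induction with
      | mem x hx =>
        intro q' hq'
        have h1 := mem_map_of_rpow hI n k (p x - q') (by
          have := sub_mem hq' (hp x)
          rw [sub_sub_sub_cancel_left] at this
          simpa [ι] using this)
        rw [← sub_sub_cancel (p x) q']
        exact sub_mem (Ideal.mem_sup_right (Ideal.subset_span ⟨x, hx, rfl⟩))
          (Ideal.mem_sup_left h1)
      | zero =>
        intro q' hq'
        exact Ideal.mem_sup_left (mem_map_of_rpow hI n k q' (by simpa [ι] using neg_mem hq'))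
      | add x y _ _ hx hy =>
        intro q' hq'
        rw [← add_sub_cancel (p x) q']
        refine add_mem (hx _ (hp x)) (hy _ ?_)
        have := sub_mem hq' (hp x)
        convert this using 1
        simp [ι, map_sub]; ring
      | smul c x _ hx =>
        intro q' hq'
        rw [← add_sub_cancel (p c * p x) q']
        refine add_mem (Ideal.mul_mem_left _ _ (hx _ (hp x))) (Ideal.mem_sup_left
          (mem_map_of_rpow hI n k _ ?_))
        have h1 : c * x - ι (p c * p x) ∈ (I ^ k).map (algebraMap R (AdicRing.RPow R I n)) := by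
          rw [show c * x - ι (p c * p x) = (c - ι (p c)) * x + ι (p c) * (x - ι (p x)) by
            rw [map_mul]; ring]
          exact add_mem (Ideal.mul_mem_right _ _ (hp c)) (Ideal.mul_mem_left _ _ (hp x))
        have := sub_mem h1 hq'
        rw [smul_eq_mul, sub_sub_sub_cancel_left, ← map_sub] at this
        simpa [ι] using this
    refine key _ hw q ?_
    rw [sub_sub_cancel_left]
    exact neg_mem hz
  · rw [Ideal.map_le_iff_le_comap]
    intro r hr
    refine Ideal.Quotient.eq_zero_iff_mem.2 ?_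
    show φ.comp ι (C r) ∈ _
    rw [show (C r : MvPolynomial (Fin n) R) = algebraMap R _ r from rfl, AlgHom.commutes]
    exact Ideal.mem_map_of_mem _ hr
  · rintro _ ⟨x, hx, rfl⟩
    refine Ideal.Quotient.eq_zero_iff_mem.2 ?_
    have h0 : φ x = 0 := by
      have : x ∈ RingHom.ker φ.toRingHom := hT ▸ Submodule.subset_span hx
      exact this
    simpa [h0] using neg_mem (hpφ x)

theorem fg_ker_of_finitePresentation_trunc (hR : AdicRing.IsBase R I) {n : ℕ}
    (φ : AdicRing.RPow R I n →ₐ[R] A) (hφ : Function.Surjective φ)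
    (hfp : ∀ k : ℕ, (Ideal.quotientMap ((I ^ (k + 1)).map (algebraMap R A)) (algebraMap R A)
      Ideal.le_comap_map : R ⧸ I ^ (k + 1) →+* _).FinitePresentation) :
    (RingHom.ker φ.toRingHom).FG := by
  classical
  have hI := fg_of_isBase hR
  let P := AdicRing.RPow R I n
  let 𝔞 : Submodule P P := RingHom.ker φ.toRingHom
  obtain ⟨c, hc⟩ := artinRees hR 𝔞
  let J : Ideal P := I.map (algebraMap R P)
  have : IsAdicComplete J P := isAdicComplete_rpow hI n
  let k := c + 1
  let ι := IsScalarTower.toAlgHom R (MvPolynomial (Fin n) R) P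
  let g := φ.comp ι
  let _ := (Ideal.quotientMap ((I ^ k).map (algebraMap R A)) (algebraMap R A)
    (Ideal.le_comap_map (I := I ^ k))).toAlgebra
  have : Algebra.FinitePresentation (R ⧸ I ^ k) (A ⧸ (I ^ k).map (algebraMap R A)) := hfp c
  let F : MvPolynomial (Fin n) (R ⧸ I ^ k) →ₐ[R ⧸ I ^ k] A ⧸ (I ^ k).map (algebraMap R A) :=
    MvPolynomial.aeval fun i => Ideal.Quotient.mk _ (g (X i))
  let M : MvPolynomial (Fin n) R →+* MvPolynomial (Fin n) (R ⧸ I ^ k) :=
    MvPolynomial.map (Ideal.Quotient.mk (I ^ k))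
  have hM : Function.Surjective M := MvPolynomial.map_surjective _ Ideal.Quotient.mk_surjective
  have hcomp : ∀ q, F (M q) = Ideal.Quotient.mk _ (g q) := fun q => by
    have : F.toRingHom.comp M =
        (Ideal.Quotient.mk _).comp (g : MvPolynomial (Fin n) R →+* A) := by
      refine MvPolynomial.ringHom_ext (fun r => ?_) fun i => ?_
      · simp only [RingHom.comp_apply, M, MvPolynomial.map_C, F, AlgHom.toRingHom_eq_coe, RingHom.coe_coe, aeval_C]
        rw [show (C r : MvPolynomial (Fin n) R) = algebraMap R _ r from rfl, g.commutes]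
        rfl
      · simp [F, M]
    exact congrArg (fun h => h q) this
  choose p hp using fun y : P => exists_sub_mem_rpow (I := I) hI n k y
  have hpφ : ∀ y, φ y - g (p y) ∈ (I ^ k).map (algebraMap R A) := fun y => by
    have := Ideal.mem_map_of_mem (φ : P →+* A) (hp y)
    rw [Ideal.map_map, AlgHom.comp_algebraMap] at this
    simpa [g, ι] using this
  have hF : Function.Surjective F := fun y => by
    obtain ⟨a, rfl⟩ := Ideal.Quotient.mk_surjective y
    obtain ⟨b, rfl⟩ := hφ a
    exact ⟨M (p b), by rw [hcomp]; exact (Ideal.Quotient.eq.2 (hpφ b)).symm⟩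
  obtain ⟨T, hT⟩ := Algebra.FinitePresentation.ker_fG_of_surjective F hF
  -- lifts in `𝔞` of generators of the kernel modulo `I ^ k`
  have hlift : ∀ x : T, ∃ a ∈ 𝔞, ∃ q, M q = x.1 ∧
      a - ι q ∈ (I ^ k).map (algebraMap R P) := by
    intro x
    obtain ⟨q, hq⟩ := hM x.1
    have hx : x.1 ∈ RingHom.ker F.toRingHom := hT ▸ Submodule.subset_span x.2
    have h1 : g q ∈ (I ^ k).map (algebraMap R A) := by
      rw [← Ideal.Quotient.eq_zero_iff_mem, ← hcomp, hq]; exact hx
    rw [← AlgHom.comp_algebraMap φ, ← Ideal.map_map, Ideal.mem_map_iff_of_surjective (φ : AdicRing.RPow R I n →+* A) hφ] at h1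
    obtain ⟨z, hz, hze⟩ := h1
    refine ⟨ι q - z, ?_, q, hq, ?_⟩
    · show φ _ = 0
      rw [map_sub, sub_eq_zero]; exact hze.symm
    · rw [sub_sub_cancel_left]; exact neg_mem hz
  choose a ha q hqM hq using hlift
  have hmain : ∀ x ∈ 𝔞, ∃ d : T → P, x - ∑ i, d i • a i ∈ J • 𝔞 := by
    intro x hx
    have h1 : M (p x) ∈ RingHom.ker F.toRingHom := by
      show F (M (p x)) = 0
      rw [hcomp, Ideal.Quotient.eq_zero_iff_mem]
      have h0 : φ x = 0 := hx
      simpa [h0] using neg_mem (hpφ x)
    rw [← hT] at h1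
    obtain ⟨d, hd⟩ := Submodule.mem_span_finset'.1 h1
    choose d' hd' using fun i => hM (d i)
    refine ⟨fun i => ι (d' i), ?_⟩
    have h2 : p x - ∑ i, d' i * q i ∈ (I ^ k).map C := by
      have h3 : M (p x - ∑ i, d' i * q i) = 0 := by
        rw [map_sub, map_sum, sub_eq_zero, ← hd]
        simp [hd', hqM]
      rwa [← RingHom.mem_ker, MvPolynomial.ker_map, Ideal.mk_ker] at h3
    have h4 : x - ∑ i, ι (d' i) • a i ∈ (I ^ k).map (algebraMap R P) := by
      have h5 := Ideal.mem_map_of_mem (ι : MvPolynomial (Fin n) R →+* P) h2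
      rw [Ideal.map_map, show (ι : MvPolynomial (Fin n) R →+* P).comp C = algebraMap R P from
        RingHom.ext fun r => ι.commutes r] at h5
      have h6 : ∑ i, ι (d' i) * (a i - ι (q i)) ∈ (I ^ k).map (algebraMap R P) :=
        sum_mem fun i _ => Ideal.mul_mem_left _ _ (hq i)
      have h7 := sub_mem (add_mem (hp x) h5) h6
      convert h7 using 1
      simp [ι, mul_sub, Finset.sum_sub_distrib, map_sum]
      ring
    have h8 : x - ∑ i, ι (d' i) • a i ∈ (I ^ (1 + c) • (⊤ : Submodule R P)) ⊓ 𝔞.restrictScalars R := by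
      refine ⟨?_, 𝔞.sub_mem hx (𝔞.sum_mem fun i _ => 𝔞.smul_mem _ (ha i))⟩
      rw [Ideal.smul_top_eq_map, Submodule.coe_restrictScalars, add_comm]
      exact h4
    have h9 := hc 1 h8
    rw [pow_one, ← Ideal.smul_restrictScalars, Submodule.restrictScalars_mem] at h9
    exact h9
  refine ⟨Finset.univ.image a, le_antisymm (Submodule.span_le.2 fun x hx => ?_) fun x hx => ?_⟩
  · simp only [Finset.coe_image, Finset.coe_univ, Set.image_univ] at hx
    obtain ⟨i, rfl⟩ := hx
    exact ha i
  obtain ⟨d, -, hd⟩ := GrothLib.AdicLim.exists_coeff_of_pow_step (I := J) a 0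
    (fun m y => y ∈ J ^ m • 𝔞) (fun m y hy => Submodule.smul_mono le_rfl le_top hy)
    (fun m y hy => by
      refine Submodule.smul_induction_on hy (fun r hr z hz => ?_) fun y z hy hz => ?_
      · obtain ⟨d, hd⟩ := hmain z hz
        refine ⟨fun i => r * d i, fun i => Ideal.mul_mem_right _ _ (by simpa using hr), ?_⟩
        simp only [mul_smul, ← Finset.smul_sum, ← smul_sub, pow_succ]
        exact Submodule.smul_mem_smul hr hd
      · obtain ⟨d1, hd1, h1⟩ := hy
        obtain ⟨d2, hd2, h2⟩ := hz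
        refine ⟨d1 + d2, fun i => add_mem (hd1 i) (hd2 i), ?_⟩
        simp only [Pi.add_apply, add_smul, Finset.sum_add_distrib, add_sub_add_comm]
        exact add_mem h1 h2)
    (x := x) (by rw [pow_zero, Ideal.one_eq_top, Submodule.top_smul]; exact hx)
  rw [hd]
  exact Submodule.sum_mem _ fun i _ => Submodule.smul_mem _ _
    (Submodule.subset_span (Finset.mem_coe.2 (Finset.mem_image_of_mem _ (Finset.mem_univ i))))

theorem exists_lift_of_trunc_finiteType
    (h : (Ideal.quotientMap ((I ^ 1).map (algebraMap R A)) (algebraMap R A)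
      Ideal.le_comap_map : R ⧸ I ^ 1 →+* _).FiniteType) :
    ∃ (n : ℕ) (g : MvPolynomial (Fin n) R →ₐ[R] A),
      ∀ a : A, ∃ p, a - g p ∈ I.map (algebraMap R A) := by
  let _ := (Ideal.quotientMap ((I ^ 1).map (algebraMap R A)) (algebraMap R A)
    (Ideal.le_comap_map (I := I ^ 1))).toAlgebra
  have : Algebra.FiniteType (R ⧸ I ^ 1) (A ⧸ (I ^ 1).map (algebraMap R A)) := h
  obtain ⟨n, F, hF⟩ := (Algebra.FiniteType.iff_quotient_mvPolynomial''
    (R := R ⧸ I ^ 1) (S := A ⧸ (I ^ 1).map (algebraMap R A))).1 this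
  choose a ha using fun i => Ideal.Quotient.mk_surjective (F (X i))
  let g : MvPolynomial (Fin n) R →ₐ[R] A := MvPolynomial.aeval a
  have hcomp : (F : _ →+* A ⧸ (I ^ 1).map (algebraMap R A)).comp
      (MvPolynomial.map (Ideal.Quotient.mk (I ^ 1))) =
      (Ideal.Quotient.mk _).comp (g : MvPolynomial (Fin n) R →+* A) := by
    refine MvPolynomial.ringHom_ext (fun r => ?_) fun i => ?_
    · simp only [RingHom.comp_apply, MvPolynomial.map_C, RingHom.coe_coe]
      rw [show (C r : MvPolynomial (Fin n) R) = algebraMap R _ r from rfl, g.commutes,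
        show (C (Ideal.Quotient.mk (I ^ 1) r) : MvPolynomial (Fin n) (R ⧸ I ^ 1)) =
          algebraMap (R ⧸ I ^ 1) _ (Ideal.Quotient.mk (I ^ 1) r) from rfl, F.commutes]
      rfl
    · simp [g, ha]
  refine ⟨n, g, fun x => ?_⟩
  obtain ⟨y, hy⟩ := hF (Ideal.Quotient.mk _ x)
  obtain ⟨p, rfl⟩ := MvPolynomial.map_surjective _ Ideal.Quotient.mk_surjective y
  refine ⟨p, ?_⟩
  have h1 : Ideal.Quotient.mk ((I ^ 1).map (algebraMap R A)) x = Ideal.Quotient.mk _ (g p) :=
    hy.symm.trans (congrArg (fun h => h p) hcomp)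
  have := Ideal.Quotient.eq.1 h1
  rwa [pow_one] at this

/-- A complete algebra is topologically of finite type iff its first truncation is of finite
type. -/
theorem topFiniteType_iff_trunc (hI : I.FG) [IsAdicComplete (I.map (algebraMap R A)) A] :
    AdicRing.TopFiniteType R I A ↔
      (Ideal.quotientMap ((I ^ 1).map (algebraMap R A)) (algebraMap R A)
        Ideal.le_comap_map : R ⧸ I ^ 1 →+* _).FiniteType := by
  refine ⟨?_, fun h => ?_⟩
  · rintro ⟨n, φ, hφ⟩
    let _ := (Ideal.quotientMap ((I ^ 1).map (algebraMap R A)) (algebraMap R A)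
      (Ideal.le_comap_map (I := I ^ 1))).toAlgebra
    show Algebra.FiniteType (R ⧸ I ^ 1) _
    let F : MvPolynomial (Fin n) (R ⧸ I ^ 1) →ₐ[R ⧸ I ^ 1] A ⧸ (I ^ 1).map (algebraMap R A) :=
      MvPolynomial.aeval fun i => Ideal.Quotient.mk _
        (φ (algebraMap (MvPolynomial (Fin n) R) _ (X i)))
    refine Algebra.FiniteType.of_surjective F fun y => ?_
    obtain ⟨a, rfl⟩ := Ideal.Quotient.mk_surjective y
    obtain ⟨b, rfl⟩ := hφ a
    obtain ⟨p, hp⟩ := exists_sub_mem_rpow (I := I) hI n 1 b
    refine ⟨MvPolynomial.map (Ideal.Quotient.mk (I ^ 1)) p, ?_⟩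
    have hcomp : (F : _ →+* A ⧸ (I ^ 1).map (algebraMap R A)).comp
        (MvPolynomial.map (Ideal.Quotient.mk (I ^ 1))) = (Ideal.Quotient.mk _).comp
        ((φ.comp (IsScalarTower.toAlgHom R (MvPolynomial (Fin n) R) _) :
          MvPolynomial (Fin n) R →ₐ[R] A) : MvPolynomial (Fin n) R →+* A) := by
      refine MvPolynomial.ringHom_ext (fun r => ?_) fun i => ?_
      · simp only [RingHom.comp_apply, MvPolynomial.map_C, RingHom.coe_coe]
        rw [show (C r : MvPolynomial (Fin n) R) = algebraMap R _ r from rfl, AlgHom.commutes,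
          show (C (Ideal.Quotient.mk (I ^ 1) r) : MvPolynomial (Fin n) (R ⧸ I ^ 1)) =
            algebraMap (R ⧸ I ^ 1) _ (Ideal.Quotient.mk (I ^ 1) r) from rfl, F.commutes]
        rfl
      · simp [F]
    refine (congrArg (fun h => h p) hcomp).trans (Ideal.Quotient.eq.2 ?_)
    have := Ideal.mem_map_of_mem (φ : _ →+* A) hp
    rw [Ideal.map_map, AlgHom.comp_algebraMap] at this
    simpa using neg_mem this
  · obtain ⟨n, g, hg⟩ := exists_lift_of_trunc_finiteType h
    obtain ⟨φ, hφ, -⟩ := topFiniteType_of_trunc_finiteType hI g hg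
    exact ⟨n, φ, hφ⟩

theorem topFinitePresentation_iff_trunc (hR : AdicRing.IsBase R I)
    [IsAdicComplete (I.map (algebraMap R A)) A] :
    AdicRing.TopFinitePresentation R I A ↔
      ∀ k : ℕ, (Ideal.quotientMap ((I ^ (k + 1)).map (algebraMap R A)) (algebraMap R A)
        Ideal.le_comap_map : R ⧸ I ^ (k + 1) →+* _).FinitePresentation := by
  refine ⟨fun h k => finitePresentation_trunc_of_topFinitePresentation (fg_of_isBase hR) h (k + 1),
    fun h => ?_⟩
  obtain ⟨n, φ, hφ⟩ := (topFiniteType_iff_trunc (fg_of_isBase hR)).2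
    (RingHom.FiniteType.of_finitePresentation (h 0))
  exact ⟨n, φ, hφ, fg_ker_of_finitePresentation_trunc hR φ hφ h⟩

end GrothLib.RigidBase
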