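import Mathlib
import Groth.Agent.Lib.RigidBase.Completion

/-!
# Flatness and truncations
-/

open TensorProduct

namespace GrothLib.RigidBase

universe u

/-- The local criterion of flatness by truncations, given Artin–Rees and separation. -/
theorem flat_of_forall_flat_quotient {A : Type u} [CommRing A] (I : Ideal A) (M : Type u)
    [AddCommGroup M] [Module A M]
    (hflat : ∀ n : ℕ, Module.Flat (A ⧸ I ^ (n + 1)) ((A ⧸ I ^ (n + 1)) ⊗[A] M))
    (hAR : ∀ J : Ideal A, ∃ n₀, ∀ m, I ^ (m + n₀) ⊓ J ≤ I ^ m * J)
    (hsep : ∀ J : Ideal A, J.FG → IsHausdorff I (J ⊗[A] M)) : Module.Flat A M := by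
  refine Module.Flat.iff_rTensor_injective.2 fun J hJ => ?_
  rw [injective_iff_map_eq_zero]
  intro x hx
  refine IsHausdorff.haus (hsep J hJ) x fun m => SModEq.zero.2 ?_
  obtain ⟨n₀, hn⟩ := hAR J
  let k := m + n₀
  let P : Ideal A := I ^ (k + 1)
  let q : A →ₗ[A] A ⧸ P := (Ideal.Quotient.mkₐ A P).toLinearMap
  let Jb : Submodule (A ⧸ P) (A ⧸ P) := Submodule.span _ (q '' J)
  let qJ : J →ₗ[A] Jb :=
    { toFun := fun z => ⟨q z, Submodule.subset_span ⟨z, z.2, rfl⟩⟩
      map_add' := fun a b => Subtype.ext (q.map_add _ _)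
      map_smul' := fun c a => Subtype.ext (q.map_smul c _) }
  have hqJ : Function.Surjective qJ := fun ⟨y, hy⟩ => by
    have h : y ∈ Submodule.map q J := by
      have h1 : y ∈ Submodule.span A (q '' J) := by
        rw [← Submodule.restrictScalars_span A (A ⧸ P) Ideal.Quotient.mk_surjective] at *
        exact hy
      rwa [← Submodule.map_span, Submodule.span_eq] at h1
    obtain ⟨z, hz, rfl⟩ := h
    exact ⟨⟨z, hz⟩, rfl⟩
  have hinjb : Function.Injective ((Jb.subtype.restrictScalars A).rTensor M) := by
    have := hflat k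
    have h := Module.Flat.rTensor_preserves_injective_linearMap (M := (A ⧸ P) ⊗[A] M) Jb.subtype
      Subtype.val_injective
    intro a b hab
    apply (AlgebraTensorModule.cancelBaseChange A (A ⧸ P) (A ⧸ P) Jb M).symm.injective
    apply h
    apply (AlgebraTensorModule.cancelBaseChange A (A ⧸ P) (A ⧸ P) (A ⧸ P) M).injective
    have key : ∀ z, (AlgebraTensorModule.cancelBaseChange A (A ⧸ P) (A ⧸ P) (A ⧸ P) M)
        (Jb.subtype.rTensor _
          ((AlgebraTensorModule.cancelBaseChange A (A ⧸ P) (A ⧸ P) Jb M).symm z)) =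
        (Jb.subtype.restrictScalars A).rTensor M z := by
      intro z
      induction z with
      | zero => simp
      | tmul x m => simp
      | add x y hx hy => simp only [map_add, hx, hy]
    rw [key, key, hab]
  have h1 : qJ.rTensor M x = 0 := by
    apply hinjb
    rw [map_zero, ← LinearMap.comp_apply, ← LinearMap.rTensor_comp,
      show Jb.subtype.restrictScalars A ∘ₗ qJ = q ∘ₗ J.subtype from rfl, LinearMap.rTensor_comp,
      LinearMap.comp_apply, hx, map_zero]
  let j : (P ⊓ J : Ideal A) →ₗ[A] J := Submodule.inclusion inf_le_right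
  have hex : Function.Exact j qJ := by
    intro z
    constructor
    · intro hz
      exact ⟨⟨z, Ideal.Quotient.eq_zero_iff_mem.1 (congrArg Subtype.val hz), z.2⟩, rfl⟩
    · rintro ⟨w, rfl⟩
      exact Subtype.ext (Ideal.Quotient.eq_zero_iff_mem.2 w.2.1)
  obtain ⟨y, rfl⟩ := ((rTensor_exact M hex hqJ) x).1 h1
  clear h1 hx
  induction y with
  | zero => simp
  | add a b ha hb => rw [map_add]; exact add_mem ha hb
  | tmul a b =>
    have hmem : (j a : J) ∈ (I ^ m • ⊤ : Submodule A J) := by
      have h2 : a.1 ∈ I ^ m • J := by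
        have h3 : a.1 ∈ I ^ (m + n₀) ⊓ J :=
          ⟨Ideal.pow_le_pow_right (Nat.le_succ k) a.2.1, a.2.2⟩
        exact hn m h3
      have h4 : a.1 ∈ Submodule.map J.subtype (I ^ m • ⊤) := by
        rwa [Submodule.map_smul'', Submodule.map_subtype_top]
      obtain ⟨w, hw, hwz⟩ := h4
      rwa [show j a = w from Subtype.ext hwz.symm]
    rw [LinearMap.rTensor_tmul]
    have h5 := Submodule.mem_map_of_mem (f := (TensorProduct.mk A J M).flip b) hmem
    rw [Submodule.map_smul''] at h5
    exact Submodule.smul_mono le_rfl le_top h5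

variable {R : Type u} [CommRing R] {I : Ideal R}

theorem flat_iff_forall_trunc (hR : AdicRing.IsBase R I)
    {A : Type u} [CommRing A] [Algebra R A] (hA : AdicRing.TopFiniteType R I A)
    {B : Type u} [CommRing B] [Algebra R B] [Algebra A B] [IsScalarTower R A B]
    (hB : AdicRing.TopFiniteType R I B)
    (M : Type u) [AddCommGroup M] [Module B M] [Module A M] [IsScalarTower A B M]
    [Module.Finite B M] :
    Module.Flat A M ↔
      ∀ n : ℕ, Module.Flat (AdicRing.trunc A I n) ((AdicRing.trunc A I n) ⊗[A] M) := by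
  refine ⟨fun h n => inferInstance, fun h => ?_⟩
  refine flat_of_forall_flat_quotient (I.map (algebraMap R A)) M (fun n => ?_) (fun J => ?_)
    fun J hJ => ?_
  · rw [← Ideal.map_pow]; exact h n
  · obtain ⟨n₀, hn⟩ := artinRees_alg hR hA (M := A) (J : Submodule A A)
    refine ⟨n₀, fun m x hx => ?_⟩
    obtain ⟨h1, h2⟩ := hx
    have h3 : x ∈ I ^ (m + n₀) • (⊤ : Submodule R A) := by
      rw [Ideal.smul_top_eq_map, Submodule.restrictScalars_mem, Ideal.map_pow]
      exact h1
    have h4 := hn m ⟨h3, h2⟩
    rw [← Ideal.smul_restrictScalars, Submodule.restrictScalars_mem, Ideal.map_pow] at h4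
    exact h4
  · let _ : Module R M := Module.compHom M (algebraMap R B)
    have : IsScalarTower R B M := ⟨fun r b x => by
      show (r • b) • x = algebraMap R B r • b • x
      rw [Algebra.smul_def, mul_smul]⟩
    have : IsScalarTower R A M := ⟨fun r a x => by
      show (r • a) • x = algebraMap R B r • a • x
      rw [Algebra.smul_def, mul_smul, ← IsScalarTower.algebraMap_smul B (algebraMap R A r),
        ← IsScalarTower.algebraMap_apply]⟩
    have : Module.Finite A J := Module.Finite.iff_fg.2 hJ
    obtain ⟨r, p, hp⟩ := Module.Finite.exists_fin' A J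
    have : Module.Finite B (M ⊗[A] (Fin r → A)) :=
      Module.Finite.equiv (TensorProduct.piScalarRight A B M (Fin r)).symm
    have : Module.Finite B (M ⊗[A] J) :=
      Module.Finite.of_surjective (AlgebraTensorModule.map (LinearMap.id (R := B) (M := M)) p)
        (LinearMap.lTensor_surjective M hp)
    have hc := isAdicComplete_alg hR hB (M := M ⊗[A] J)
    have hh : IsHausdorff (I.map (algebraMap R A)) (M ⊗[A] J) :=
      IsHausdorff.map_algebraMap_iff.2 hc.toIsHausdorff
    refine ⟨fun x hx => ?_⟩
    apply (TensorProduct.comm A J M).injective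
    rw [map_zero]
    refine IsHausdorff.haus hh _ fun k => SModEq.zero.2 ?_
    have h1 := Submodule.mem_map_of_mem (f := (TensorProduct.comm A J M).toLinearMap)
      (SModEq.zero.1 (hx k))
    rw [Submodule.map_smul''] at h1
    exact Submodule.smul_mono le_rfl le_top h1

theorem map_le_jacobson (hR : AdicRing.IsBase R I)
    {A : Type u} [CommRing A] [Algebra R A] (hA : AdicRing.TopFiniteType R I A) :
    I.map (algebraMap R A) ≤ (⊥ : Ideal A).jacobson := by
  have := isAdicComplete_alg hR hA (M := A)
  have : IsAdicComplete (I.map (algebraMap R A)) A := (IsAdicComplete.map_algebraMap_iff I A).2 this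
  exact IsAdicComplete.le_jacobson_bot _

theorem faithfullyFlat_iff_forall_trunc (hR : AdicRing.IsBase R I)
    {A : Type u} [CommRing A] [Algebra R A] (hA : AdicRing.TopFiniteType R I A)
    {B : Type u} [CommRing B] [Algebra R B] [Algebra A B] [IsScalarTower R A B]
    (hB : AdicRing.TopFiniteType R I B)
    (M : Type u) [AddCommGroup M] [Module B M] [Module A M] [IsScalarTower A B M]
    [Module.Finite B M] :
    Module.FaithfullyFlat A M ↔
      ∀ n : ℕ, Module.FaithfullyFlat (AdicRing.trunc A I n) ((AdicRing.trunc A I n) ⊗[A] M) := by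
  refine ⟨fun h n => inferInstance, fun h => ?_⟩
  have : Module.Flat A M := (flat_iff_forall_trunc hR hA hB M).2 fun n => (h n).toFlat
  refine ⟨fun m hm htop => ?_⟩
  let P : Ideal A := (I ^ (0 + 1)).map (algebraMap R A)
  have hPm : P ≤ m := by
    refine le_trans ?_ (le_trans (map_le_jacobson hR hA) (sInf_le ⟨bot_le, hm⟩))
    simp [P]
  have hmax : (m.map (Ideal.Quotient.mk P)).IsMaximal :=
    Ideal.IsMaximal.map_of_surjective_of_ker_le Ideal.Quotient.mk_surjective (by
      rwa [Ideal.mk_ker])
  apply (h 0).submodule_ne_top hmax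
  rw [eq_top_iff]
  intro z _
  induction z with
  | zero => exact zero_mem _
  | add a b ha hb => exact add_mem (ha trivial) (hb trivial)
  | tmul a x =>
    have hx : x ∈ m • (⊤ : Submodule A M) := by rw [htop]; trivial
    refine Submodule.smul_induction_on hx (fun c hc y _ => ?_) fun y z hy hz => ?_
    ·
      rw [← smul_tmul, Algebra.smul_def,
        show (algebraMap A (A ⧸ P) c * a) ⊗ₜ[A] y = algebraMap A (A ⧸ P) c • (a ⊗ₜ[A] y) by
          rw [smul_tmul']; rfl]
      exact Submodule.smul_mem_smul (Ideal.mem_map_of_mem _ hc) trivial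
    · rw [tmul_add]; exact add_mem hy hz

/-- Complete localizations are flat, and a covering family of them is faithfully flat. -/
theorem flat_cLoc_and_faithfullyFlat (hR : AdicRing.IsBase R I)
    {A : Type u} [CommRing A] [Algebra R A] (hA : AdicRing.TopFiniteType R I A)
    {r : ℕ} (f : Fin r → A) (hf : Ideal.span (Set.range f) = ⊤) :
    (∀ i, Module.Flat A (AdicRing.CLoc I (f i))) ∧
      Module.FaithfullyFlat A (∀ i, AdicRing.CLoc I (f i)) := by
  classical
  have hfl : ∀ i, Module.Flat A (AdicRing.CLoc I (f i)) := fun i => by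
    have : Algebra.FiniteType A (Localization.Away (f i)) := inferInstance
    have h1 : Module.Flat (Localization.Away (f i)) (AdicRing.CLoc I (f i)) :=
      flat_of_hasAR (hasAR_finiteType hR hA (Localization.Away (f i)))
    exact Module.Flat.trans A (Localization.Away (f i)) _
  refine ⟨hfl, ?_⟩
  have : Module.Flat A (∀ i, AdicRing.CLoc I (f i)) :=
    Module.Flat.of_linearEquiv (DirectSum.linearEquivFunOnFintype A (Fin r)
      (fun i => AdicRing.CLoc I (f i))).symm
  refine ⟨fun m hm htop => ?_⟩
  obtain ⟨i, hi⟩ : ∃ i, f i ∉ m := by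
    by_contra hh
    push Not at hh
    exact hm.ne_top (eq_top_iff.2 (hf ▸ Ideal.span_le.2 (by rintro _ ⟨i, rfl⟩; exact hh i)))
  let S := Localization.Away (f i)
  let J : Ideal S := I.map (algebraMap R S)
  have hprime : (m.map (algebraMap A S)).IsPrime :=
    IsLocalization.isPrime_of_isPrime_disjoint (Submonoid.powers (f i)) S m hm.isPrime
      (Ideal.disjoint_powers_iff_notMem (f i) hm.isPrime.isRadical |>.2 hi)
  have hJle : J ≤ m.map (algebraMap A S) := by
    show I.map (algebraMap R S) ≤ _
    rw [IsScalarTower.algebraMap_eq R A S, ← Ideal.map_map]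
    exact Ideal.map_mono ((map_le_jacobson hR hA).trans (sInf_le ⟨bot_le, hm⟩))
  let ev : AdicRing.CLoc I (f i) →ₐ[A] S ⧸ J :=
    (AdicCompletion.evalOneₐ J).restrictScalars A
  have hone : (1 : AdicRing.CLoc I (f i)) ∈ m • (⊤ : Submodule A (AdicRing.CLoc I (f i))) := by
    have h1 : (1 : ∀ i, AdicRing.CLoc I (f i)) ∈ m • (⊤ : Submodule A _) := by rw [htop]; trivial
    have h2 := Submodule.mem_map_of_mem
      (f := LinearMap.proj (R := A) (φ := fun i => AdicRing.CLoc I (f i)) i) h1
    rw [Submodule.map_smul''] at h2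
    exact Submodule.smul_mono le_rfl le_top h2
  have h3 := Submodule.mem_map_of_mem (f := ev.toLinearMap) hone
  rw [Submodule.map_smul''] at h3
  have h4 : (1 : S ⧸ J) ∈ m • (⊤ : Submodule A (S ⧸ J)) := by
    have := Submodule.smul_mono le_rfl le_top h3
    simpa using this
  rw [Ideal.smul_top_eq_map, Submodule.restrictScalars_mem,
    IsScalarTower.algebraMap_eq A S (S ⧸ J), ← Ideal.map_map, Ideal.Quotient.algebraMap_eq,
    ← map_one (Ideal.Quotient.mk J), ← Ideal.mem_comap,
    Ideal.comap_map_of_surjective' _ Ideal.Quotient.mk_surjective, Ideal.mk_ker,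
    sup_eq_left.2 hJle] at h4
  exact hprime.ne_top ((Ideal.eq_top_iff_one _).2 h4)

end GrothLib.RigidBase
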