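import Mathlib
import Groth.Agent.Lib.RigidBase.TopFP
import Groth.Agent.Lib.RigidBase.Trunc

/-!
# Locality of topological finiteness for complete localisations
-/

namespace GrothLib.RigidBase

universe u

variable {R : Type u} [CommRing R] {I : Ideal R} {A : Type u} [CommRing A] [Algebra R A]

theorem isAdicComplete_cLoc (hI : I.FG) (f : A) :
    IsAdicComplete (I.map (algebraMap R (AdicRing.CLoc I f))) (AdicRing.CLoc I f) := by
  have h := AdicCompletion.isAdicComplete_self (I.map (algebraMap R (Localization.Away f)))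
    (hI.map _)
  rwa [Ideal.map_map, ← IsScalarTower.algebraMap_eq] at h

/-- The map between truncations. -/
noncomputable def truncCLocMap (k : ℕ) (f : A) :
    A ⧸ (I ^ k).map (algebraMap R A) →+*
      AdicRing.CLoc I f ⧸ (I ^ k).map (algebraMap R (AdicRing.CLoc I f)) :=
  Ideal.quotientMap _ (algebraMap A (AdicRing.CLoc I f)) (by
    rw [← Ideal.map_le_iff_le_comap, Ideal.map_map, ← IsScalarTower.algebraMap_eq])

theorem isLocalization_truncCLocMap (hI : I.FG) (k : ℕ) (f : A) :
    letI := (truncCLocMap (I := I) k f).toAlgebra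
    IsLocalization.Away (Ideal.Quotient.mk ((I ^ k).map (algebraMap R A)) f)
      (AdicRing.CLoc I f ⧸ (I ^ k).map (algebraMap R (AdicRing.CLoc I f))) := by
  let _ := (truncCLocMap (I := I) k f).toAlgebra
  let S := Localization.Away f
  let g : S →+* AdicRing.CLoc I f ⧸ (I ^ k).map (algebraMap R (AdicRing.CLoc I f)) :=
    (Ideal.Quotient.mk _).comp (algebraMap S (AdicRing.CLoc I f))
  have hg : Function.Surjective g := fun y => by
    obtain ⟨x, rfl⟩ := Ideal.Quotient.mk_surjective y
    obtain ⟨s, hs⟩ := exists_sub_mem_pow_map (R := R) (S := S) hI k x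
    exact ⟨s, (Ideal.Quotient.eq.2 hs).symm⟩
  have H : g.comp (algebraMap A S) =
      (algebraMap _ _).comp (Ideal.Quotient.mk ((I ^ k).map (algebraMap R A))) :=
    RingHom.ext fun a => by
      show Ideal.Quotient.mk _ (algebraMap S _ (algebraMap A S a)) = Ideal.Quotient.mk _ _
      rw [← IsScalarTower.algebraMap_apply]
  have H' : RingHom.ker g ≤
      (RingHom.ker (Ideal.Quotient.mk ((I ^ k).map (algebraMap R A)))).map (algebraMap A S) := by
    intro s hs
    rw [Ideal.mk_ker, Ideal.map_map, ← IsScalarTower.algebraMap_eq]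
    have h1 : algebraMap S (AdicRing.CLoc I f) s ∈
        (I ^ k).map (algebraMap R (AdicRing.CLoc I f)) := Ideal.Quotient.eq_zero_iff_mem.1 hs
    have h2 := Ideal.mem_map_of_mem
      (AdicCompletion.evalₐ (I.map (algebraMap R S)) k).toRingHom h1
    rw [Ideal.map_map] at h2
    have h3 : (AdicCompletion.evalₐ (I.map (algebraMap R S)) k).toRingHom.comp
        (algebraMap R (AdicRing.CLoc I f)) =
        (Ideal.Quotient.mk _).comp (algebraMap R S) := RingHom.ext fun x => by
      show AdicCompletion.evalₐ (I.map (algebraMap R S)) k (algebraMap R (AdicRing.CLoc I f) x) = _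
      rw [IsScalarTower.algebraMap_apply R S, AlgHom.commutes]
      rfl
    rw [h3, ← Ideal.map_map, Ideal.map_pow (algebraMap R S) I k, Ideal.map_quotient_self] at h2
    have h4 : AdicCompletion.evalₐ (I.map (algebraMap R S)) k (algebraMap S _ s) = 0 :=
      (Submodule.mem_bot _).1 h2
    rw [AlgHom.commutes] at h4
    rw [Ideal.map_pow]
    exact Ideal.Quotient.eq_zero_iff_mem.1 h4
  have h := IsLocalization.of_surjective (Submonoid.powers f) S (Ideal.Quotient.mk _)
    Ideal.Quotient.mk_surjective g hg H H'
  rw [Submonoid.map_powers] at h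
  exact h

theorem iff_forall_cLoc (hI : I.FG)
    {P : ∀ {R S : Type u} [CommRing R] [CommRing S], (R →+* S) → Prop}
    (hP : RingHom.PropertyIsLocal P) {r : ℕ} (f : Fin r → A)
    (hf : Ideal.span (Set.range f) = ⊤) (k : ℕ) :
    P (Ideal.quotientMap ((I ^ k).map (algebraMap R A)) (algebraMap R A)
        Ideal.le_comap_map : R ⧸ I ^ k →+* _) ↔
      ∀ i, P (Ideal.quotientMap ((I ^ k).map (algebraMap R (AdicRing.CLoc I (f i))))
        (algebraMap R (AdicRing.CLoc I (f i))) Ideal.le_comap_map : R ⧸ I ^ k →+* _) := by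
  set q := (Ideal.quotientMap ((I ^ k).map (algebraMap R A)) (algebraMap R A)
    Ideal.le_comap_map : R ⧸ I ^ k →+* _)
  have hq : ∀ i, (truncCLocMap (I := I) k (f i)).comp q =
      Ideal.quotientMap ((I ^ k).map (algebraMap R (AdicRing.CLoc I (f i))))
        (algebraMap R (AdicRing.CLoc I (f i))) Ideal.le_comap_map := fun i =>
    Ideal.Quotient.ringHom_ext (RingHom.ext fun x => by
      show Ideal.Quotient.mk _ (algebraMap A _ (algebraMap R A x)) = Ideal.Quotient.mk _ _
      rw [← IsScalarTower.algebraMap_apply])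
  constructor
  · intro h i
    rw [← hq]
    let _ := (truncCLocMap (I := I) k (f i)).toAlgebra
    have := isLocalization_truncCLocMap hI k (f i)
    exact hP.StableUnderCompositionWithLocalizationAwayTarget _
      (Ideal.Quotient.mk ((I ^ k).map (algebraMap R A)) (f i)) q h
  · intro h
    refine hP.ofLocalizationSpanTarget q
      (Set.range fun i => Ideal.Quotient.mk ((I ^ k).map (algebraMap R A)) (f i)) ?_ ?_
    · rw [Set.range_comp', ← Ideal.map_span, hf, Ideal.map_top]
    · rintro ⟨_, i, rfl⟩
      let _ := (truncCLocMap (I := I) k (f i)).toAlgebra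
      have := isLocalization_truncCLocMap hI k (f i)
      let e := IsLocalization.algEquiv (Submonoid.powers (Ideal.Quotient.mk ((I ^ k).map
          (algebraMap R A)) (f i)))
        (AdicRing.CLoc I (f i) ⧸ (I ^ k).map (algebraMap R (AdicRing.CLoc I (f i))))
        (Localization.Away (Ideal.Quotient.mk ((I ^ k).map (algebraMap R A)) (f i)))
      have h' := hP.respectsIso.1 _ e.toRingEquiv (h i)
      rw [← hq i, ← RingHom.comp_assoc] at h'
      convert h' using 2
      exact (AlgHom.comp_algebraMap e.toAlgHom).symm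

theorem topFiniteType_iff_forall_cLoc (hI : I.FG) [IsAdicComplete (I.map (algebraMap R A)) A]
    {r : ℕ} (f : Fin r → A) (hf : Ideal.span (Set.range f) = ⊤) :
    AdicRing.TopFiniteType R I A ↔ ∀ i, AdicRing.TopFiniteType R I (AdicRing.CLoc I (f i)) := by
  have hc := fun i => isAdicComplete_cLoc (R := R) hI (f i)
  rw [topFiniteType_iff_trunc hI,
    forall_congr' fun i => @topFiniteType_iff_trunc R _ I _ _ _ hI (hc i)]
  exact iff_forall_cLoc hI RingHom.finiteType_isLocal f hf 1

theorem topFinitePresentation_iff_forall_cLoc (hR : AdicRing.IsBase R I)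
    [IsAdicComplete (I.map (algebraMap R A)) A]
    {r : ℕ} (f : Fin r → A) (hf : Ideal.span (Set.range f) = ⊤) :
    AdicRing.TopFinitePresentation R I A ↔
      ∀ i, AdicRing.TopFinitePresentation R I (AdicRing.CLoc I (f i)) := by
  have hI := fg_of_isBase hR
  have hc := fun i => isAdicComplete_cLoc (R := R) hI (f i)
  rw [topFinitePresentation_iff_trunc hR,
    forall_congr' fun i => @topFinitePresentation_iff_trunc R _ I _ _ _ hR (hc i)]
  rw [forall_comm]
  exact forall_congr' fun k => iff_forall_cLoc hI RingHom.finitePresentation_isLocal f hf (k + 1)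

theorem noPowTorsion_of_flat (hI : I.FG) (hA : AdicRing.NoPowTorsion I A)
    (B : Type u) [CommRing B] [Algebra R B] [Algebra A B] [IsScalarTower R A B]
    [Module.Flat A B] : AdicRing.NoPowTorsion I B := by
  classical
  intro x n hx
  obtain ⟨T, hT⟩ := Submodule.FG.pow hI n
  let α : A →ₗ[A] (T → A) := LinearMap.pi fun a => (algebraMap R A a.1) • LinearMap.id
  have hα : Function.Injective α := (injective_iff_map_eq_zero α).2 fun y hy => hA y n fun a ha => by
    rw [← hT] at ha
    induction ha using Submodule.span_induction with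
    | mem a ha =>
      simpa [α] using congrFun hy ⟨a, ha⟩
    | zero => exact zero_smul R _
    | add a b _ _ ha hb => rw [add_smul, ha, hb, add_zero]
    | smul c a _ ha => rw [smul_eq_mul, mul_smul, ha, smul_zero]
  have h1 : α.lTensor B (TensorProduct.tmul A x (1 : A)) = 0 := by
    rw [LinearMap.lTensor_tmul]
    apply (TensorProduct.piScalarRight A A B T).injective
    funext a
    simp only [TensorProduct.piScalarRight_apply, TensorProduct.piScalarRightHom_tmul, map_zero,
      Pi.zero_apply, α, LinearMap.pi_apply, LinearMap.smul_apply, LinearMap.id_apply, smul_eq_mul,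
      mul_one]
    rw [algebraMap_smul]
    exact hx a.1 (hT ▸ Submodule.subset_span a.2)
  have h2 := (Module.Flat.lTensor_preserves_injective_linearMap α hα) (h1.trans (map_zero _).symm)
  simpa using congrArg (TensorProduct.rid A B) h2

theorem admissible_iff_forall_cLoc (hR : AdicRing.IsBase R I)
    [IsAdicComplete (I.map (algebraMap R A)) A]
    {r : ℕ} (f : Fin r → A) (hf : Ideal.span (Set.range f) = ⊤) :
    AdicRing.Admissible R I A ↔ ∀ i, AdicRing.Admissible R I (AdicRing.CLoc I (f i)) := by
  constructor
  · intro hA i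
    obtain ⟨n, φ, hφ, -⟩ := hA.1
    have := (flat_cLoc_and_faithfullyFlat hR ⟨n, φ, hφ⟩ f hf).1 i
    exact ⟨(topFinitePresentation_iff_forall_cLoc hR f hf).1 hA.1 i,
      noPowTorsion_of_flat (fg_of_isBase hR) hA.2 _⟩
  · intro h
    have hA := (topFinitePresentation_iff_forall_cLoc hR f hf).2 fun i => (h i).1
    refine ⟨hA, fun x n hx => ?_⟩
    obtain ⟨m, φ, hφ, -⟩ := hA
    have := (flat_cLoc_and_faithfullyFlat hR ⟨m, φ, hφ⟩ f hf).2
    apply FaithfulSMul.algebraMap_injective A (∀ i, AdicRing.CLoc I (f i))
    rw [map_zero]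
    funext i
    refine (h i).2 _ n fun a ha => ?_
    show a • algebraMap A (AdicRing.CLoc I (f i)) x = 0
    rw [← IsScalarTower.toAlgHom_apply R A, ← map_smul, hx a ha, map_zero]

end GrothLib.RigidBase
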