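import Mathlib

/-!
# Flatness along a regular element
-/

open TensorProduct

namespace GrothLib.RigidBase

universe u v

variable {A : Type u} [CommRing A] {π : A} {M : Type v} [AddCommGroup M] [Module A M]

-- The key lemma: if `π` is regular on `M` and `M/πM` is flat over `A/π`, submodules `L` of free
-- modules containing `π • F` give injections after tensoring with `M`.
set_option maxHeartbeats 400000 in
theorem rTensor_injective_of_smul_le (hM : IsSMulRegular M π)
    [Module.Flat (A ⧸ Ideal.span {π}) ((A ⧸ Ideal.span {π}) ⊗[A] M)]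
    {F : Type*} [AddCommGroup F] [Module A F] (hFreg : IsSMulRegular (F ⊗[A] M) π)
    (L : Submodule A F) (hL : ∀ x, π • x ∈ L) :
    Function.Injective (L.subtype.rTensor M) := by
  let P : Ideal A := Ideal.span {π}
  -- the multiplication `F → L`
  let μ : F →ₗ[A] L := (LinearMap.lsmul A F π).codRestrict L hL
  let q : F →ₗ[A] F ⧸ (P • ⊤ : Submodule A F) := Submodule.mkQ _
  let Lb : Submodule (A ⧸ P) (F ⧸ (P • ⊤ : Submodule A F)) := Submodule.span _ (q '' L)
  let qL : L →ₗ[A] Lb :=
    { toFun := fun x => ⟨q x, Submodule.subset_span ⟨x, x.2, rfl⟩⟩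
      map_add' := fun x y => Subtype.ext (q.map_add _ _)
      map_smul' := fun c x => Subtype.ext (q.map_smul c _) }
  have hqL : Function.Surjective qL := fun ⟨y, hy⟩ => by
    have h : y ∈ L.map q := by
      have h1 : y ∈ Submodule.span A (q '' L) := by
        rw [← Submodule.restrictScalars_span A (A ⧸ P) Ideal.Quotient.mk_surjective] at *
        exact hy
      rwa [← Submodule.map_span, Submodule.span_eq] at h1
    obtain ⟨x, hx, rfl⟩ := h
    exact ⟨⟨x, hx⟩, rfl⟩
  have hex : Function.Exact μ qL := by
    intro z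
    constructor
    · intro hz
      have h0 : (z : F) ∈ (P • ⊤ : Submodule A F) :=
        (Submodule.Quotient.mk_eq_zero _).1 (congrArg Subtype.val hz)
      rw [Submodule.ideal_span_singleton_smul] at h0
      obtain ⟨f, -, hf⟩ := (Submodule.mem_smul_pointwise_iff_exists _ _ _).1 h0
      exact ⟨f, Subtype.ext hf⟩
    · rintro ⟨f, rfl⟩
      exact Subtype.ext ((Submodule.Quotient.mk_eq_zero _).2
        (Submodule.smul_mem_smul (Ideal.mem_span_singleton_self π) trivial))
  have hinjb : Function.Injective ((Lb.subtype.restrictScalars A).rTensor M) := by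
    have h := Module.Flat.rTensor_preserves_injective_linearMap (M := (A ⧸ P) ⊗[A] M) Lb.subtype
      Subtype.val_injective
    intro a b hab
    apply (AlgebraTensorModule.cancelBaseChange A (A ⧸ P) (A ⧸ P) Lb M).symm.injective
    apply h
    apply (AlgebraTensorModule.cancelBaseChange A (A ⧸ P) (A ⧸ P) (F ⧸ (P • ⊤ : Submodule A F))
      M).injective
    have key : ∀ z, (AlgebraTensorModule.cancelBaseChange A (A ⧸ P) (A ⧸ P)
        (F ⧸ (P • ⊤ : Submodule A F)) M) (Lb.subtype.rTensor _
          ((AlgebraTensorModule.cancelBaseChange A (A ⧸ P) (A ⧸ P) Lb M).symm z)) =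
        (Lb.subtype.restrictScalars A).rTensor M z := by
      intro z
      induction z with
      | zero => simp
      | tmul x m => simp
      | add x y hx hy => simp only [map_add, hx, hy]
    rw [key, key, hab]
  rw [injective_iff_map_eq_zero]
  intro x hx
  have h1 : qL.rTensor M x = 0 := by
    apply hinjb
    rw [map_zero, ← LinearMap.comp_apply, ← LinearMap.rTensor_comp,
      show Lb.subtype.restrictScalars A ∘ₗ qL = q ∘ₗ L.subtype from rfl, LinearMap.rTensor_comp,
      LinearMap.comp_apply, hx, map_zero]
  obtain ⟨y, rfl⟩ := ((rTensor_exact M hex hqL) x).1 h1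
  rw [← LinearMap.comp_apply, ← LinearMap.rTensor_comp] at hx
  have hy : π • y = 0 := by
    rw [show L.subtype ∘ₗ μ = π • LinearMap.id from rfl, LinearMap.rTensor_smul,
      LinearMap.rTensor_id] at hx
    simpa using hx
  rw [hFreg (hy.trans (smul_zero π).symm), map_zero]

theorem isSMulRegular_finsupp_tensor {κ : Type*} (hM : IsSMulRegular M π) :
    IsSMulRegular ((κ →₀ A) ⊗[A] M) π := by
  classical
  intro a b hab
  apply (finsuppScalarLeft A M κ).injective
  ext i
  refine hM ?_
  have h1 := congrArg (fun z => (finsuppScalarLeft A M κ z) i) hab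
  simpa using h1

theorem isSMulRegular_ideal_tensor (hπ : π ∈ nonZeroDivisors A) (hM : IsSMulRegular M π)
    [Module.Flat (A ⧸ Ideal.span {π}) ((A ⧸ Ideal.span {π}) ⊗[A] M)] (J : Ideal A) :
    IsSMulRegular (J ⊗[A] M) π := by
  refine (isSMulRegular_iff_right_eq_zero_of_smul (M := J ⊗[A] M) (r := π)).2 fun x hx => ?_
  let p : (J →₀ A) →ₗ[A] J := Finsupp.linearCombination A id
  have hp : Function.Surjective p := fun j => ⟨Finsupp.single j 1, by simp [p]⟩
  obtain ⟨y, rfl⟩ := LinearMap.rTensor_surjective M hp x
  let L' : Submodule A (J →₀ A) := Submodule.comap p (LinearMap.range (LinearMap.lsmul A J π))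
  have hsub : ∀ f, π • f ∈ L' := fun f => ⟨p f, (p.map_smul π f).symm⟩
  have hker : LinearMap.ker p ≤ L' := fun f hf => ⟨0, by simp [LinearMap.mem_ker.1 hf]⟩
  have hinj := rTensor_injective_of_smul_le hM (isSMulRegular_finsupp_tensor hM) L' hsub
  have hexp : Function.Exact (LinearMap.ker p).subtype p := fun w =>
    ⟨fun h => ⟨⟨w, h⟩, rfl⟩, by rintro ⟨w', rfl⟩; exact w'.2⟩
  obtain ⟨z, hz⟩ :=
    ((@rTensor_exact A (LinearMap.ker p) (J →₀ A) J _ _ _ _ _ _ _ _ p M _ _ hexp hp) (π • y)).1
    (by rw [map_smul, hx])
  have hπinj : Function.Injective (LinearMap.lsmul A J π) := fun a b hab =>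
    Subtype.ext ((mem_nonZeroDivisors_iff_right.1 hπ |> fun h => by
      have h2 : π * (a.1 - b.1) = 0 := by
        have := congrArg Subtype.val hab
        simp only [LinearMap.lsmul_apply, Submodule.coe_smul, smul_eq_mul] at this
        rw [mul_sub, this, sub_self]
      exact sub_eq_zero.1 (h _ (by rw [mul_comm]; exact h2))))
  let q : L' →ₗ[A] J := (LinearEquiv.ofInjective _ hπinj).symm.toLinearMap ∘ₗ
    (p.restrict (p := L') (q := LinearMap.range (LinearMap.lsmul A J π)) fun f hf => hf)
  have hq : ∀ (f : L') (j : J), p f.1 = π • j → q f = j := by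
    intro f j hj
    apply (LinearEquiv.ofInjective _ hπinj).injective
    apply Subtype.ext
    simp [q, hj]
  let μ : (J →₀ A) →ₗ[A] L' := (LinearMap.lsmul A _ π).codRestrict L' hsub
  have heq : μ.rTensor M y = (Submodule.inclusion hker).rTensor M z := by
    apply hinj
    rw [← LinearMap.comp_apply, ← LinearMap.rTensor_comp, ← LinearMap.comp_apply,
      ← LinearMap.rTensor_comp, show L'.subtype ∘ₗ μ = π • LinearMap.id from rfl,
      Submodule.subtype_comp_inclusion, LinearMap.rTensor_smul, LinearMap.rTensor_id, hz]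
    rfl
  have := congrArg (q.rTensor M) heq
  rw [← LinearMap.comp_apply, ← LinearMap.rTensor_comp, ← LinearMap.comp_apply,
    ← LinearMap.rTensor_comp, show q ∘ₗ μ = p from LinearMap.ext fun f => hq _ _ (p.map_smul π f),
    show q ∘ₗ Submodule.inclusion hker = 0 from LinearMap.ext fun f => hq _ _ (by
      simp)] at this
  simpa using this

theorem flat_of_regular_of_quotient_of_away (hπ : π ∈ nonZeroDivisors A)
    (hM : IsSMulRegular M π)
    [Module.Flat (A ⧸ Ideal.span {π}) ((A ⧸ Ideal.span {π}) ⊗[A] M)]
    [Module.Flat (Localization.Away π) ((Localization.Away π) ⊗[A] M)] : Module.Flat A M := by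
  refine Module.Flat.iff_rTensor_injective.2 fun J _ => ?_
  rw [injective_iff_map_eq_zero]
  intro x hx
  let S := Localization.Away π
  have hS : Function.Injective (LinearMap.rTensor (S ⊗[A] M) J.subtype) := by
    have : Module.Flat A (S ⊗[A] M) := Module.Flat.trans A S _
    exact Module.Flat.rTensor_preserves_injective_linearMap _ Subtype.val_injective
  let ι : M →ₗ[A] S ⊗[A] M := TensorProduct.mk A S M 1
  have h1 : ι.lTensor J x = 0 := by
    apply hS
    rw [map_zero, ← LinearMap.comp_apply, LinearMap.rTensor_comp_lTensor,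
      ← LinearMap.lTensor_comp_rTensor, LinearMap.comp_apply, hx, map_zero]
  have hloc : IsLocalizedModule (Submonoid.powers π) ι :=
    (isLocalizedModule_iff_isBaseChange (Submonoid.powers π) S ι).2
      (TensorProduct.isBaseChange A M S)
  have h2 : AlgebraTensorModule.rTensor A J ι (TensorProduct.comm A J M x) = 0 := by
    have key : ∀ z, AlgebraTensorModule.rTensor A J ι (TensorProduct.comm A J M z) =
        TensorProduct.comm A J _ (ι.lTensor J z) := fun z => by
      induction z with
      | zero => simp
      | tmul a b => simp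
      | add a b ha hb => simp only [map_add, ha, hb]
    rw [key, h1, map_zero]
  obtain ⟨⟨_, k, rfl⟩, hk⟩ := (IsLocalizedModule.eq_zero_iff (Submonoid.powers π)
    (AlgebraTensorModule.rTensor A J ι)).1 h2
  apply (isSMulRegular_ideal_tensor hπ hM J).pow k
  apply (TensorProduct.comm A J M).injective
  simpa [Submonoid.smul_def] using hk

end GrothLib.RigidBase
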