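import Mathlib
import Groth.Agent.Lib.RigidBase.Base
import Groth.Agent.Lib.Hensel.Properties
import Groth.Agent.Lib.Hensel.LocalFactor

/-!
# Complete valuation rings of height one
-/

open Polynomial IsLocalRing

namespace GrothLib.RigidBase

universe u

variable {R : Type u} [CommRing R] [IsDomain R] [ValuationRing R] [Ring.KrullDimLE 1 R] {t : R}
  [IsAdicComplete (Ideal.span {t}) R]

theorem isBase_val (ht : t ≠ 0) : AdicRing.IsBase R (Ideal.span {t}) :=
  ⟨inferInstance, Or.inr ⟨inferInstance, inferInstance, inferInstance, t, ht, rfl⟩⟩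

theorem isValBase (ht : t ≠ 0) : IsValBase t := by
  have hu : ¬ IsUnit t := fun hu => by
    have h : IsAdicComplete (Ideal.span {t}) R := inferInstance
    rw [Ideal.span_singleton_eq_top.2 hu] at h
    exact not_subsingleton R (IsAdicComplete.subsingleton R h)
  have hrad : ∀ x y : R, x ≠ 0 → ¬ IsUnit y → ∃ l, x ∣ y ^ l := by
    intro x y hx hy
    suffices y ∈ (Ideal.span {x}).radical by
      obtain ⟨l, hl⟩ := this
      exact ⟨l, Ideal.mem_span_singleton.1 hl⟩
    rw [Ideal.radical_eq_sInf, Submodule.mem_sInf]
    rintro p ⟨hp, hpr⟩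
    have hpbot : p ≠ ⊥ := fun h =>
      hx (by simpa [h] using hp (Ideal.mem_span_singleton_self x))
    have hk : Ring.KrullDimLE 1 R := inferInstance
    have := Ring.krullDimLE_one_iff_of_isPrime_bot.1 hk p hpbot hpr
    rw [IsLocalRing.eq_maximalIdeal this]
    exact hy
  exact ⟨inferInstance, inferInstance, ht, hu, fun x hx => hrad x t hx hu,
    fun x hx => hrad t x ht hx⟩

theorem henselianLocalRing_val (ht : t ≠ 0) : HenselianLocalRing R := by
  have hV := isValBase (t := t) ht
  have h : (Ideal.span {t}).radical = (maximalIdeal R).radical := by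
    rw [(inferInstance : (maximalIdeal R).IsPrime).radical]
    refine le_antisymm ?_ fun x hx => ?_
    · rw [Ideal.IsPrime.radical_le_iff inferInstance, Ideal.span_le, Set.singleton_subset_iff]
      exact hV.not_isUnit
    · obtain ⟨l, hl⟩ := hV.pow_dvd x hx
      exact ⟨l, Ideal.mem_span_singleton.2 hl⟩
  have : HenselianRing R (maximalIdeal R) :=
    (GrothLib.Hensel.henselianRing_iff_of_radical_eq h).1 inferInstance
  exact { is_henselian := fun f hf a₀ h1 h2 => HenselianRing.is_henselian f hf a₀ h1 (h2.map _) }

/-- A monic irreducible polynomial over the fraction field with integral constant coefficient has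
integral coefficients. -/
theorem mem_lifts_of_coeff_zero (ht : t ≠ 0) (f : (FractionRing R)[X]) (hf : f.Monic)
    (hirr : Irreducible f) (h0 : f.coeff 0 ∈ (algebraMap R (FractionRing R)).range) :
    f ∈ lifts (algebraMap R (FractionRing R)) := by
  classical
  have := henselianLocalRing_val (t := t) ht
  by_contra hni
  obtain ⟨⟨s, hs⟩, hint⟩ := IsLocalization.exist_integer_multiples_of_finset (nonZeroDivisors R)
    (f.support.image f.coeff ∪ {1})
  have hsf : ∀ j, ∃ a : R, algebraMap R (FractionRing R) a = algebraMap R _ s * f.coeff j := by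
    intro j
    by_cases hj : f.coeff j = 0
    · exact ⟨0, by simp [hj]⟩
    · obtain ⟨a, ha⟩ := hint (f.coeff j)
        (Finset.mem_union_left _ (Finset.mem_image.2 ⟨j, mem_support_iff.2 hj, rfl⟩))
      exact ⟨a, by rw [ha, ← Algebra.smul_def]⟩
  choose a ha using hsf
  obtain ⟨c, hcmem, hc⟩ := exists_dvd_all ((Finset.range (f.natDegree + 1)).image a)
    ⟨a 0, Finset.mem_image.2 ⟨0, by simp, rfl⟩⟩
  obtain ⟨j₀, hj₀, rfl⟩ := Finset.mem_image.1 hcmem
  have hs0 : algebraMap R (FractionRing R) s ≠ 0 :=
    IsFractionRing.to_map_ne_zero_of_mem_nonZeroDivisors hs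
  have han : a f.natDegree = s := IsFractionRing.injective R (FractionRing R) (by
    rw [ha, hf.coeff_natDegree, mul_one])
  obtain ⟨e, he⟩ := hc (a f.natDegree) (Finset.mem_image.2 ⟨_, by simp, rfl⟩)
  have hdvd : ∀ j, a j₀ ∣ a j := by
    intro j
    by_cases hj : j ≤ f.natDegree
    · exact hc _ (Finset.mem_image.2 ⟨j, by simpa [Finset.mem_range, Nat.lt_succ_iff] using hj, rfl⟩)
    · have : a j = 0 := IsFractionRing.injective R (FractionRing R) (by
        rw [ha, coeff_eq_zero_of_natDegree_lt (not_le.1 hj), mul_zero, map_zero])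
      rw [this]; exact dvd_zero _
  choose b hb using hdvd
  have hc0 : a j₀ ≠ 0 := fun h => hs0 (by
    rw [← han, he, h, zero_mul, map_zero])
  have hbf : ∀ j, algebraMap R (FractionRing R) (b j) = algebraMap R _ e * f.coeff j := by
    intro j
    apply mul_left_cancel₀ ((map_ne_zero_iff _ (IsFractionRing.injective R (FractionRing R))).2 hc0)
    rw [← map_mul, ← hb, ← mul_assoc, ← map_mul, ← he, han, ha]
  have heu : ¬ IsUnit e := fun heu => hni ((lifts_iff_coeff_lifts f).2 fun j => by
    refine ⟨↑heu.unit⁻¹ * b j, ?_⟩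
    rw [map_mul, hbf, ← mul_assoc, ← map_mul, IsUnit.val_inv_mul, map_one, one_mul])
  -- the primitive integral multiple of `f`
  let g : R[X] := ∑ j ∈ Finset.range (f.natDegree + 1), monomial j (b j)
  have hgc : ∀ j, g.coeff j = b j := by
    intro j
    simp only [g, finsetSum_coeff, coeff_monomial, Finset.sum_ite_eq', Finset.mem_range]
    split_ifs with h
    · rfl
    · refine (IsFractionRing.injective R (FractionRing R) ?_).symm
      rw [hbf, coeff_eq_zero_of_natDegree_lt (not_le.1 fun hle => h (Nat.lt_succ_of_le hle)),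
        mul_zero, map_zero]
  have hgf : g.map (algebraMap R (FractionRing R)) = C (algebraMap R _ e) * f := by
    ext j
    rw [coeff_map, hgc, hbf, coeff_C_mul]
  have hb1 : b j₀ = 1 := mul_left_cancel₀ hc0 (by rw [← hb, mul_one])
  let g₀ := g.map (residue R)
  have hg0ne : g₀ ≠ 0 := fun h => by
    have := congrArg (fun p => p.coeff j₀) h
    simp [g₀, hgc, hb1] at this
  have hb0 : b 0 ∈ maximalIdeal R := by
    obtain ⟨r, hr⟩ := h0
    have : b 0 = e * r := IsFractionRing.injective R (FractionRing R) (by
      rw [hbf, map_mul, hr])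
    rw [this]
    exact Ideal.mul_mem_right _ _ heu
  have hd1 : 0 < g₀.natDegree := by
    rw [Nat.pos_iff_ne_zero]
    intro hd
    refine hg0ne ?_
    rw [eq_C_of_natDegree_eq_zero hd]
    simp [g₀, hgc, residue_eq_zero_iff, hb0]
  have hdn : g₀.natDegree < f.natDegree := by
    refine lt_of_le_of_ne (natDegree_map_le.trans ?_) fun h => ?_
    · refine natDegree_le_iff_coeff_eq_zero.2 fun j hj => ?_
      rw [hgc]
      refine IsFractionRing.injective R (FractionRing R) ?_
      rw [hbf, coeff_eq_zero_of_natDegree_lt hj, mul_zero, map_zero]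
    · have hlc := leadingCoeff_ne_zero.2 hg0ne
      rw [leadingCoeff, h] at hlc
      apply hlc
      have : b f.natDegree = e := mul_left_cancel₀ hc0 (by rw [← hb, he])
      simp only [g₀, coeff_map, hgc, this, residue_eq_zero_iff]
      exact heu
  obtain ⟨G, H, hGH, hG, hG0, -⟩ := GrothLib.Hensel.exists_factor_lift_local g
    (g₀ * C g₀.leadingCoeff⁻¹) (C g₀.leadingCoeff) (monic_mul_leadingCoeff_inv hg0ne)
    (isCoprime_one_right.of_isCoprime_of_dvd_right (isUnit_iff_dvd_one.1
      (isUnit_C.2 (IsUnit.mk0 _ (leadingCoeff_ne_zero.2 hg0ne)))))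
    (by rw [mul_assoc, ← C_mul, inv_mul_cancel₀ (leadingCoeff_ne_zero.2 hg0ne), C_1, mul_one])
  have hGdeg : G.natDegree = g₀.natDegree := by
    rw [← hG.natDegree_map (residue R), hG0,
      natDegree_mul_C (inv_ne_zero (leadingCoeff_ne_zero.2 hg0ne))]
  have he0 : algebraMap R (FractionRing R) e ≠ 0 :=
    (map_ne_zero_iff _ (IsFractionRing.injective R (FractionRing R))).2 fun h => hs0 (by
      rw [← han, he, h, mul_zero, map_zero])
  have hfact : f = G.map (algebraMap R _) *
      (C (algebraMap R (FractionRing R) e)⁻¹ * H.map (algebraMap R _)) := by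
    rw [mul_left_comm, ← Polynomial.map_mul, ← hGH, hgf, ← mul_assoc, ← C_mul,
      inv_mul_cancel₀ he0, C_1, one_mul]
  have hGK : (G.map (algebraMap R (FractionRing R))).natDegree = g₀.natDegree := by
    rw [hG.natDegree_map, hGdeg]
  rcases hirr.isUnit_or_isUnit hfact with hu | hu
  · have := natDegree_eq_zero_of_isUnit hu
    omega
  · have hne : C (algebraMap R (FractionRing R) e)⁻¹ * H.map (algebraMap R _) ≠ 0 := hu.ne_zero
    have h2 := congrArg natDegree hfact
    rw [natDegree_mul (hG.map _).ne_zero hne, hGK, natDegree_eq_zero_of_isUnit hu] at h2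
    omega

variable (L : Type u) [Field L] [Algebra R L] [Algebra (FractionRing R) L]
  [IsScalarTower R (FractionRing R) L]

theorem isIntegral_iff_coeff_zero (ht : t ≠ 0) (α : L) (hα : IsIntegral (FractionRing R) α) :
    IsIntegral R α ↔
      (minpoly (FractionRing R) α).coeff 0 ∈ (algebraMap R (FractionRing R)).range := by
  constructor
  · intro h
    rw [minpoly.isIntegrallyClosed_eq_field_fractions' (FractionRing R) h, coeff_map]
    exact ⟨_, rfl⟩
  · intro h
    obtain ⟨g, hg, -, hgm⟩ := lifts_and_degree_eq_and_monic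
      (mem_lifts_of_coeff_zero ht _ (minpoly.monic hα) (minpoly.irreducible hα) h)
      (minpoly.monic hα)
    refine ⟨g, hgm, ?_⟩
    rw [← aeval_def, ← aeval_map_algebraMap (FractionRing R), hg]
    exact minpoly.aeval _ _

theorem isIntegral_iff_norm (ht : t ≠ 0) [Algebra.IsAlgebraic (FractionRing R) L] (α : L) :
    IsIntegral R α ↔
      Algebra.norm (FractionRing R) (IntermediateField.AdjoinSimple.gen (FractionRing R) α) ∈
        (algebraMap R (FractionRing R)).range := by
  have hα : IsIntegral (FractionRing R) α := Algebra.IsIntegral.isIntegral α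
  rw [isIntegral_iff_coeff_zero L ht α hα, ← IntermediateField.adjoin.powerBasis_gen hα,
    Algebra.PowerBasis.norm_gen_eq_coeff_zero_minpoly, IntermediateField.adjoin.powerBasis_gen,
    IntermediateField.minpoly_gen]
  rcases neg_one_pow_eq_or (FractionRing R) (IntermediateField.adjoin.powerBasis hα).dim with h | h <;>
    rw [h]
  · rw [one_mul]
  · rw [neg_one_mul, neg_mem_iff]

/-- An element of an algebraic extension or its inverse is integral. -/
theorem isIntegral_or_isIntegral_inv (ht : t ≠ 0) [Algebra.IsAlgebraic (FractionRing R) L]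
    (α : L) : IsIntegral R α ∨ IsIntegral R α⁻¹ := by
  by_cases h0 : α = 0
  · exact Or.inl (h0 ▸ isIntegral_zero)
  have hmem : ∀ x : FractionRing R, x ∈ (algebraMap R (FractionRing R)).range ∨
      x⁻¹ ∈ (algebraMap R (FractionRing R)).range := fun x => by
    rcases ValuationRing.isInteger_or_isInteger R x with h | h
    · exact Or.inl h
    · exact Or.inr h
  have hnorm : ∀ (β : L), Algebra.norm (FractionRing R)
      (IntermediateField.AdjoinSimple.gen (FractionRing R) β) ^ 1 =
        Algebra.norm (FractionRing R) (IntermediateField.AdjoinSimple.gen (FractionRing R) β) :=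
    fun β => pow_one _
  let F := IntermediateField.adjoin (FractionRing R) ({α} : Set L)
  have hinv : IntermediateField.adjoin (FractionRing R) ({α⁻¹} : Set L) = F := by
    refine le_antisymm ?_ ?_ <;> rw [IntermediateField.adjoin_le_iff, Set.singleton_subset_iff]
    · exact inv_mem (IntermediateField.mem_adjoin_simple_self _ α)
    · simpa using inv_mem (IntermediateField.mem_adjoin_simple_self (FractionRing R) α⁻¹)
  let e := IntermediateField.equivOfEq hinv
  have h2 : Algebra.norm (FractionRing R) (IntermediateField.AdjoinSimple.gen (FractionRing R) α⁻¹)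
      = (Algebra.norm (FractionRing R) (IntermediateField.AdjoinSimple.gen (FractionRing R) α))⁻¹ := by
    rw [← Algebra.norm_eq_of_algEquiv e]
    refine eq_inv_of_mul_eq_one_left ?_
    rw [← map_mul, show e (IntermediateField.AdjoinSimple.gen (FractionRing R) α⁻¹) *
        IntermediateField.AdjoinSimple.gen (FractionRing R) α = 1 from
      Subtype.ext (inv_mul_cancel₀ h0), map_one]
  rw [isIntegral_iff_norm L ht, isIntegral_iff_norm L ht, h2]
  exact hmem _

end GrothLib.RigidBase
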