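import Mathlib
import Groth.Agent.Lib.RigidBase.ValBase
import Groth.Agent.Lib.RigidBase.TopFP
import Groth.Agent.Lib.RigidBase.Trunc
import Groth.Agent.Lib.AdicExtra.Complete

/-!
# Admissible domains with trivial generic fibre dimension are finite over the base
-/

open MvPolynomial

namespace GrothLib.RigidBase

universe u

section Finite

variable {R : Type u} [CommRing R] {I : Ideal R}

theorem topFiniteType_self (hI : I.FG) [IsAdicComplete I R] :
    AdicRing.TopFiniteType R I R := by
  have : IsAdicComplete (I.map (algebraMap R R)) R := by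
    rwa [Algebra.algebraMap_self, Ideal.map_id]
  refine (topFiniteType_iff_trunc hI).2 (RingHom.FiniteType.of_surjective _ fun y => ?_)
  obtain ⟨a, rfl⟩ := Ideal.Quotient.mk_surjective y
  exact ⟨Ideal.Quotient.mk _ a, rfl⟩

theorem isAdicComplete_of_finite_base (hR : AdicRing.IsBase R I) {M : Type u} [AddCommGroup M]
    [Module R M] [Module.Finite R M] : IsAdicComplete I M := by
  have := hR.1
  exact isAdicComplete_alg hR (topFiniteType_self (fg_of_isBase hR))

/-- A finite algebra over an algebra of topologically finite type is of topologically finite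
type. -/
theorem topFiniteType_of_finite (hR : AdicRing.IsBase R I) {A : Type u} [CommRing A] [Algebra R A]
    (hA : AdicRing.TopFiniteType R I A) (B : Type u) [CommRing B] [Algebra R B] [Algebra A B]
    [IsScalarTower R A B] [Module.Finite A B] : AdicRing.TopFiniteType R I B := by
  have hI := fg_of_isBase hR
  have hc := isAdicComplete_alg hR hA (M := B)
  have : IsAdicComplete (I.map (algebraMap R B)) B :=
    (IsAdicComplete.map_algebraMap_iff I B).2 hc
  have hcA := isAdicComplete_alg hR hA (M := A)
  have : IsAdicComplete (I.map (algebraMap R A)) A :=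
    (IsAdicComplete.map_algebraMap_iff I A).2 hcA
  rw [topFiniteType_iff_trunc hI]
  have h := (topFiniteType_iff_trunc hI).1 hA
  let q : A ⧸ (I ^ 1).map (algebraMap R A) →+* B ⧸ (I ^ 1).map (algebraMap R B) :=
    Ideal.quotientMap _ (algebraMap A B) (by
      rw [← Ideal.map_le_iff_le_comap, Ideal.map_map, ← IsScalarTower.algebraMap_eq])
  have hq : q.Finite := by
    let _ := q.toAlgebra
    have : IsScalarTower A (A ⧸ (I ^ 1).map (algebraMap R A))
        (B ⧸ (I ^ 1).map (algebraMap R B)) := IsScalarTower.of_algebraMap_eq fun a => rfl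
    exact Module.Finite.of_restrictScalars_finite A (A ⧸ (I ^ 1).map (algebraMap R A))
      (B ⧸ (I ^ 1).map (algebraMap R B))
  convert hq.finiteType.comp h using 1
  refine Ideal.Quotient.ringHom_ext (RingHom.ext fun x => ?_)
  show Ideal.Quotient.mk _ (algebraMap R B x) =
    Ideal.Quotient.mk _ (algebraMap A B (algebraMap R A x))
  rw [← IsScalarTower.algebraMap_apply]

end Finite

variable {R : Type u} [CommRing R] [IsDomain R] [ValuationRing R] [Ring.KrullDimLE 1 R] {t : R}
  [IsAdicComplete (Ideal.span {t}) R]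

theorem map_span_residueField (ht : t ≠ 0) (C : Type u) [CommRing C] [Algebra R C]
    (hC : (IsLocalRing.maximalIdeal R).map (algebraMap R C) = ⊥) :
    IsAdicComplete ((Ideal.span {t}).map (algebraMap R C)) C := by
  have : (Ideal.span {t}).map (algebraMap R C) = ⊥ := by
    rw [eq_bot_iff, ← hC]
    refine Ideal.map_mono ?_
    rw [Ideal.span_le, Set.singleton_subset_iff]
    exact (isValBase ht).not_isUnit
  rw [this]
  infer_instance

/-- Reduction of restricted power series modulo the maximal ideal. -/
theorem exists_red (ht : t ≠ 0) (n : ℕ) :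
    ∃ ρ : AdicRing.RPow R (Ideal.span {t}) n →ₐ[R] MvPolynomial (Fin n) (IsLocalRing.ResidueField R),
      (∀ p, ρ (algebraMap (MvPolynomial (Fin n) R) _ p) =
        MvPolynomial.map (IsLocalRing.residue R) p) ∧
      ∀ g, g ≠ 0 → ∃ γ : R, γ ≠ 0 ∧ ∃ g', g = γ • g' ∧ ρ g' ≠ 0 := by
  classical
  let k := IsLocalRing.ResidueField R
  have := map_span_residueField (t := t) ht (MvPolynomial (Fin n) k) (by
    rw [eq_bot_iff, Ideal.map_le_iff_le_comap]
    intro x hx
    rw [Ideal.mem_comap, Ideal.mem_bot, IsScalarTower.algebraMap_apply R k]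
    rw [show algebraMap R k x = 0 from (IsLocalRing.residue_eq_zero_iff x).2 hx, map_zero])
  let g0 : MvPolynomial (Fin n) R →ₐ[R] MvPolynomial (Fin n) k :=
    MvPolynomial.aeval MvPolynomial.X
  have hg0 : ∀ p, g0 p = MvPolynomial.map (IsLocalRing.residue R) p := fun p => by
    have : (g0 : MvPolynomial (Fin n) R →+* MvPolynomial (Fin n) k) =
        MvPolynomial.map (IsLocalRing.residue R) := by
      refine MvPolynomial.ringHom_ext (fun r => ?_) fun i => ?_
      · simp [g0, IsScalarTower.algebraMap_apply R k (MvPolynomial (Fin n) k)]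
        rfl
      · simp [g0]
    exact congrArg (fun h => h p) this
  have hex := existsUnique_extension (R := R) (S := MvPolynomial (Fin n) R)
    (B := MvPolynomial (Fin n) k) (Submodule.fg_span_singleton t) g0
  rw [MvPolynomial.algebraMap_eq] at hex
  obtain ⟨ρ, hρ, -⟩ := hex
  refine ⟨ρ, fun p => (hρ p).trans (hg0 p), fun g hg => ?_⟩
  have hV := isValBase (t := t) ht
  obtain ⟨j, hj⟩ : ∃ j, ¬ ∃ z, g = t ^ j • z := by
    by_contra hall
    push Not at hall
    have hc : IsAdicComplete ((Ideal.span {t}).map (algebraMap R _))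
      (AdicRing.RPow R (Ideal.span {t}) n) := isAdicComplete_rpow (Submodule.fg_span_singleton t) n
    refine hg (IsHausdorff.haus hc.toIsHausdorff g fun j => SModEq.zero.2 ?_)
    obtain ⟨z, hz⟩ := hall j
    rw [Ideal.smul_eq_mul, Ideal.mul_top, ← Ideal.map_pow, hz, Algebra.smul_def]
    exact Ideal.mul_mem_right _ _ (Ideal.mem_map_of_mem _
      (Ideal.pow_mem_pow (Ideal.mem_span_singleton_self t) j))
  obtain ⟨p, z, rfl⟩ := (isRPow t n).approx j g
  obtain ⟨γ, hγ, hdvd⟩ := exists_dvd_all (insert (t ^ j) (p.support.image fun d => coeff d p))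
    ⟨_, Finset.mem_insert_self _ _⟩
  have hall : ∀ d, γ ∣ coeff d p := fun d => by
    by_cases h : coeff d p = 0
    · rw [h]; exact dvd_zero _
    · exact hdvd _ (Finset.mem_insert_of_mem (Finset.mem_image.2 ⟨d, mem_support_iff.2 h, rfl⟩))
  choose q hq using hall
  let p' : MvPolynomial (Fin n) R := ∑ d ∈ p.support, monomial d (q d)
  have hp' : p = γ • p' := by
    conv_lhs => rw [p.as_sum]
    simp only [p', Finset.smul_sum, smul_monomial]
    exact Finset.sum_congr rfl fun d _ => by rw [hq d]; rfl
  obtain ⟨e, he⟩ := hdvd _ (Finset.mem_insert_self _ _)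
  have hγ0 : γ ≠ 0 := fun h => pow_ne_zero j ht (by rw [he, h, zero_mul])
  have heu : ¬ IsUnit e := by
    intro heu
    apply hj
    refine ⟨(↑heu.unit⁻¹ : R) • IsScalarTower.toAlgHom R (MvPolynomial (Fin n) R) _ p' + z, ?_⟩
    rw [smul_add, smul_smul, he, mul_assoc, IsUnit.mul_val_inv, mul_one, hp', map_smul]
  refine ⟨γ, hγ0, IsScalarTower.toAlgHom R (MvPolynomial (Fin n) R) _ p' + e • z, ?_, ?_⟩
  · rw [smul_add, smul_smul, ← he, hp', map_smul]
  · rcases Finset.mem_insert.1 hγ with h | h
    · refine absurd ?_ heu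
      rw [mul_left_cancel₀ (pow_ne_zero j ht) (((h ▸ he : t ^ j = t ^ j * e)).symm.trans
        (mul_one _).symm)]
      exact isUnit_one
    · obtain ⟨d, -, hd⟩ := Finset.mem_image.1 h
      have h1 : q d = 1 := mul_left_cancel₀ hγ0 (by rw [← hq, hd, mul_one])
      intro hzero
      have hcoef := congrArg (coeff d) hzero
      rw [map_add, map_smul, IsScalarTower.coe_toAlgHom', hρ, hg0, coeff_add, coeff_map, coeff_smul,
        Algebra.smul_def, show algebraMap R k e = 0 from (IsLocalRing.residue_eq_zero_iff e).2 heu,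
        zero_mul, add_zero, coeff_zero] at hcoef
      have : coeff d p' = 1 := by
        have h3 := congrArg (coeff d) hp'
        rw [coeff_smul, hd, smul_eq_mul] at h3
        exact (mul_left_cancel₀ hγ0 ((mul_one γ).trans h3)).symm
      rw [this, map_one] at hcoef
      exact one_ne_zero hcoef

variable {B : Type u} [CommRing B] [Algebra R B]

theorem map_maximalIdeal_le_radical (ht : t ≠ 0) :
    (IsLocalRing.maximalIdeal R).map (algebraMap R B) ≤
      ((Ideal.span {t}).map (algebraMap R B)).radical := by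
  rw [Ideal.map_le_iff_le_comap]
  intro x hx
  obtain ⟨l, hl⟩ := (isValBase (t := t) ht).pow_dvd x hx
  refine ⟨l, ?_⟩
  rw [← map_pow]
  exact Ideal.mem_map_of_mem _ (Ideal.mem_span_singleton.2 hl)

/-- Noether normalisation for algebras of topologically finite type without torsion. -/
theorem exists_finite_injective_rpow [IsDomain B] (ht : t ≠ 0)
    (hB : AdicRing.TopFiniteType R (Ideal.span {t}) B)
    (hT : Function.Injective (algebraMap R B)) :
    ∃ (s : ℕ) (Φ : AdicRing.RPow R (Ideal.span {t}) s →ₐ[R] B),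
      Function.Injective Φ ∧ Φ.toRingHom.Finite := by
  classical
  have hR := isBase_val (t := t) ht
  have hI : (Ideal.span {t}).FG := Submodule.fg_span_singleton t
  let k := IsLocalRing.ResidueField R
  let mB : Ideal B := (IsLocalRing.maximalIdeal R).map (algebraMap R B)
  let _ : Algebra k (B ⧸ mB) := (Ideal.quotientMap mB (algebraMap R B) Ideal.le_comap_map).toAlgebra
  have : IsScalarTower R k (B ⧸ mB) := IsScalarTower.of_algebraMap_eq fun x => rfl
  have hcB := isAdicComplete_alg hR hB (M := B)
  have : IsAdicComplete ((Ideal.span {t}).map (algebraMap R B)) B :=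
    (IsAdicComplete.map_algebraMap_iff _ B).2 hcB
  obtain ⟨m, φ, hφ⟩ := hB
  have hgen : ∀ b : B, ∃ p, Ideal.Quotient.mk mB b =
      MvPolynomial.aeval (fun i : Fin m => Ideal.Quotient.mk mB
        (φ (algebraMap (MvPolynomial (Fin m) R) _ (MvPolynomial.X i)))) (p : MvPolynomial (Fin m) k) := by
    intro b
    obtain ⟨x, rfl⟩ := hφ b
    obtain ⟨p, hp⟩ := exists_sub_mem_rpow (I := Ideal.span {t}) hI m 1 x
    refine ⟨MvPolynomial.map (IsLocalRing.residue R) p, ?_⟩
    have h1 := Ideal.mem_map_of_mem (φ : AdicRing.RPow R (Ideal.span {t}) m →+* B) hp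
    rw [Ideal.map_map, AlgHom.comp_algebraMap, pow_one] at h1
    have h2 : φ x - φ (algebraMap (MvPolynomial (Fin m) R) _ p) ∈ mB := by
      refine Ideal.map_mono ?_ (by simpa using h1)
      rw [Ideal.span_le, Set.singleton_subset_iff]
      exact (isValBase ht).not_isUnit
    rw [Ideal.Quotient.eq.2 h2]
    show ((Ideal.Quotient.mkₐ R mB).comp (φ.comp (IsScalarTower.toAlgHom R (MvPolynomial (Fin m) R)
      _))) p = _
    rw [show IsLocalRing.residue R = algebraMap R k from rfl, MvPolynomial.aeval_map_algebraMap]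
    congr 1
    refine MvPolynomial.algHom_ext fun i => ?_
    simp
  have hft : Algebra.FiniteType k (B ⧸ mB) :=
    Algebra.FiniteType.of_surjective (MvPolynomial.aeval fun i : Fin m => Ideal.Quotient.mk mB
      (φ (algebraMap (MvPolynomial (Fin m) R) _ (MvPolynomial.X i)))) fun y => by
      obtain ⟨b, rfl⟩ := Ideal.Quotient.mk_surjective y
      obtain ⟨p, hp⟩ := hgen b
      exact ⟨p, hp.symm⟩
  have hnt : Nontrivial (B ⧸ mB) := Ideal.Quotient.nontrivial_iff.2 fun h => by
    have h1 : ((Ideal.span {t}).map (algebraMap R B)).radical = ⊤ :=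
      top_le_iff.1 (h ▸ map_maximalIdeal_le_radical (B := B) ht)
    rw [Ideal.radical_eq_top] at h1
    have h2 := IsAdicComplete.le_jacobson_bot ((Ideal.span {t}).map (algebraMap R B))
    rw [h1, top_le_iff, Ideal.jacobson_eq_top_iff] at h2
    exact bot_ne_top h2
  obtain ⟨s, g, hginj, hgfin⟩ := exists_finite_inj_algHom_of_fg k (B ⧸ mB)
  choose b hb using fun i => Ideal.Quotient.mk_surjective (g (MvPolynomial.X i))
  let f : MvPolynomial (Fin s) R →ₐ[R] B := MvPolynomial.aeval b
  have hex := existsUnique_extension (R := R) (S := MvPolynomial (Fin s) R) (B := B) hI f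
  rw [MvPolynomial.algebraMap_eq] at hex
  obtain ⟨Φ, hΦ, -⟩ := hex
  obtain ⟨ρ, hρ, hprim⟩ := exists_red (t := t) ht s
  have hgf : ∀ p, g (MvPolynomial.map (IsLocalRing.residue R) p) = Ideal.Quotient.mk mB (f p) := by
    intro p
    have : (g : _ →+* B ⧸ mB).comp (MvPolynomial.map (IsLocalRing.residue R)) =
        (Ideal.Quotient.mk mB).comp (f : MvPolynomial (Fin s) R →+* B) := by
      refine MvPolynomial.ringHom_ext (fun r => ?_) fun i => ?_
      · simp only [RingHom.comp_apply, MvPolynomial.map_C, RingHom.coe_coe]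
        rw [show (C r : MvPolynomial (Fin s) R) = algebraMap R _ r from rfl, f.commutes,
          ← MvPolynomial.algebraMap_eq, g.commutes]
        rfl
      · simp [f, hb]
    exact congrArg (fun h => h p) this
  have hred : ∀ x, Ideal.Quotient.mk mB (Φ x) = g (ρ x) := by
    have := map_span_residueField (t := t) ht (B ⧸ mB) (by
      rw [IsScalarTower.algebraMap_eq R B (B ⧸ mB), ← Ideal.map_map, Ideal.Quotient.algebraMap_eq]
      exact Ideal.map_quotient_self mB)
    have hex := existsUnique_extension (R := R) (S := MvPolynomial (Fin s) R) (B := B ⧸ mB) hI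
      ((Ideal.Quotient.mkₐ R mB).comp f)
    rw [MvPolynomial.algebraMap_eq] at hex
    intro x
    have heq : (Ideal.Quotient.mkₐ R mB).comp Φ = (g.restrictScalars R).comp ρ :=
      hex.unique (fun p => congrArg (Ideal.Quotient.mk mB) (hΦ p))
        (fun p => by
          show g (ρ _) = Ideal.Quotient.mk mB (f p)
          rw [hρ, hgf])
    exact congrArg (fun h => h x) heq
  refine ⟨s, Φ, (injective_iff_map_eq_zero Φ).2 fun x hx => ?_, ?_⟩
  · by_contra hne
    obtain ⟨γ, hγ, x', rfl, hx'⟩ := hprim x hne
    rw [map_smul, Algebra.smul_def, mul_eq_zero, map_eq_zero_iff _ hT] at hx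
    apply hx'
    apply hginj
    rw [map_zero, ← hred, hx.resolve_left hγ, map_zero]
  -- finiteness
  let _ : Algebra (AdicRing.RPow R (Ideal.span {t}) s) B := Φ.toRingHom.toAlgebra
  have : IsScalarTower R (AdicRing.RPow R (Ideal.span {t}) s) B :=
    IsScalarTower.of_algebraMap_eq fun x => (Φ.commutes x).symm
  let P := AdicRing.RPow R (Ideal.span {t}) s
  let J : Ideal P := (Ideal.span {t}).map (algebraMap R P)
  let JB : Ideal B := (Ideal.span {t}).map (algebraMap R B)
  have : IsScalarTower P B (B ⧸ JB) := IsScalarTower.of_algebraMap_eq fun x => rfl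
  have hint : Algebra.IsIntegral P (B ⧸ JB) := ⟨fun y => by
    obtain ⟨y, rfl⟩ := Ideal.Quotient.mk_surjective y
    obtain ⟨q, hqm, hq⟩ := hgfin.to_isIntegral (Ideal.Quotient.mk mB y)
    obtain ⟨q', hq', -, hq'm⟩ := Polynomial.lifts_and_degree_eq_and_monic
      (f := (ρ : P →+* MvPolynomial (Fin s) k))
      ((Polynomial.lifts_iff_coeff_lifts q).2 fun j => by
        obtain ⟨p, hp⟩ := MvPolynomial.map_surjective (IsLocalRing.residue R)
          IsLocalRing.residue_surjective (q.coeff j)
        exact ⟨algebraMap (MvPolynomial (Fin s) R) P p, (hρ p).trans hp⟩) hqm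
    have hz : Polynomial.aeval y q' ∈ mB := by
      rw [← Ideal.Quotient.eq_zero_iff_mem, Polynomial.aeval_def, Polynomial.hom_eval₂]
      rw [← hq', Polynomial.eval₂_map] at hq
      rw [← hq]
      congr 1
      exact RingHom.ext fun x => hred x
    obtain ⟨l, hl⟩ := map_maximalIdeal_le_radical (B := B) ht hz
    refine ⟨q' ^ l, hq'm.pow l, ?_⟩
    rw [← Polynomial.aeval_def, show Ideal.Quotient.mk JB y = algebraMap B (B ⧸ JB) y from rfl,
      Polynomial.aeval_algebraMap_apply, map_pow, Ideal.Quotient.algebraMap_eq,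
      Ideal.Quotient.eq_zero_iff_mem]
    exact hl⟩
  have hftP : Algebra.FiniteType P (B ⧸ JB) := by
    refine Algebra.FiniteType.of_surjective (MvPolynomial.aeval fun i : Fin m =>
      Ideal.Quotient.mk JB (φ (algebraMap (MvPolynomial (Fin m) R) _ (MvPolynomial.X i)))) fun y => ?_
    obtain ⟨b, rfl⟩ := Ideal.Quotient.mk_surjective y
    obtain ⟨x, rfl⟩ := hφ b
    obtain ⟨p, hp⟩ := exists_sub_mem_rpow (I := Ideal.span {t}) hI m 1 x
    refine ⟨MvPolynomial.map (algebraMap R P) p, ?_⟩
    have h1 := Ideal.mem_map_of_mem (φ : AdicRing.RPow R (Ideal.span {t}) m →+* B) hp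
    rw [Ideal.map_map, AlgHom.comp_algebraMap, pow_one] at h1
    rw [Ideal.Quotient.eq.2 (show φ x - φ (algebraMap (MvPolynomial (Fin m) R) _ p) ∈ JB by
      simpa using h1), MvPolynomial.aeval_map_algebraMap]
    show _ = ((Ideal.Quotient.mkₐ R JB).comp (φ.comp (IsScalarTower.toAlgHom R
      (MvPolynomial (Fin m) R) _))) p
    congr 1
    refine MvPolynomial.algHom_ext fun i => ?_
    simp
  have hfin : Module.Finite P (B ⧸ JB) := Algebra.IsIntegral.finite
  have hh : IsHausdorff J B := IsHausdorff.map_algebraMap_iff.2 hcB.toIsHausdorff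
  have hcP : IsAdicComplete J P := isAdicComplete_rpow hI s
  have hJB : (J • ⊤ : Submodule P B) = JB.restrictScalars P := by
    rw [Ideal.smul_top_eq_map, Ideal.map_map, ← IsScalarTower.algebraMap_eq]
  have : Module.Finite P (B ⧸ (J • ⊤ : Submodule P B)) :=
    Module.Finite.equiv ((Submodule.quotEquivOfEq _ _ hJB).trans
      (Submodule.Quotient.restrictScalarsEquiv P JB)).symm
  exact GrothLib.AdicExtra.finite_of_quotient_finite (I := J) this

/-- An admissible domain whose generic fibre is a field is finite over the base. -/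
theorem finite_of_forall_dvd_pow [IsDomain B] (ht : t ≠ 0)
    (hB : AdicRing.TopFiniteType R (Ideal.span {t}) B)
    (hT : Function.Injective (algebraMap R B))
    (hfld : ∀ b : B, b ≠ 0 → ∃ l y, b * y = algebraMap R B t ^ l) : Module.Finite R B := by
  classical
  obtain ⟨s, Φ, hinj, hfin⟩ := exists_finite_injective_rpow ht hB hT
  have hI : (Ideal.span {t}).FG := Submodule.fg_span_singleton t
  let P := AdicRing.RPow R (Ideal.span {t}) s
  let _ : Algebra P B := Φ.toRingHom.toAlgebra
  have : IsScalarTower R P B := IsScalarTower.of_algebraMap_eq fun x => (Φ.commutes x).symm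
  have : Module.Finite P B := hfin
  rcases Nat.eq_zero_or_pos s with rfl | hs
  · -- `P` is a quotient of `R`
    have hsurj : Function.Surjective (algebraMap R P) := by
      have : IsAdicComplete ((Ideal.span {t}).map (algebraMap R R)) R := by
        rw [Algebra.algebraMap_self, Ideal.map_id]; infer_instance
      have hcP : IsAdicComplete ((Ideal.span {t}).map (algebraMap R P)) P :=
        isAdicComplete_rpow hI 0
      have hex := existsUnique_extension (R := R) (S := MvPolynomial (Fin 0) R) (B := R) hI
        (MvPolynomial.aeval fun i => i.elim0)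
      rw [MvPolynomial.algebraMap_eq] at hex
      obtain ⟨ψ, hψ, -⟩ := hex
      have hex' := existsUnique_extension (R := R) (S := MvPolynomial (Fin 0) R) (B := P) hI
        (IsScalarTower.toAlgHom R (MvPolynomial (Fin 0) R) P)
      rw [MvPolynomial.algebraMap_eq] at hex'
      intro x
      refine ⟨ψ x, ?_⟩
      have heq : (Algebra.ofId R P).comp ψ = AlgHom.id R P :=
        hex'.unique (fun p => by
          show algebraMap R P (ψ _) = _
          rw [hψ]
          exact congrArg (fun h => h p) (MvPolynomial.algHom_ext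
            (f := (Algebra.ofId R P).comp (MvPolynomial.aeval fun i => i.elim0))
            (g := IsScalarTower.toAlgHom R (MvPolynomial (Fin 0) R) P) fun i => i.elim0))
          (fun p => rfl)
      exact congrArg (fun h => h x) heq
    have : Module.Finite R P := Module.Finite.of_surjective (Algebra.linearMap R P) hsurj
    exact Module.Finite.trans P B
  exfalso
  have hV := isValBase (t := t) ht
  obtain ⟨ρ, hρ, hprim⟩ := exists_red (t := t) ht s
  let x : P := algebraMap (MvPolynomial (Fin s) R) P (MvPolynomial.X ⟨0, hs⟩)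
  have hρx : ρ x = MvPolynomial.X ⟨0, hs⟩ := by rw [hρ, MvPolynomial.map_X]
  have hx0 : x ≠ 0 := fun h => MvPolynomial.X_ne_zero (R := IsLocalRing.ResidueField R)
    (⟨0, hs⟩ : Fin s) (by rw [← hρx, h, map_zero])
  obtain ⟨l, y, hy⟩ := hfld (Φ x) (fun h => hx0 (hinj (h.trans (map_zero Φ).symm)))
  obtain ⟨q, hqm, hq⟩ := (inferInstance : Algebra.IsIntegral P B).isIntegral y
  -- clear denominators
  have hdvd : x ∣ algebraMap R P t ^ (l * q.natDegree) := by
    let D := q.natDegree
    refine ⟨-∑ i ∈ Finset.range D, q.coeff i * algebraMap R P t ^ (l * i) * x ^ (D - 1 - i), ?_⟩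
    apply hinj
    have h0 : Φ x ^ D * Polynomial.eval₂ (algebraMap P B) y q = 0 := by rw [hq, mul_zero]
    rw [Polynomial.eval₂_eq_sum_range, Finset.sum_range_succ, hqm.coeff_natDegree, map_one, one_mul,
      mul_add, ← mul_pow, hy, ← pow_mul, Finset.mul_sum] at h0
    rw [map_pow, map_mul, map_neg, map_sum, mul_neg, Finset.mul_sum]
    rw [AlgHom.commutes, eq_neg_iff_add_eq_zero, add_comm, ← h0]
    congr 1
    refine Finset.sum_congr rfl fun i hi => ?_
    have hi' := Finset.mem_range.1 hi
    rw [map_mul, map_mul, map_pow, map_pow, AlgHom.commutes, pow_mul, ← hy,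
      show Φ x ^ D = Φ x ^ i * (Φ x * Φ x ^ (D - 1 - i)) by
        rw [← pow_succ', ← pow_add]; congr 1; omega]
    show _ = _ * (Φ (q.coeff i) * y ^ i)
    ring
  obtain ⟨w, hw⟩ := hdvd
  set L := l * q.natDegree
  have hw0 : w ≠ 0 := fun h => by
    rw [h, mul_zero] at hw
    have := congrArg Φ hw
    rw [map_pow, AlgHom.commutes, map_zero, ← map_pow, map_eq_zero_iff _ hT] at this
    exact pow_ne_zero L ht this
  obtain ⟨γ, hγ, w', rfl, hw'⟩ := hprim w hw0
  have hne : ρ (x * w') ≠ 0 := by rw [map_mul, hρx]; exact mul_ne_zero (MvPolynomial.X_ne_zero _) hw'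
  have hb : Φ (x * w') * algebraMap R B γ = algebraMap R B (t ^ L) := by
    rw [map_pow, ← Φ.commutes t, ← map_pow, hw, map_mul, map_mul, map_smul, Algebra.smul_def]
    ring
  rcases ValuationRing.dvd_total γ (t ^ L) with ⟨d, hd⟩ | ⟨d, hd⟩
  · have h1 : x * w' = algebraMap R P d := hinj (by
      rw [hd, map_mul (algebraMap R B)] at hb
      rw [AlgHom.commutes]
      exact mul_right_cancel₀ ((map_ne_zero_iff _ hT).2 hγ) (hb.trans (mul_comm _ _)))
    by_cases hdu : IsUnit d
    · have h2 := congrArg (MvPolynomial.constantCoeff ∘ ρ) h1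
      simp only [Function.comp_apply, map_mul, hρx, MvPolynomial.constantCoeff_X, zero_mul,
        AlgHom.commutes] at h2
      have hu := ((hdu.map (algebraMap R P)).map ρ).map MvPolynomial.constantCoeff
      rw [← h2] at hu
      exact not_isUnit_zero hu
    · refine hne ?_
      rw [h1, AlgHom.commutes, IsScalarTower.algebraMap_apply R (IsLocalRing.ResidueField R)]
      rw [show algebraMap R (IsLocalRing.ResidueField R) d = 0 from
        (IsLocalRing.residue_eq_zero_iff d).2 hdu, map_zero]
  · have h1 : x * w' * algebraMap R P d = 1 := hinj (by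
      rw [map_mul Φ, AlgHom.commutes, map_one]
      refine mul_right_cancel₀ ((map_ne_zero_iff _ hT).2 (pow_ne_zero L ht)) ?_
      rw [one_mul, mul_assoc, ← map_mul (algebraMap R B), mul_comm d, ← hd]
      exact hb)
    have h2 := congrArg (MvPolynomial.constantCoeff ∘ ρ) h1
    simp [hρx] at h2

end GrothLib.RigidBase
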