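import Mathlib
import Groth.Agent.Lib.RigidBase.RigFinite
import Groth.Agent.Lib.Dim.Ring

/-!
# Rig-points of admissible algebras
-/

namespace GrothLib.RigidBase

universe u

variable {R : Type u} [CommRing R] [IsDomain R] [ValuationRing R] [Ring.KrullDimLE 1 R] {t : R}
  [IsAdicComplete (Ideal.span {t}) R] {B : Type u} [CommRing B] [Algebra R B]

theorem injective_of_noPowTorsion [Nontrivial B] (ht : t ≠ 0)
    (hB : AdicRing.NoPowTorsion (Ideal.span {t}) B) : Function.Injective (algebraMap R B) := by
  rw [injective_iff_map_eq_zero]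
  intro γ hγ
  by_contra hne
  obtain ⟨l, hl⟩ := (isValBase (t := t) ht).dvd_pow γ hne
  refine one_ne_zero (hB (1 : B) l fun a ha => ?_)
  rw [Ideal.span_singleton_pow, Ideal.mem_span_singleton] at ha
  obtain ⟨c, rfl⟩ := hl.trans ha
  rw [Algebra.smul_def, map_mul, hγ, zero_mul, zero_mul]

theorem smul_eq_zero_of_noPowTorsion (ht : t ≠ 0) {M : Type u} [AddCommGroup M] [Module R M]
    (hM : AdicRing.NoPowTorsion (Ideal.span {t}) M) {γ : R} (hγ : γ ≠ 0) {x : M} (hx : γ • x = 0) :
    x = 0 := by
  obtain ⟨l, hl⟩ := (isValBase (t := t) ht).dvd_pow γ hγ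
  refine hM x l fun a ha => ?_
  rw [Ideal.span_singleton_pow, Ideal.mem_span_singleton] at ha
  obtain ⟨c, rfl⟩ := hl.trans ha
  rw [mul_comm, mul_smul, hx, smul_zero]

theorem noPowTorsion_of_injective [IsDomain B] (ht : t ≠ 0)
    (h : Function.Injective (algebraMap R B)) : AdicRing.NoPowTorsion (Ideal.span {t}) B :=
  fun x n hx => by
    have := hx (t ^ n) (Ideal.pow_mem_pow (Ideal.mem_span_singleton_self t) n)
    rw [Algebra.smul_def, mul_eq_zero] at this
    exact this.resolve_left ((map_ne_zero_iff _ h).2 (pow_ne_zero n ht))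

theorem ringKrullDim_val (ht : t ≠ 0) : ringKrullDim R = 1 := by
  refine le_antisymm (Ring.krullDimLE_iff.1 inferInstance) ?_
  have hne : IsLocalRing.maximalIdeal R ≠ ⊥ := fun h => ht (by
    have : t ∈ IsLocalRing.maximalIdeal R := (isValBase (t := t) ht).not_isUnit
    simpa [h] using this)
  let l : LTSeries (PrimeSpectrum R) :=
    (RelSeries.singleton _ ⟨⊥, Ideal.isPrime_bot⟩).snoc ⟨IsLocalRing.maximalIdeal R, inferInstance⟩
      (by show (⊥ : Ideal R) < IsLocalRing.maximalIdeal R; exact bot_lt_iff_ne_bot.2 hne)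
  exact le_iSup_of_le l (by simp [l])

theorem finite_of_ringKrullDim_le_one [IsDomain B] (ht : t ≠ 0)
    (hB : AdicRing.TopFiniteType R (Ideal.span {t}) B) (hT : Function.Injective (algebraMap R B))
    (hdim : ringKrullDim B ≤ 1) : Module.Finite R B := by
  have : Ring.KrullDimLE 1 B := Ring.krullDimLE_iff.2 hdim
  refine finite_of_forall_dvd_pow ht hB hT fun b hb => ?_
  have hmem : algebraMap R B t ∈ (Ideal.span {b}).radical := by
    rw [Ideal.radical_eq_sInf, Submodule.mem_sInf]
    rintro p ⟨hp, hpr⟩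
    have hpbot : p ≠ ⊥ := fun h => hb (by simpa [h] using hp (Ideal.mem_span_singleton_self b))
    have hmax := Ring.krullDimLE_one_iff_of_isPrime_bot.1 ‹Ring.KrullDimLE 1 B› p hpbot hpr
    exact ((map_le_jacobson (isBase_val ht) hB).trans (sInf_le ⟨bot_le, hmax⟩))
      (Ideal.mem_map_of_mem _ (Ideal.mem_span_singleton_self t))
  obtain ⟨l, hl⟩ := hmem
  obtain ⟨y, hy⟩ := Ideal.mem_span_singleton.1 hl
  exact ⟨l, y, hy.symm⟩

theorem ringKrullDim_of_finite (ht : t ≠ 0) [Module.Finite R B]
    (hT : Function.Injective (algebraMap R B)) : ringKrullDim B = 1 := by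
  rw [GrothLib.Dim.ringKrullDim_eq_of_isIntegral hT, ringKrullDim_val ht]

theorem admissible_of_finite [IsDomain B] (ht : t ≠ 0) [Module.Finite R B]
    (hT : Function.Injective (algebraMap R B)) : AdicRing.Admissible R (Ideal.span {t}) B :=
  ⟨topFinitePresentation_of_noPowTorsion (isBase_val ht)
      (topFiniteType_of_finite (isBase_val ht)
        (topFiniteType_self (Submodule.fg_span_singleton t)) B)
      (noPowTorsion_of_injective ht hT),
    noPowTorsion_of_injective ht hT⟩

/-- The integral closure of the base in an algebraic extension is totally ordered by divisibility. -/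
theorem valuationRing_integralClosure [IsDomain B] (ht : t ≠ 0) [Module.Finite R B]
    (hT : Function.Injective (algebraMap R B)) :
    ValuationRing (integralClosure B (FractionRing B)) := by
  have : FaithfulSMul R (FractionRing B) := by
    rw [faithfulSMul_iff_algebraMap_injective, IsScalarTower.algebraMap_eq R B (FractionRing B)]
    exact (IsFractionRing.injective B (FractionRing B)).comp hT
  let _ := FractionRing.liftAlgebra R (FractionRing B)
  have : Algebra.IsAlgebraic (FractionRing R) (FractionRing B) := ⟨fun x => by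
    obtain ⟨a, s, hs, rfl⟩ := IsFractionRing.div_surjective (A := B) x
    have hi : ∀ b : B, IsAlgebraic (FractionRing R) (algebraMap B (FractionRing B) b) := fun b =>
      (((Algebra.IsIntegral.isIntegral (R := R) b).algebraMap (B := FractionRing B)).tower_top
        (A := FractionRing R)).isAlgebraic
    rw [div_eq_mul_inv]
    exact (hi a).mul (hi s).inv⟩
  refine ValuationRing.iff_dvd_total.2 ⟨fun a b => ?_⟩
  by_cases hb : b = 0
  · exact Or.inl (hb ▸ dvd_zero a)
  by_cases ha : a = 0
  · exact Or.inr (ha ▸ dvd_zero b)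
  have ha' : (a : FractionRing B) ≠ 0 := fun h => ha (Subtype.ext h)
  have hb' : (b : FractionRing B) ≠ 0 := fun h => hb (Subtype.ext h)
  rcases isIntegral_or_isIntegral_inv (FractionRing B) ht ((b : FractionRing B) / a) with h | h
  · exact Or.inl ⟨⟨_, h.tower_top⟩, Subtype.ext (mul_div_cancel₀ _ ha').symm⟩
  · rw [inv_div] at h
    exact Or.inr ⟨⟨_, h.tower_top⟩, Subtype.ext (mul_div_cancel₀ _ hb').symm⟩

theorem surjective_comp_cLoc (ht : t ≠ 0) {A : Type u} [CommRing A] [Algebra R A] (f : A)
    [Nontrivial B] [Module.Finite R B] (u : AdicRing.CLoc (Ideal.span {t}) f →ₐ[R] B)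
    (hu : Function.Surjective u) :
    Function.Surjective (u.toRingHom.comp (algebraMap A (AdicRing.CLoc (Ideal.span {t}) f))) := by
  let S := Localization.Away f
  let v : A →ₐ[R] B := u.comp (IsScalarTower.toAlgHom R A (AdicRing.CLoc (Ideal.span {t}) f))
  let B0 : Subalgebra R B := v.range
  have hunit : IsUnit (v f) := by
    show IsUnit (u (algebraMap A _ f))
    rw [IsScalarTower.algebraMap_apply A S]
    exact ((IsLocalization.Away.algebraMap_isUnit f).map _).map u
  have hinv : ∃ b ∈ B0, v f * b = 1 := by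
    obtain ⟨w, hw⟩ := hunit.exists_right_inv
    obtain ⟨q, hqm, hq⟩ := (Algebra.IsIntegral.isIntegral (R := R) w)
    refine ⟨-∑ i ∈ Finset.range q.natDegree,
      algebraMap R B (q.coeff i) * v f ^ (q.natDegree - 1 - i),
      neg_mem (sum_mem fun i _ => mul_mem (B0.algebraMap_mem _) (pow_mem (show v f ∈ B0 from ⟨f, rfl⟩) _)), ?_⟩
    have h0 : v f ^ q.natDegree * Polynomial.eval₂ (algebraMap R B) w q = 0 := by rw [hq, mul_zero]
    rw [Polynomial.eval₂_eq_sum_range, Finset.sum_range_succ, hqm.coeff_natDegree, map_one, one_mul,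
      mul_add, ← mul_pow, hw, one_pow, Finset.mul_sum] at h0
    rw [mul_neg, Finset.mul_sum, neg_eq_iff_add_eq_zero, ← h0]
    congr 1
    refine Finset.sum_congr rfl fun i hi => ?_
    have hi' := Finset.mem_range.1 hi
    have e1 : v f ^ q.natDegree = v f ^ i * (v f * v f ^ (q.natDegree - 1 - i)) := by
      rw [← pow_succ', ← pow_add]; congr 1; omega
    have e2 : v f ^ i * w ^ i = 1 := by rw [← mul_pow, hw, one_pow]
    rw [e1]
    linear_combination (-(v f * algebraMap R B (q.coeff i) * v f ^ (q.natDegree - 1 - i))) * e2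
  have hS : ∀ s : S, u (algebraMap S _ s) ∈ B0 := by
    intro s
    obtain ⟨⟨a, ⟨_, m, rfl⟩⟩, rfl⟩ := IsLocalization.mk'_surjective (Submonoid.powers f) s
    obtain ⟨b, hb, hfb⟩ := hinv
    have key : u (algebraMap S _ (IsLocalization.mk' S a
        (⟨f ^ m, m, rfl⟩ : Submonoid.powers f))) * v f ^ m = v a := by
      show _ * u (algebraMap A _ f) ^ m = u (algebraMap A _ a)
      rw [IsScalarTower.algebraMap_apply A S (AdicRing.CLoc _ f), ← map_pow, ← map_pow, ← map_mul,
        ← map_mul, ← map_pow, IsLocalization.mk'_spec, ← IsScalarTower.algebraMap_apply]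
    have : u (algebraMap S _ (IsLocalization.mk' S a
        (⟨f ^ m, m, rfl⟩ : Submonoid.powers f))) = v a * b ^ m := by
      rw [← key, mul_assoc, ← mul_pow, hfb, one_pow, mul_one]
    rw [this]
    exact mul_mem ⟨a, rfl⟩ (pow_mem hb m)
  have htop : (⊤ : Submodule R B) ≤ Subalgebra.toSubmodule B0 := by
    refine Submodule.le_of_le_smul_of_le_jacobson_bot Module.Finite.fg_top
      (IsAdicComplete.le_jacobson_bot (Ideal.span {t})) ?_
    intro b _
    obtain ⟨x, rfl⟩ := hu b
    obtain ⟨s, hs⟩ := exists_sub_mem_pow_map (R := R) (S := S) (Submodule.fg_span_singleton t) 1 x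
    have h1 := Ideal.mem_map_of_mem (u : AdicRing.CLoc (Ideal.span {t}) f →+* B) hs
    rw [Ideal.map_map, AlgHom.comp_algebraMap, pow_one] at h1
    refine Submodule.mem_sup.2 ⟨_, hS s, _, ?_, add_sub_cancel _ _⟩
    rw [Ideal.smul_top_eq_map, Submodule.restrictScalars_mem]
    simpa using h1
  intro b
  obtain ⟨a, ha⟩ : b ∈ B0 := htop trivial
  exact ⟨a, ha⟩

theorem range_rigPoint (ht : t ≠ 0) {A : Type u} [CommRing A] [Algebra R A]
    (hA : AdicRing.TopFiniteType R (Ideal.span {t}) A) [IsDomain B] [IsLocalRing B]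
    [Module.Finite R B] (hT : Function.Injective (algebraMap R B)) (v : A →ₐ[R] B) :
    AdicRing.Admissible R (Ideal.span {t}) v.range ∧ IsLocalRing v.range ∧
      ringKrullDim v.range = 1 := by
  classical
  have hR := isBase_val (t := t) ht
  obtain ⟨n, φ, hφ⟩ := hA
  have hI : (Ideal.span {t}).FG := Submodule.fg_span_singleton t
  have hTr : Function.Injective (algebraMap R v.range) := fun a b h =>
    hT (congrArg Subtype.val h)
  have htft : AdicRing.TopFiniteType R (Ideal.span {t}) v.range :=
    ⟨n, v.rangeRestrict.comp φ, v.rangeRestrict_surjective.comp hφ⟩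
  -- finiteness: the polynomial part is finite and closed
  let w : MvPolynomial (Fin n) R →ₐ[R] B :=
    (v.comp φ).comp (IsScalarTower.toAlgHom R (MvPolynomial (Fin n) R) _)
  have hw : (Subalgebra.toSubmodule w.range).FG := by
    rw [show w.range = Algebra.adjoin R (Set.range fun i => w (MvPolynomial.X i)) by
      rw [← Algebra.map_top, ← MvPolynomial.adjoin_range_X, AlgHom.map_adjoin, ← Set.range_comp]
      rfl]
    exact fg_adjoin_of_finite (Set.finite_range _)
      (fun x _ => Algebra.IsIntegral.isIntegral x)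
  have hle : Subalgebra.toSubmodule v.range ≤ Subalgebra.toSubmodule w.range := by
    rintro _ ⟨a, rfl⟩
    obtain ⟨x, rfl⟩ := hφ a
    let N := Subalgebra.toSubmodule w.range
    have hh : IsHausdorff (Ideal.span {t}) (B ⧸ N) :=
      (isAdicComplete_of_finite_base hR).toIsHausdorff
    rw [← Submodule.Quotient.mk_eq_zero]
    refine IsHausdorff.haus hh _ fun k => SModEq.zero.2 ?_
    obtain ⟨p, hp⟩ := exists_sub_mem_rpow (I := Ideal.span {t}) hI n k x
    have h1 := Ideal.mem_map_of_mem
      (v.comp φ : AdicRing.RPow R (Ideal.span {t}) n →+* B) hp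
    rw [Ideal.map_map, AlgHom.comp_algebraMap] at h1
    have h2 : v (φ x) - w p ∈ (Ideal.span {t}) ^ k • (⊤ : Submodule R B) := by
      rw [Ideal.smul_top_eq_map, Submodule.restrictScalars_mem]
      simpa [w] using h1
    have h3 := Submodule.mem_map_of_mem (f := N.mkQ) h2
    rw [Submodule.map_smul'', Submodule.mkQ_apply, Submodule.Quotient.mk_sub,
      (Submodule.Quotient.mk_eq_zero N).2 (show w p ∈ N from ⟨p, rfl⟩), sub_zero] at h3
    exact Submodule.smul_mono le_rfl le_top h3
  have hle' : Subalgebra.toSubmodule w.range ≤ Subalgebra.toSubmodule v.range := by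
    rintro _ ⟨p, rfl⟩
    exact ⟨_, rfl⟩
  have : Module.Finite R v.range :=
    (Module.Finite.iff_fg.2 ((le_antisymm hle hle').symm ▸ hw) :
      Module.Finite R (Subalgebra.toSubmodule v.range))
  refine ⟨admissible_of_finite ht hTr, ?_, ringKrullDim_of_finite ht hTr⟩
  have : Algebra.IsIntegral v.range B := Algebra.IsIntegral.tower_top R
  refine IsLocalRing.of_unique_max_ideal ⟨(IsLocalRing.maximalIdeal B).comap (algebraMap v.range B),
    Ideal.isMaximal_comap_of_isIntegral_of_isMaximal _, fun P hP => ?_⟩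
  obtain ⟨Q, hQ, hQc⟩ := Ideal.exists_ideal_over_maximal_of_isIntegral (S := B) P (by
    rw [(RingHom.injective_iff_ker_eq_bot _).1 (FaithfulSMul.algebraMap_injective v.range B)]
    exact bot_le)
  rw [← hQc, IsLocalRing.eq_maximalIdeal hQ]

end GrothLib.RigidBase
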