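import Mathlib
import Groth.Agent.Lib.RigidBase.RigPoint

/-!
# Generic fibres of admissible algebras
-/

open TensorProduct

namespace GrothLib.RigidBase

universe u

variable {R : Type u} [CommRing R] [IsDomain R] [ValuationRing R] [Ring.KrullDimLE 1 R] {t : R}
  [IsAdicComplete (Ideal.span {t}) R]

theorem isLocalization_away_fractionRing (ht : t ≠ 0) :
    IsLocalization.Away t (FractionRing R) where
  map_units := by
    rintro ⟨_, l, rfl⟩
    exact IsUnit.mk0 _ ((map_ne_zero_iff _ (IsFractionRing.injective R (FractionRing R))).2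
      (pow_ne_zero l ht))
  surj := fun z => by
    obtain ⟨a, b, hb, rfl⟩ := IsFractionRing.div_surjective (A := R) z
    obtain ⟨l, e, he⟩ := (isValBase (t := t) ht).dvd_pow b (nonZeroDivisors.ne_zero hb)
    refine ⟨(a * e, ⟨_, l, rfl⟩), ?_⟩
    simp only [he, map_mul]
    rw [← mul_assoc, div_mul_cancel₀ _
      (IsFractionRing.to_map_ne_zero_of_mem_nonZeroDivisors hb)]
  exists_of_eq := fun {x y} h => ⟨1, by rw [IsFractionRing.injective R (FractionRing R) h]⟩

theorem isLocalization_tensor (ht : t ≠ 0) (A : Type u) [CommRing A] [Algebra R A] :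
    IsLocalization.Away (algebraMap R A t) (A ⊗[R] FractionRing R) := by
  have := isLocalization_away_fractionRing (t := t) ht
  infer_instance

theorem injective_tensor (ht : t ≠ 0) {A : Type u} [CommRing A] [Algebra R A]
    (hA : AdicRing.NoPowTorsion (Ideal.span {t}) A) :
    Function.Injective (algebraMap A (A ⊗[R] FractionRing R)) := by
  have := isLocalization_tensor (t := t) ht A
  rw [injective_iff_map_eq_zero]
  intro a ha
  obtain ⟨⟨_, l, rfl⟩, hl⟩ :=
    (IsLocalization.map_eq_zero_iff (Submonoid.powers (algebraMap R A t)) _ _).1 ha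
  refine smul_eq_zero_of_noPowTorsion ht hA (pow_ne_zero l ht) ?_
  rw [Algebra.smul_def, map_pow]
  exact hl

theorem noPowTorsion_tensor (ht : t ≠ 0) (A : Type u) [CommRing A] [Algebra R A]
    (A' : Subalgebra A (A ⊗[R] FractionRing R)) : AdicRing.NoPowTorsion (Ideal.span {t}) A' := by
  intro x n hx
  have h := hx (t ^ n) (Ideal.pow_mem_pow (Ideal.mem_span_singleton_self t) n)
  have hu : IsUnit (algebraMap R (A ⊗[R] FractionRing R) (t ^ n)) := by
    have := isLocalization_tensor (t := t) ht A
    rw [map_pow, IsScalarTower.algebraMap_apply R A]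
    exact (IsLocalization.Away.algebraMap_isUnit (algebraMap R A t)).pow n
  refine Subtype.ext (hu.mul_right_eq_zero.1 ?_)
  have := congrArg Subtype.val h
  rw [Algebra.smul_def] at this
  exact this

theorem admissible_adjoin (ht : t ≠ 0) {A : Type u} [CommRing A] [Algebra R A]
    (hA : AdicRing.TopFiniteType R (Ideal.span {t}) A) {n : ℕ}
    (f : Fin n → A ⊗[R] FractionRing R) (hf : ∀ i, IsIntegral A (f i)) :
    AdicRing.Admissible R (Ideal.span {t}) ↥(Algebra.adjoin A (Set.range f)) ∧
      Module.Finite A ↥(Algebra.adjoin A (Set.range f)) := by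
  have hfin : Module.Finite A ↥(Algebra.adjoin A (Set.range f)) :=
    Module.Finite.iff_fg.2 (fg_adjoin_of_finite (Set.finite_range f)
      (by rintro _ ⟨i, rfl⟩; exact hf i))
  have hT := noPowTorsion_tensor (t := t) ht A (Algebra.adjoin A (Set.range f))
  exact ⟨⟨topFinitePresentation_of_noPowTorsion (isBase_val ht)
    (topFiniteType_of_finite (isBase_val ht) hA _) hT, hT⟩, hfin⟩

theorem isMaximal_map_tensor (ht : t ≠ 0) {A : Type u} [CommRing A] [Algebra R A]
    (hA : AdicRing.TopFiniteType R (Ideal.span {t}) A) (p : Ideal A) [p.IsPrime]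
    (htp : algebraMap R A t ∉ p) (hdim : ringKrullDim (A ⧸ p) = 1) :
    (p.map (algebraMap A (A ⊗[R] FractionRing R))).IsMaximal ∧
      (p.map (algebraMap A (A ⊗[R] FractionRing R))).comap
        (algebraMap A (A ⊗[R] FractionRing R)) = p := by
  have := isLocalization_tensor (t := t) ht A
  let M := Submonoid.powers (algebraMap R A t)
  have hdisj : Disjoint (M : Set A) p :=
    (Ideal.disjoint_powers_iff_notMem _ (Ideal.IsPrime.isRadical ‹p.IsPrime›)).2 htp
  have hpL := IsLocalization.isPrime_of_isPrime_disjoint M (A ⊗[R] FractionRing R) p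
    ‹p.IsPrime› hdisj
  have hcomap := IsLocalization.comap_map_of_isPrime_disjoint M (A ⊗[R] FractionRing R)
    (I := p) ‹p.IsPrime› hdisj
  refine ⟨?_, hcomap⟩
  obtain ⟨n, φ, hφ⟩ := hA
  have hB : AdicRing.TopFiniteType R (Ideal.span {t}) (A ⧸ p) :=
    ⟨n, (Ideal.Quotient.mkₐ R p).comp φ, Ideal.Quotient.mk_surjective.comp hφ⟩
  have hT : Function.Injective (algebraMap R (A ⧸ p)) := by
    rw [injective_iff_map_eq_zero]
    intro γ hγ
    by_contra hne
    obtain ⟨l, e, he⟩ := (isValBase (t := t) ht).dvd_pow γ hne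
    refine htp (Ideal.IsPrime.mem_of_pow_mem ‹p.IsPrime› l ?_)
    rw [← map_pow, he, map_mul]
    exact Ideal.mul_mem_right _ _ (Ideal.Quotient.eq_zero_iff_mem.1 hγ)
  have := finite_of_ringKrullDim_le_one ht hB hT hdim.le
  obtain ⟨q, hqmax, hle⟩ := Ideal.exists_le_maximal _ hpL.ne_top
  suffices q.comap (algebraMap A (A ⊗[R] FractionRing R)) = p by
    have h2 : q = p.map (algebraMap A (A ⊗[R] FractionRing R)) := by
      rw [← this, IsLocalization.map_comap M]
    rwa [← h2]
  have hpq : p ≤ q.comap (algebraMap A (A ⊗[R] FractionRing R)) := by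
    rw [← Ideal.map_le_iff_le_comap]; exact hle
  have htq : algebraMap R A t ∉ q.comap (algebraMap A (A ⊗[R] FractionRing R)) := fun h =>
    hqmax.ne_top (Ideal.eq_top_of_isUnit_mem _ h
      (IsLocalization.Away.algebraMap_isUnit (algebraMap R A t)))
  let qb := (q.comap (algebraMap A (A ⊗[R] FractionRing R))).map (Ideal.Quotient.mk p)
  have hqb : qb.IsPrime := Ideal.map_isPrime_of_surjective Ideal.Quotient.mk_surjective
    (by rwa [Ideal.mk_ker])
  have hcom : qb.comap (Ideal.Quotient.mk p) = q.comap (algebraMap A (A ⊗[R] FractionRing R)) := by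
    rw [Ideal.comap_map_of_surjective' _ Ideal.Quotient.mk_surjective, Ideal.mk_ker, sup_eq_left]
    exact hpq
  have hbot : qb.comap (algebraMap R (A ⧸ p)) = ⊥ := by
    rw [eq_bot_iff]
    intro γ hγ
    rw [Ideal.mem_bot]
    by_contra hne
    obtain ⟨l, e, he⟩ := (isValBase (t := t) ht).dvd_pow γ hne
    refine htq (Ideal.IsPrime.mem_of_pow_mem inferInstance l ?_)
    rw [← map_pow, he, map_mul]
    refine Ideal.mul_mem_right _ _ ?_
    rw [← hcom]
    exact hγ
  have := Ideal.eq_bot_of_comap_eq_bot hbot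
  rw [← hcom, this, ← RingHom.ker_eq_comap_bot, Ideal.mk_ker]

theorem comap_isMaximal_tensor (ht : t ≠ 0) {A : Type u} [CommRing A] [Algebra R A]
    (hA : AdicRing.TopFiniteType R (Ideal.span {t}) A) (m : Ideal (A ⊗[R] FractionRing R))
    [hm : m.IsMaximal] :
    algebraMap R A t ∉ m.comap (algebraMap A (A ⊗[R] FractionRing R)) ∧
      ringKrullDim (A ⧸ m.comap (algebraMap A (A ⊗[R] FractionRing R))) = 1 ∧
      (m.comap (algebraMap A (A ⊗[R] FractionRing R))).map
        (algebraMap A (A ⊗[R] FractionRing R)) = m := by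
  have := isLocalization_tensor (t := t) ht A
  let M := Submonoid.powers (algebraMap R A t)
  set p := m.comap (algebraMap A (A ⊗[R] FractionRing R)) with hp
  have htp : algebraMap R A t ∉ p := fun h =>
    hm.ne_top (Ideal.eq_top_of_isUnit_mem _ h
      (IsLocalization.Away.algebraMap_isUnit (algebraMap R A t)))
  refine ⟨htp, ?_, IsLocalization.map_comap M _ m⟩
  obtain ⟨n, φ, hφ⟩ := hA
  have hB : AdicRing.TopFiniteType R (Ideal.span {t}) (A ⧸ p) :=
    ⟨n, (Ideal.Quotient.mkₐ R p).comp φ, Ideal.Quotient.mk_surjective.comp hφ⟩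
  have hT : Function.Injective (algebraMap R (A ⧸ p)) := by
    rw [injective_iff_map_eq_zero]
    intro γ hγ
    by_contra hne
    obtain ⟨l, e, he⟩ := (isValBase (t := t) ht).dvd_pow γ hne
    refine htp (Ideal.IsPrime.mem_of_pow_mem inferInstance l ?_)
    rw [← map_pow, he, map_mul]
    exact Ideal.mul_mem_right _ _ (Ideal.Quotient.eq_zero_iff_mem.1 hγ)
  have : Module.Finite R (A ⧸ p) := by
    refine finite_of_forall_dvd_pow ht hB hT fun b hb => ?_
    obtain ⟨a, rfl⟩ := Ideal.Quotient.mk_surjective b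
    have ha : algebraMap A (A ⊗[R] FractionRing R) a ∉ m := fun h =>
      hb (Ideal.Quotient.eq_zero_iff_mem.2 h)
    obtain ⟨y, hy⟩ := hm.exists_inv ha
    obtain ⟨z, hz, hyz⟩ := hy
    obtain ⟨⟨c, ⟨_, l, rfl⟩⟩, hc⟩ := IsLocalization.surj M y
    refine ⟨l, Ideal.Quotient.mk p c, ?_⟩
    rw [IsScalarTower.algebraMap_apply R A (A ⧸ p), Ideal.Quotient.algebraMap_eq, ← map_mul,
      ← map_pow, Ideal.Quotient.eq, hp, Ideal.mem_comap, map_sub, map_mul]
    simp only at hc
    rw [← hc]
    have : algebraMap A (A ⊗[R] FractionRing R) a *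
        (y * algebraMap A _ (algebraMap R A t ^ l)) - algebraMap A _ (algebraMap R A t ^ l) =
        -(z * algebraMap A _ (algebraMap R A t ^ l)) := by
      linear_combination (algebraMap A (A ⊗[R] FractionRing R) (algebraMap R A t ^ l)) * hyz
    rw [this]
    exact neg_mem (Ideal.mul_mem_right _ _ hz)
  exact ringKrullDim_of_finite ht hT

theorem existsUnique_extension_adjoin (ht : t ≠ 0) {A : Type u} [CommRing A] [Algebra R A]
    (hA : AdicRing.NoPowTorsion (Ideal.span {t}) A) {n : ℕ}
    (f : Fin n → A ⊗[R] FractionRing R) (hf : ∀ i, IsIntegral A (f i))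
    (c : R) (hc : c ≠ 0) (g : Fin n → A)
    (hg : ∀ i, algebraMap A (A ⊗[R] FractionRing R) (g i) = c • f i)
    {D : Type u} [CommRing D] [Algebra R D] (hD : AdicRing.NoPowTorsion (Ideal.span {t}) D)
    (φ : A →ₐ[R] D)
    (hgen : (Ideal.span (insert (algebraMap R A c) (Set.range g))).map φ =
          Ideal.span {algebraMap R D c} ∨
      ∃ i, (Ideal.span (insert (algebraMap R A c) (Set.range g))).map φ = Ideal.span {φ (g i)}) :
    (Ideal.span (insert (algebraMap R A c) (Set.range g))).map φ = Ideal.span {algebraMap R D c} ∧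
      ∃! ψ : ↥(Algebra.adjoin A (Set.range f)) →ₐ[R] D,
        ψ.comp (IsScalarTower.toAlgHom R A ↥(Algebra.adjoin A (Set.range f))) = φ := by
  classical
  have hsmul : ∀ (γ : R) (x : A ⊗[R] FractionRing R),
      γ • x = algebraMap R (A ⊗[R] FractionRing R) γ * x := fun γ x => by
    rw [← algebraMap_smul (A ⊗[R] FractionRing R), smul_eq_mul]
  have hsmulD : ∀ (γ : R) (x : D ⊗[R] FractionRing R),
      γ • x = algebraMap R (D ⊗[R] FractionRing R) γ * x := fun γ x => by
    rw [← algebraMap_smul (D ⊗[R] FractionRing R), smul_eq_mul]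
  have hreg : ∀ d : D, algebraMap R D c * d = 0 → d = 0 := fun d hd =>
    smul_eq_zero_of_noPowTorsion ht hD hc (by rwa [Algebra.smul_def])
  have hspan : (Ideal.span (insert (algebraMap R A c) (Set.range g))).map φ =
      Ideal.span {algebraMap R D c} := by
    rcases hgen with h | ⟨i, hi⟩
    · exact h
    have hcmem : algebraMap R D c ∈ Ideal.span {φ (g i)} := by
      rw [← hi, ← φ.commutes c]
      exact Ideal.mem_map_of_mem φ (Ideal.subset_span (Set.mem_insert _ _))
    obtain ⟨d, hd⟩ := Ideal.mem_span_singleton.1 hcmem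
    obtain ⟨q, hqm, hq⟩ := hf i
    let N := q.natDegree
    -- homogenised integral equation
    have heq : g i ^ N + ∑ j ∈ Finset.range N,
        q.coeff j * algebraMap R A c ^ (N - j) * g i ^ j = 0 := by
      apply injective_tensor ht hA
      have h0 : algebraMap R (A ⊗[R] FractionRing R) c ^ N *
          Polynomial.eval₂ (algebraMap A (A ⊗[R] FractionRing R)) (f i) q = 0 := by
        rw [hq, mul_zero]
      rw [Polynomial.eval₂_eq_sum_range, Finset.sum_range_succ, hqm.coeff_natDegree, map_one,
        one_mul, mul_add, Finset.mul_sum] at h0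
      rw [map_zero, map_add, map_sum, map_pow, hg, hsmul, mul_pow, add_comm]
      rw [← h0]
      congr 1
      refine Finset.sum_congr rfl fun j hj => ?_
      have hj' := Finset.mem_range.1 hj
      rw [map_mul, map_mul, map_pow, map_pow, hg, hsmul, mul_pow,
        ← IsScalarTower.algebraMap_apply,
        show algebraMap R (A ⊗[R] FractionRing R) c ^ N =
          algebraMap R (A ⊗[R] FractionRing R) c ^ (N - j) *
            algebraMap R (A ⊗[R] FractionRing R) c ^ j by
          rw [← pow_add]; congr 1; omega]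
      ring
    have h1 := congrArg φ heq
    simp only [map_add, map_pow, map_sum, map_mul, AlgHom.commutes, map_zero, hd] at h1
    have h2 : φ (g i) ^ N * (1 + d * ∑ j ∈ Finset.range N, φ (q.coeff j) * d ^ (N - j - 1)) = 0 := by
      rw [mul_add, mul_one, Finset.mul_sum, Finset.mul_sum, ← h1]
      congr 1
      refine Finset.sum_congr rfl fun j hj => ?_
      have hj' := Finset.mem_range.1 hj
      obtain ⟨k, hk⟩ : ∃ k, N - j = k + 1 := ⟨N - j - 1, by omega⟩
      have hN : N = (k + 1) + j := by omega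
      rw [show N - j - 1 = k by omega, hk]
      conv_lhs => rw [hN]
      ring
    have hGreg : ∀ x, φ (g i) * x = 0 → x = 0 := fun x hx => by
      refine hreg x ?_
      rw [hd, mul_right_comm, hx, zero_mul]
    have hGN : ∀ (k : ℕ) (x : D), φ (g i) ^ k * x = 0 → x = 0 := by
      intro k
      induction k with
      | zero => intro x hx; simpa using hx
      | succ k ih =>
        intro x hx
        rw [pow_succ, mul_assoc] at hx
        exact hGreg x (ih _ hx)
    have hdu : IsUnit d := by
      refine IsUnit.of_mul_eq_one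
        (-∑ j ∈ Finset.range N, φ (q.coeff j) * d ^ (N - j - 1)) ?_
      linear_combination (-1 : D) * hGN N _ h2
    rw [hi, hd, Ideal.span_singleton_mul_right_unit hdu]
  refine ⟨hspan, ?_⟩
  have he : ∀ i, ∃ e, φ (g i) = algebraMap R D c * e := fun i =>
    Ideal.mem_span_singleton.1 (hspan ▸
      Ideal.mem_map_of_mem φ (Ideal.subset_span (Set.mem_insert_of_mem _ ⟨i, rfl⟩)))
  choose e he using he
  let φK : A ⊗[R] FractionRing R →ₐ[R] D ⊗[R] FractionRing R :=
    Algebra.TensorProduct.map φ (AlgHom.id R _)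
  have hφK : ∀ a, φK (algebraMap A _ a) = algebraMap D (D ⊗[R] FractionRing R) (φ a) := fun a => by
    simp [φK, Algebra.TensorProduct.algebraMap_apply]
  have hfe : ∀ i, φK (f i) = algebraMap D (D ⊗[R] FractionRing R) (e i) := by
    intro i
    have h1 := congrArg φK (hg i)
    rw [hφK, map_smul, he, map_mul, ← IsScalarTower.algebraMap_apply, ← hsmulD] at h1
    have hu : IsUnit (algebraMap R (D ⊗[R] FractionRing R) c) := by
      obtain ⟨l, d, hd⟩ := (isValBase (t := t) ht).dvd_pow c hc
      refine isUnit_of_mul_isUnit_left (y := algebraMap R _ d) ?_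
      have := isLocalization_tensor (t := t) ht D
      rw [← map_mul, ← hd, map_pow, IsScalarTower.algebraMap_apply R D]
      exact (IsLocalization.Away.algebraMap_isUnit (algebraMap R D t)).pow l
    rw [hsmulD, hsmulD] at h1
    exact (hu.mul_left_cancel h1).symm
  let ι : D →ₐ[R] D ⊗[R] FractionRing R := IsScalarTower.toAlgHom R D _
  have hι : Function.Injective ι := injective_tensor ht hD
  let Al := Algebra.adjoin A (Set.range f)
  have hmem : ∀ x : Al, φK x.1 ∈ ι.range := by
    rintro ⟨x, hx⟩
    induction hx using Algebra.adjoin_induction with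
    | mem y hy =>
      obtain ⟨i, rfl⟩ := hy
      exact ⟨e i, (hfe i).symm⟩
    | algebraMap a => exact ⟨φ a, (hφK a).symm⟩
    | add y z _ _ hy hz => rw [map_add]; exact add_mem hy hz
    | mul y z _ _ hy hz => rw [map_mul]; exact mul_mem hy hz
  let ψ : Al →ₐ[R] D := (AlgEquiv.ofInjective ι hι).symm.toAlgHom.comp
    ((φK.comp (Al.val.restrictScalars R)).codRestrict ι.range hmem)
  have hψ : ∀ x : Al, ι (ψ x) = φK x.1 := fun x =>
    congrArg Subtype.val ((AlgEquiv.ofInjective ι hι).apply_symm_apply ⟨φK x.1, hmem x⟩)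
  refine ⟨ψ, AlgHom.ext fun a => hι ((hψ _).trans (hφK a)), fun χ hχ => AlgHom.ext fun x => ?_⟩
  have hχa : ∀ a, χ (algebraMap A Al a) = φ a := fun a => congrArg (fun h => h a) hχ
  apply hι
  rw [hψ]
  obtain ⟨y, hy⟩ := x
  induction hy using Algebra.adjoin_induction with
  | mem y hy =>
    obtain ⟨i, rfl⟩ := hy
    show _ = φK (f i)
    rw [hfe]
    show ι _ = ι _
    congr 1
    apply sub_eq_zero.1
    apply hreg
    rw [mul_sub, ← he, ← Algebra.smul_def, ← map_smul, ← hχa, sub_eq_zero]
    congr 1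
    exact Subtype.ext (hg i).symm
  | algebraMap a =>
    show ι (χ (algebraMap A Al a)) = φK _
    rw [hχa, hφK]
    rfl
  | add y z hy hz ihy ihz =>
    show ι (χ (⟨y, hy⟩ + ⟨z, hz⟩ : Al)) = φK (y + z)
    rw [map_add, map_add, map_add, ihy, ihz]
  | mul y z hy hz ihy ihz =>
    show ι (χ (⟨y, hy⟩ * ⟨z, hz⟩ : Al)) = φK (y * z)
    rw [map_mul, map_mul, map_mul, ihy, ihz]

theorem exists_prime_rPow (ht : t ≠ 0) (n : ℕ) (m : Ideal (AdicRing.RPow R (Ideal.span {t}) n))
    [hm : m.IsMaximal] (htm : algebraMap R (AdicRing.RPow R (Ideal.span {t}) n) t ∈ m) :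
    ∃ p : Ideal (AdicRing.RPow R (Ideal.span {t}) n), p.IsPrime ∧ p ≤ m ∧
      algebraMap R (AdicRing.RPow R (Ideal.span {t}) n) t ∉ p ∧
      ringKrullDim (AdicRing.RPow R (Ideal.span {t}) n ⧸ p) = 1 := by
  classical
  let P := AdicRing.RPow R (Ideal.span {t}) n
  have hR := isBase_val (t := t) ht
  have hI : (Ideal.span {t}).FG := Submodule.fg_span_singleton t
  let ι : MvPolynomial (Fin n) R →ₐ[R] P := IsScalarTower.toAlgHom R _ P
  let _ := Ideal.Quotient.field m
  let k := IsLocalRing.ResidueField R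
  have hmR : m.comap (algebraMap R P) = IsLocalRing.maximalIdeal R := by
    refine le_antisymm (IsLocalRing.le_maximalIdeal (Ideal.IsPrime.ne_top inferInstance))
      fun x hx => ?_
    obtain ⟨l, d, hd⟩ := (isValBase (t := t) ht).pow_dvd x hx
    refine Ideal.IsPrime.mem_of_pow_mem inferInstance l ?_
    rw [Ideal.mem_comap, hd, map_mul]
    exact Ideal.mul_mem_right _ _ htm
  let _ : Algebra k (P ⧸ m) :=
    (Ideal.quotientMap m (algebraMap R P) hmR.ge).toAlgebra
  have : IsScalarTower R k (P ⧸ m) := IsScalarTower.of_algebraMap_eq fun x => rfl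
  have hft : Algebra.FiniteType k (P ⧸ m) := by
    refine Algebra.FiniteType.of_surjective
      (MvPolynomial.aeval fun i : Fin n => Ideal.Quotient.mk m (ι (MvPolynomial.X i))) fun y => ?_
    obtain ⟨x, rfl⟩ := Ideal.Quotient.mk_surjective y
    obtain ⟨p, hp⟩ := exists_sub_mem_rpow (I := Ideal.span {t}) hI n 1 x
    refine ⟨MvPolynomial.map (algebraMap R k) p, ?_⟩
    have h2 : x - ι p ∈ m := by
      refine Ideal.map_le_iff_le_comap.2 ?_ (by simpa [ι, pow_one] using hp)
      rw [Ideal.span_le, Set.singleton_subset_iff]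
      exact htm
    rw [Ideal.Quotient.eq.2 h2, MvPolynomial.aeval_map_algebraMap]
    show _ = ((Ideal.Quotient.mkₐ R m).comp ι) p
    congr 1
    refine MvPolynomial.algHom_ext fun i => ?_
    simp
  have hfin : Module.Finite k (P ⧸ m) := finite_of_finite_type_of_isJacobsonRing k (P ⧸ m)
  have hint : ∀ x : P ⧸ m, IsIntegral R x := fun x => by
    obtain ⟨q, hqm, hq⟩ := Algebra.IsIntegral.isIntegral (R := k) x
    obtain ⟨q', hq', -, hq'm⟩ := Polynomial.lifts_and_degree_eq_and_monic
      (f := algebraMap R k) ((Polynomial.lifts_iff_coeff_lifts q).2 fun j =>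
        IsLocalRing.residue_surjective (q.coeff j)) hqm
    exact ⟨q', hq'm, by rw [← hq', Polynomial.eval₂_map] at hq; exact hq⟩
  let Ω := AlgebraicClosure (FractionRing R)
  let V := integralClosure R Ω
  have hRV : Function.Injective (algebraMap R V) := fun a b h => by
    have h2 : algebraMap R Ω a = algebraMap R Ω b := congrArg Subtype.val h
    rw [IsScalarTower.algebraMap_apply R (FractionRing R) Ω,
      IsScalarTower.algebraMap_apply R (FractionRing R) Ω] at h2
    exact IsFractionRing.injective R (FractionRing R) ((algebraMap (FractionRing R) Ω).injective h2)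
  obtain ⟨M, hM, hMc⟩ := Ideal.exists_ideal_over_maximal_of_isIntegral (S := V)
    (IsLocalRing.maximalIdeal R) (by
      rw [(RingHom.injective_iff_ker_eq_bot _).1 hRV]; exact bot_le)
  let _ := Ideal.Quotient.field M
  have : IsAlgClosed (V ⧸ M) := IsAlgClosed.of_exists_root _ fun q hqm hqi => by
    obtain ⟨q', hq', hdeg, hq'm⟩ := Polynomial.lifts_and_degree_eq_and_monic
      (f := Ideal.Quotient.mk M) ((Polynomial.lifts_iff_coeff_lifts q).2 fun j =>
        Ideal.Quotient.mk_surjective (q.coeff j)) hqm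
    obtain ⟨z, hz⟩ := IsAlgClosed.exists_root (q'.map (algebraMap V Ω)) (by
      rw [hq'm.degree_map, hdeg]; exact hqi.degree_pos.ne')
    have hzi : IsIntegral V z := ⟨q', hq'm, by rwa [← Polynomial.eval_map]⟩
    have hzR : IsIntegral R z := isIntegral_trans z hzi
    refine ⟨Ideal.Quotient.mk M ⟨z, hzR⟩, ?_⟩
    have h0 : q'.eval ⟨z, hzR⟩ = 0 := by
      refine Subtype.ext ?_
      show algebraMap V Ω (q'.eval ⟨z, hzR⟩) = 0
      rw [← Polynomial.eval₂_at_apply, ← Polynomial.eval_map]
      exact hz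
    rw [← hq', Polynomial.eval_map, Polynomial.eval₂_at_apply, h0, map_zero]
  let _ : Algebra k (V ⧸ M) :=
    (Ideal.quotientMap M (algebraMap R V) hMc.ge).toAlgebra
  have : Algebra.IsAlgebraic k (P ⧸ m) := Algebra.IsAlgebraic.of_finite k _
  let g : P ⧸ m →ₐ[k] V ⧸ M := IsAlgClosed.lift
  choose v hv using fun i =>
    Ideal.Quotient.mk_surjective (g (Ideal.Quotient.mk m (ι (MvPolynomial.X i))))
  let B := Algebra.adjoin R (Set.range fun i => (v i : Ω))
  have : Module.Finite R B :=
    Module.Finite.iff_fg.2 (fg_adjoin_of_finite (Set.finite_range _)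
      (by rintro _ ⟨i, rfl⟩; exact (v i).2))
  have hBV : B ≤ V := Algebra.adjoin_le (by rintro _ ⟨i, rfl⟩; exact (v i).2)
  have hRB : Function.Injective (algebraMap R B) := fun a b h => hRV (Subtype.ext (by
    have h2 := congrArg Subtype.val h
    exact h2))
  have : IsAdicComplete ((Ideal.span {t}).map (algebraMap R B)) B :=
    (IsAdicComplete.map_algebraMap_iff _ B).2 (isAdicComplete_of_finite_base hR)
  let w : MvPolynomial (Fin n) R →ₐ[R] B :=
    MvPolynomial.aeval fun i => ⟨(v i : Ω), Algebra.subset_adjoin ⟨i, rfl⟩⟩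
  have hex := existsUnique_extension (R := R) (S := MvPolynomial (Fin n) R) (B := B) hI w
  rw [MvPolynomial.algebraMap_eq] at hex
  obtain ⟨G, hG, -⟩ := hex
  have hGs : Function.Surjective G := by
    rintro ⟨y, hy⟩
    induction hy using Algebra.adjoin_induction with
    | mem y hy =>
      obtain ⟨i, rfl⟩ := hy
      exact ⟨_, (hG (MvPolynomial.X i)).trans (MvPolynomial.aeval_X _ i)⟩
    | algebraMap a => exact ⟨algebraMap R P a, G.commutes a⟩
    | add y z hy hz ihy ihz =>
      obtain ⟨a, ha⟩ := ihy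
      obtain ⟨b, hb⟩ := ihz
      exact ⟨a + b, by rw [map_add, ha, hb]; rfl⟩
    | mul y z hy hz ihy ihz =>
      obtain ⟨a, ha⟩ := ihy
      obtain ⟨b, hb⟩ := ihz
      exact ⟨a * b, by rw [map_mul, ha, hb]; rfl⟩
  refine ⟨RingHom.ker G, RingHom.ker_isPrime G, fun x hx => ?_, fun h => ?_, ?_⟩
  · obtain ⟨q, hq⟩ := exists_sub_mem_rpow (I := Ideal.span {t}) hI n 1 x
    have h1 := Ideal.mem_map_of_mem (G : P →+* B) hq
    rw [Ideal.map_map, AlgHom.comp_algebraMap, pow_one] at h1
    have h2 : Subalgebra.inclusion hBV (w q) ∈ M := by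
      have h3 := Ideal.mem_map_of_mem (Subalgebra.inclusion hBV : B →+* V) h1
      rw [Ideal.map_map, AlgHom.comp_algebraMap] at h3
      have h4 : (Ideal.span {t}).map (algebraMap R V) ≤ M := by
        rw [Ideal.map_le_iff_le_comap, hMc, Ideal.span_le, Set.singleton_subset_iff]
        exact (isValBase ht).not_isUnit
      have h5 := h4 h3
      have hx0 : G x = 0 := hx
      simpa [hx0, hG] using h5
    have hcomp : ∀ q, Ideal.Quotient.mk M (Subalgebra.inclusion hBV (w q)) =
        g (Ideal.Quotient.mk m (ι q)) := by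
      have : ((Ideal.Quotient.mk M).comp (Subalgebra.inclusion hBV : B →+* V)).comp
          (w : MvPolynomial (Fin n) R →+* B) =
          ((g : P ⧸ m →+* V ⧸ M).comp (Ideal.Quotient.mk m)).comp
            (ι : MvPolynomial (Fin n) R →+* P) := by
        refine MvPolynomial.ringHom_ext (fun r => ?_) fun i => ?_
        · simp only [RingHom.comp_apply, RingHom.coe_coe]
          rw [show (MvPolynomial.C r : MvPolynomial (Fin n) R) = algebraMap R _ r from rfl,
            w.commutes, ι.commutes, AlgHom.commutes]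
          exact ((g.commutes (algebraMap R k r)).symm)
        · simp only [RingHom.comp_apply, RingHom.coe_coe, w, MvPolynomial.aeval_X]
          rw [← hv]
          rfl
      exact fun q => congrArg (fun h => h q) this
    have h6 : ι q ∈ m := by
      rw [← Ideal.Quotient.eq_zero_iff_mem]
      apply g.toRingHom.injective
      show g _ = g _
      rw [map_zero, ← hcomp, Ideal.Quotient.eq_zero_iff_mem]
      exact h2
    have h7 : x - ι q ∈ m := by
      refine Ideal.map_le_iff_le_comap.2 ?_ (by simpa [ι, pow_one] using hq)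
      rw [Ideal.span_le, Set.singleton_subset_iff]
      exact htm
    simpa using add_mem h7 h6
  · rw [RingHom.mem_ker, AlgHom.commutes, map_eq_zero_iff _ hRB] at h
    exact ht h
  · exact (ringKrullDim_eq_of_ringEquiv (RingHom.quotientKerEquivOfSurjective (f := (G : P →+* B))
      hGs)).trans (ringKrullDim_of_finite ht hRB)

theorem exists_finite_local_subalgebra (ht : t ≠ 0) {B : Type u} [CommRing B] [Algebra R B]
    [IsDomain B] [Module.Finite R B] (hT : Function.Injective (algebraMap R B)) {n : ℕ}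
    (b : Fin n → B) (hb : ∃ i, b i ≠ 0) :
    ∃ B' : Subalgebra B (FractionRing B), Module.Finite B ↥B' ∧ IsLocalRing ↥B' ∧
      ringKrullDim ↥B' = 1 ∧
      ∃ i, Ideal.span (Set.range (fun j => algebraMap B ↥B' (b j))) =
        Ideal.span {algebraMap B ↥B' (b i)} := by
  classical
  let L := FractionRing B
  let V := integralClosure B L
  have : ValuationRing V := valuationRing_integralClosure ht hT
  obtain ⟨i0, hi0⟩ := hb
  obtain ⟨c, hc, hdvd⟩ := exists_dvd_all (Finset.univ.image fun j => algebraMap B V (b j))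
    ⟨_, Finset.mem_image_of_mem _ (Finset.mem_univ i0)⟩
  obtain ⟨i, -, rfl⟩ := Finset.mem_image.1 hc
  choose d hd using fun j => hdvd _ (Finset.mem_image_of_mem _ (Finset.mem_univ j))
  let B' := Algebra.adjoin B (Set.range fun j => (d j : L))
  have : Module.Finite B B' :=
    Module.Finite.iff_fg.2 (fg_adjoin_of_finite (Set.finite_range _)
      (by rintro _ ⟨j, rfl⟩; exact (d j).2))
  have hle : B' ≤ V := Algebra.adjoin_le (by rintro _ ⟨j, rfl⟩; exact (d j).2)
  refine ⟨B', inferInstance, ?_, ?_, i, le_antisymm (Ideal.span_le.2 ?_)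
    (Ideal.span_mono (by simp))⟩
  · let _ : Algebra B' V := (Subalgebra.inclusion hle).toRingHom.toAlgebra
    have : IsScalarTower B B' V := IsScalarTower.of_algebraMap_eq fun x => rfl
    have : Algebra.IsIntegral B' V := Algebra.IsIntegral.tower_top B
    refine IsLocalRing.of_unique_max_ideal ⟨(IsLocalRing.maximalIdeal V).comap (algebraMap B' V),
      Ideal.isMaximal_comap_of_isIntegral_of_isMaximal _, fun P hP => ?_⟩
    obtain ⟨Q, hQ, hQc⟩ := Ideal.exists_ideal_over_maximal_of_isIntegral (S := V) P (by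
      rw [(RingHom.injective_iff_ker_eq_bot (algebraMap B' V)).1
        (Subalgebra.inclusion_injective hle)]
      exact bot_le)
    rw [← hQc, IsLocalRing.eq_maximalIdeal hQ]
  · rw [GrothLib.Dim.ringKrullDim_eq_of_isIntegral (R := B) (S := B')
      (FaithfulSMul.algebraMap_injective B B'), ringKrullDim_of_finite ht hT]
  · rintro _ ⟨j, rfl⟩
    rw [SetLike.mem_coe, Ideal.mem_span_singleton]
    refine ⟨⟨(d j : L), Algebra.subset_adjoin ⟨j, rfl⟩⟩, Subtype.ext ?_⟩
    show algebraMap B L (b j) = algebraMap B L (b i) * (d j : L)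
    exact congrArg (fun v : V => (v : L)) (hd j)

end GrothLib.RigidBase
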